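import Cfsg.Agent.EqLemmas
import Cfsg.Agent.Lib.ChevAut.Out
import Cfsg.Agent.Lib.ChevFixed.Basic
import Cfsg.Agent.Lib.ChevLang.Fixed
import Cfsg.Prelude.Def_StandardType
import Mathlib.FieldTheory.IsAlgClosed.AlgebraicClosure

/-!
# Inner-diagonal and field automorphisms of the Chevalley groups

* `coe_fieldHom`, `coe_diagHom` : the two homomorphisms as matrix maps;
* `innerDiag_iff`, `entryField_iff` : the notions of the statements in terms of them;
* `torusHom_eq_charUnit` : diagonal elements as matrices of characters;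
* `charUnit_mem_group` : over an algebraically closed field every character gives an element of the group;
* `exists_rational_split` : an element over the algebraic closure fixed by the Frobenius map is inner-diagonal.
-/

set_option autoImplicit false

namespace Cfsg.Agent.ChevBalance

open Cfsg Cfsg.Lie Cfsg.Lie.ChevalleyDatum Cfsg.Agent.Chev Cfsg.Agent.ChevBN Cfsg.Agent.ChevSt
  Cfsg.Agent.ChevAut Cfsg.Agent.ChevFixed

universe u v

variable {D : ChevalleyDatum} {M : List (List ℤ)} {d : ℤ}

section Torus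

variable {F : Type*} [Field F] (hD : Good D) (hR : Roots D M d)

include hD in
theorem chi_isRootCharacter (c : Fin D.rank → Fˣ) : D.IsRootCharacter (ChevOrder.chi c) := by
  constructor
  · intro r hr
    rw [ChevOrder.chi, ChevOrder.chi, ← Finset.prod_inv_distrib]
    refine Finset.prod_congr rfl fun i _ => ?_
    rw [(isLin_cartan hD i.isLt).neg r hr, _root_.zpow_neg]
  · intro r s k hr hs hk
    rw [ChevOrder.chi, ChevOrder.chi, ChevOrder.chi, ← Finset.prod_mul_distrib]
    refine Finset.prod_congr rfl fun i _ => ?_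
    rw [(isLin_cartan hD i.isLt).add r hr s hs k hk, _root_.zpow_add]

theorem charUnit_congr {χ ψ : ℕ → Fˣ} (h : ∀ q < D.nroots, χ q = ψ q) :
    charUnit D χ = (charUnit D ψ : GL D.Idx F) := by
  refine Units.ext ?_
  show D.charDiag F χ = D.charDiag F ψ
  rw [ChevalleyDatum.charDiag, ChevalleyDatum.charDiag]
  congr 1
  ext a
  rcases a with i | q
  · rfl
  · simp [h q.val q.isLt]

theorem isRootCharacter_map' {F' : Type*} [Field F'] {χ : ℕ → Fˣ} (hχ : D.IsRootCharacter χ)
    (f : Fˣ →* F'ˣ) : D.IsRootCharacter fun r => f (χ r) :=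
  ⟨fun r hr => by simp only [hχ.1 r hr, map_inv],
    fun r s k hr hs hk => by simp only [hχ.2 r s k hr hs hk, map_mul]⟩

theorem torusHom_eq_charUnit (c : Fin D.rank → Fˣ) :
    ChevOrder.torusHom D F c = charUnit D (ChevOrder.chi c) := by
  refine Units.ext ?_
  rw [ChevOrder.coe_torusHom]
  show dg (ChevOrder.chi c) = D.charDiag F (ChevOrder.chi c)
  rw [dg, ChevalleyDatum.charDiag]

include hR in
theorem charUnit_simple_ext {χ ψ : ℕ → Fˣ} (hχ : D.IsRootCharacter χ) (hψ : D.IsRootCharacter ψ)
    (h : ∀ i : Fin D.rank, χ (D.simple i) = ψ (D.simple i)) (hD : Good D) :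
    charUnit D χ = (charUnit D ψ : GL D.Idx F) :=
  charUnit_congr fun _ hq => char_ext hD hR hχ hψ h hq

include hD hR in
/-- Every family of values at the fundamental roots is attained, up to roots, by a diagonal element. -/
theorem charUnit_mem_of_root [IsAlgClosed F] {χ : ℕ → Fˣ} (hχ : D.IsRootCharacter χ) :
    charUnit D χ ∈ D.diagonalSubgroup F := by
  have hd : 0 < d.toNat := by have := hR.d_pos; omega
  choose y hy using fun k : Fin D.rank => IsAlgClosed.exists_pow_nat_eq (χ (D.simple k.val) : F) hd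
  have hy0 : ∀ k, y k ≠ 0 := fun k h0 =>
    (χ (D.simple k.val)).ne_zero (by rw [← hy k, h0, zero_pow hd.ne'])
  let z : Fin D.rank → Fˣ := fun k => Units.mk0 (y k) (hy0 k)
  let c : Fin D.rank → Fˣ := fun i => ∏ k : Fin D.rank, z k ^ entry M k.val i.val
  have hz : ∀ k, z k ^ d = χ (D.simple k.val) := fun k => by
    apply Units.ext
    conv_lhs => rw [show d = (d.toNat : ℤ) by omega, zpow_natCast]
    simpa [z] using hy k
  have hc : ∀ j : Fin D.rank, ChevOrder.chi c (D.simple j.val) = χ (D.simple j.val) := by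
    intro j
    simp only [ChevOrder.chi, c, ← Finset.prod_zpow, ← zpow_mul]
    rw [Finset.prod_comm, Fintype.prod_eq_single j fun k hk => ?_]
    · rw [← ChevOrder.zpow_sum', show (∑ i : Fin D.rank, entry M j.val i.val * D.cartan i.val (D.simple j.val)) =
        co D M j.val (D.simple j.val) from ?_, hR.dual j.val j.isLt j.val j.isLt, if_pos rfl, hz]
      rw [co, ← List.sum_toFinset _ List.nodup_range, List.toFinset_range, Finset.sum_range]
    · rw [← ChevOrder.zpow_sum', show (∑ i : Fin D.rank, entry M k.val i.val * D.cartan i.val (D.simple j.val)) =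
        co D M k.val (D.simple j.val) from ?_, hR.dual k.val k.isLt j.val j.isLt,
        if_neg fun e => hk (Fin.ext e), zpow_zero]
      rw [co, ← List.sum_toFinset _ List.nodup_range, List.toFinset_range, Finset.sum_range]
  rw [← charUnit_simple_ext hR (chi_isRootCharacter hD c) hχ hc hD, ← torusHom_eq_charUnit,
    ← ChevOrder.torusHom_range hD]
  exact ⟨c, rfl⟩

include hD hR in
theorem charUnit_mem_group [IsAlgClosed F] {χ : ℕ → Fˣ} (hχ : D.IsRootCharacter χ) :
    charUnit D χ ∈ D.group F :=
  borel_le_group hD hR (Subgroup.mem_sup_right (charUnit_mem_of_root hD hR hχ))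

end Torus

section Coe

variable {F : Type*} [Field F] (hD : Good D) (hR : Roots D M d)

theorem coe_fieldHom (σ : F ≃+* F) (g : D.group F) :
    (fieldHom hD hR σ g : GL D.Idx F) = mapG D (σ : F →+* F) (g : GL D.Idx F) :=
  act_eq hD (fun g r t hr hgr => by
    rw [show g = gx hD r t from Subtype.ext (Units.ext hgr), fieldHom_apply hD hR σ hr]
    rfl) g

theorem coe_diagHom (c : Fin D.rank → Fˣ) (g : D.group F) :
    (diagHom hD hR c g : GL D.Idx F) =
      charUnit D (chiOf D M d c) * (g : GL D.Idx F) * (charUnit D (chiOf D M d c))⁻¹ := by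
  obtain ⟨φ, hdiag, hφ⟩ := exists_diagAut hD (chiOf_isRootCharacter hD hR c)
  have e : diagHom hD hR c = φ := aut_ext hD hR fun i t => by
    have hi := hD.simple_lt _ i.isLt
    rw [hφ _ _ hi, hφ _ _ (hD.neg_lt _ hi), diagHom_apply hD hR c hi, diagHom_apply hD hR c (hD.neg_lt _ hi)]
    exact ⟨rfl, rfl⟩
  rw [e]
  obtain ⟨g, hg⟩ := g
  induction hg using Subgroup.closure_induction with
  | mem x hx =>
    obtain ⟨q, t, hx⟩ := hx
    obtain rfl : x = xg hD F q.val t := Units.ext (by rw [hx]; simp [ChevalleyDatum.x])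
    rw [charUnit_conj hD (chiOf_isRootCharacter hD hR c) q.isLt]
    exact congrArg Subtype.val (hφ q.val t q.isLt)
  | one =>
    show ((φ 1 : D.group F) : GL D.Idx F) = _
    rw [map_one, mul_one, mul_inv_cancel]
    rfl
  | mul x y hx hy ihx ihy =>
    show ((φ (⟨x, hx⟩ * ⟨y, hy⟩) : D.group F) : GL D.Idx F) = _
    rw [map_mul, Subgroup.coe_mul, ihx, ihy]
    simp only [mul_assoc, inv_mul_cancel_left]
  | inv x hx ihx =>
    show ((φ (⟨x, hx⟩⁻¹) : D.group F) : GL D.Idx F) = _
    rw [map_inv, InvMemClass.coe_inv, ihx]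
    simp only [mul_inv_rev, inv_inv, mul_assoc]

/-- Inner-diagonal automorphisms. -/
theorem innerDiag_iff (γ : MulAut (D.group F)) : D.IsInnerDiagonalAutOn (D.group F) γ ↔
    ∃ (x : D.group F) (c : Fin D.rank → Fˣ), γ = MulAut.conj x * diagHom hD hR c := by
  constructor
  · rintro ⟨g, hg, χ, hχ, h⟩
    refine ⟨⟨g, hg⟩, fun i => χ (D.simple i), MulEquiv.ext fun t => Subtype.ext ?_⟩
    rw [MulAut.mul_apply, MulAut.conj_apply, Subgroup.coe_mul, Subgroup.coe_mul, InvMemClass.coe_inv,
      coe_diagHom, charUnit_simple_ext hR (chiOf_isRootCharacter hD hR _) hχ (chiOf_simple hD hR _) hD]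
    refine Units.ext ?_
    rw [h t]
    simp only [Units.val_mul, charUnit, Units.inv_mk]
    simp only [mul_assoc]
  · rintro ⟨x, c, rfl⟩
    refine ⟨x, x.2, chiOf D M d c, chiOf_isRootCharacter hD hR c, fun t => ?_⟩
    rw [MulAut.mul_apply, MulAut.conj_apply, Subgroup.coe_mul, Subgroup.coe_mul, InvMemClass.coe_inv,
      coe_diagHom]
    simp only [Units.val_mul, charUnit, Units.inv_mk]
    simp only [mul_assoc]

/-- Entrywise field automorphisms. -/
theorem entryField_iff (φ : MulAut (D.group F)) : IsEntrywiseFieldAutOn (D.group F) φ ↔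
    ∃ σ, φ = fieldHom hD hR σ := by
  constructor
  · rintro ⟨σ, h⟩
    exact ⟨σ, MulEquiv.ext fun t => Subtype.ext (Units.ext (by rw [h t, coe_fieldHom]; rfl))⟩
  · rintro ⟨σ, rfl⟩
    exact ⟨σ, fun t => by rw [coe_fieldHom]; rfl⟩

end Coe

section Rational

variable {F : Type u} [Field F] [Fintype F] {K : Type v} [Field K] [Algebra F K] [Algebra.IsAlgebraic F K]
  (hD : Good D) (hR : Roots D M d)

include hD hR in
/-- A fixed element over the algebraic closure is a product of a rational element and a rational character. -/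
theorem exists_rational_split (σ : K →+* K) (hσ : ∀ z, σ z = z ^ Fintype.card F) {g : GL D.Idx K}
    (hg : g ∈ D.group K) (hfix : mapG D σ g = g) :
    ∃ (x : D.group F) (χ : ℕ → Fˣ), D.IsRootCharacter χ ∧
      g = mapG D (algebraMap F K) ((x : GL D.Idx F) * charUnit D χ) := by
  obtain ⟨L, hL, gL, hgL, eg⟩ := ChevLang.exists_defined (F := F) hD hg
  have : Finite L := Module.finite_of_finite F
  let σL : L →+* L := (σ.comp (algebraMap L K)).codRestrict L.toSubfield.toSubring fun x => by
    show σ (x : K) ∈ L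
    rw [hσ]
    exact pow_mem x.2 _
  have hσL : (algebraMap L K).comp σL = σ.comp (algebraMap L K) := RingHom.ext fun x => rfl
  have hfixL : mapG D σL gL = gL := by
    apply mapG_injective (algebraMap L K)
    rw [ChevLang.mapG_comp, hσL, ← ChevLang.mapG_comp, eg, hfix]
  have hfx : ∀ t, σL t = t → ∃ t₀, algebraMap F L t₀ = t := fun t ht => by
    have h1 : σ (t : K) = t := congrArg Subtype.val ht
    rw [hσ] at h1
    obtain ⟨a, ha⟩ := ChevLang.exists_eq_of_pow_card h1
    exact ⟨a, Subtype.ext ha⟩
  obtain ⟨_, ⟨v, hv, rfl⟩, _, ⟨w, hw, rfl⟩, h, hh, e⟩ :=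
    ChevLang.exists_fixed_split hD hR (algebraMap F L) σL hfx hgL hfixL
  have hιL : (algebraMap L K).comp (algebraMap F L) = algebraMap F K := RingHom.ext fun x => rfl
  obtain ⟨c, rfl⟩ := (ChevOrder.torusHom_range (F := L) hD).ge hh
  have hσι : σ.comp (algebraMap F K) = algebraMap F K :=
    RingHom.ext fun a => by rw [RingHom.comp_apply, hσ, ← map_pow, FiniteField.pow_card]
  set h' := mapG D (algebraMap L K) (ChevOrder.torusHom D L c) with hh'
  have eg' : g = mapG D (algebraMap F K) v * h' * mapG D (algebraMap F K) w := by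
    rw [← eg, e, map_mul, map_mul, ChevLang.mapG_comp, ChevLang.mapG_comp, hιL]
  have hh'fix : mapG D σ h' = h' := by
    have e1 := hfix
    rw [eg', map_mul, map_mul, ChevLang.mapG_comp (algebraMap F K) σ, ChevLang.mapG_comp (algebraMap F K) σ, hσι] at e1
    exact mul_left_cancel (mul_right_cancel e1)
  have hval : ∀ q : Fin D.nroots,
      ∃ a : F, algebraMap F K a = algebraMap L K (ChevOrder.chi c q.val : L) := fun q => by
    refine ChevLang.exists_eq_of_pow_card ?_
    have e2 := congrArg (fun N : GL D.Idx K => (N : Matrix D.Idx D.Idx K) (Sum.inr q) (Sum.inr q)) hh'fix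
    simpa [hh', coe_mapG, ChevOrder.coe_torusHom, dg, hσ] using e2
  choose a ha using hval
  have ha0 : ∀ q, a q ≠ 0 := fun q h0 => by
    have := ha q
    rw [h0, map_zero, eq_comm, map_eq_zero] at this
    exact (ChevOrder.chi c q.val).ne_zero this
  let c₀ : Fin D.rank → Fˣ := fun i =>
    Units.mk0 (a ⟨D.simple i.val, hD.simple_lt _ i.isLt⟩) (ha0 _)
  let χ := chiOf D M d c₀
  have hχ := chiOf_isRootCharacter hD hR c₀
  let f : Fˣ →* Kˣ := Units.map (algebraMap F K : F →* K)
  have hmap : mapG D (algebraMap F K) (charUnit D χ) = h' := by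
    have e3 : h' = charUnit D fun q => Units.map (algebraMap L K : L →* K) (ChevOrder.chi c q) := by
      apply Units.ext
      rw [hh', coe_mapG, ChevOrder.coe_torusHom]
      simp only [charUnit, dg, ChevalleyDatum.charDiag]
      rw [Matrix.diagonal_map (map_zero _)]
      congr 1
      ext x
      rcases x with i | q <;> simp
    have e4 : mapG D (algebraMap F K) (charUnit D χ) = charUnit D fun q => f (χ q) := by
      apply Units.ext
      rw [coe_mapG]
      simp only [charUnit, ChevalleyDatum.charDiag]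
      rw [Matrix.diagonal_map (map_zero _)]
      congr 1
      ext x
      rcases x with i | q <;> simp [f]
    rw [e3, e4]
    refine charUnit_simple_ext hR (isRootCharacter_map' hχ f)
      (isRootCharacter_map' (chi_isRootCharacter hD c) _) (fun i => ?_) hD
    show f (chiOf D M d c₀ (D.simple i.val)) = _
    rw [chiOf_simple hD hR]
    exact Units.ext (ha ⟨_, hD.simple_lt _ i.isLt⟩)
  refine ⟨⟨v, hv⟩ * ⟨charUnit D χ * w * (charUnit D χ)⁻¹, charUnit_conj_mem hD hχ hw⟩, χ, hχ, ?_⟩
  rw [eg', ← hmap, ← map_mul, ← map_mul, Subgroup.coe_mul]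
  congr 1
  simp only [mul_assoc, inv_mul_cancel, mul_one]

end Rational

end Cfsg.Agent.ChevBalance
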