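import Cfsg.Agent.Lib.ChevBalance.Field
import Cfsg.Agent.Lib.ChevAut.OutCards
import Mathlib.GroupTheory.PGroup

/-!
# Automorphisms inducing the trivial permutation of the diagram

* `crit_of_power` : the criterion only depends on the group generated;
* `exists_decomp` : such an automorphism is inner-diagonal times a field automorphism;
* `crit_caseA` : the criterion for such an automorphism of prime order, not inner-diagonal;
* `permHom_eq_one_of_decomp` : the converse of `exists_decomp`;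
* `fix_dvd` : a prime dividing the order of the group and of the automorphism divides the fixed points.
-/

set_option autoImplicit false
set_option linter.style.haveILetI false

namespace Cfsg.Agent.ChevBalance

open Cfsg Cfsg.Lie Cfsg.Lie.ChevalleyDatum Cfsg.Agent.Chev Cfsg.Agent.ChevBN Cfsg.Agent.ChevSt
  Cfsg.Agent.ChevAut Cfsg.Agent.ChevFixed Cfsg.Agent.LocalBalance

universe u

section Power

variable {K : Type*} [Group K] {p : ℕ}

theorem fix_pow_le (x : MulAut K) (l : ℕ) : fixK x ≤ fixK (x ^ l) := by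
  intro k hk
  induction l with
  | zero => simp [mem_fixK]
  | succ l ih =>
    rw [mem_fixK, pow_succ, MulAut.mul_apply, mem_fixK.1 hk]
    exact ih

/-- The criterion only depends on the group generated. -/
theorem crit_of_power {x : MulAut K} {l m : ℕ} (hx : (x ^ l) ^ m = x) (h : Crit p (x ^ l)) : Crit p x := by
  have e : fixK (x ^ l) = fixK x :=
    le_antisymm ((fix_pow_le (x ^ l) m).trans (by rw [hx])) (fix_pow_le x l)
  refine ⟨e ▸ h.ne, h.inj, fun hd N hN hn hc => h.core (e ▸ hd) N (e ▸ hN) (e ▸ hn) hc,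
    fun hd β hβ hk => h.rigid (e ▸ hd) β ?_ (e ▸ hk)⟩
  exact (Commute.pow_right hβ l).eq

/-- A prime dividing the order of the group and of the automorphism divides the fixed points. -/
theorem fix_dvd [Finite K] [Fact p.Prime] {x : MulAut K} (hx : x ^ p = 1) (hd : p ∣ Nat.card K) :
    p ∣ Nat.card (fixK x) := by
  let S := Subgroup.zpowers x
  have hS : IsPGroup p S := by
    rintro ⟨s, k, rfl⟩
    refine ⟨1, Subtype.ext ?_⟩
    show (x ^ k) ^ p ^ 1 = 1
    rw [pow_one, ← zpow_natCast, ← zpow_mul, mul_comm, zpow_mul, zpow_natCast, hx, one_zpow]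
  have hfix : (MulAction.fixedPoints S K) = (fixK x : Set K) := by
    ext k
    refine ⟨fun h => h ⟨x, Subgroup.mem_zpowers x⟩, fun h s => ?_⟩
    obtain ⟨s, hs⟩ := s
    have h1 : Subgroup.zpowers x ≤ MulAction.stabilizer (MulAut K) k := Subgroup.zpowers_le.2 h
    exact h1 hs
  have h1 := hS.card_modEq_card_fixedPoints K
  rw [hfix] at h1
  exact Nat.modEq_zero_iff_dvd.1 (h1.symm.trans (Nat.modEq_zero_iff_dvd.2 hd))

end Power

variable {D : ChevalleyDatum} {M : List (List ℤ)} {d : ℤ} (hD : Good D) (hR : Roots D M d)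
  {F : Type u} [Field F] [Fintype F]
  (hlist : D ∈ [chevG2, chevB2, chevD4, chevF4, chevE6, chevE7, chevE8])

include hlist

theorem exists_decomp {β : MulAut (D.group F)} (h : permHom hD hR hlist β = 1) :
    ∃ (x : D.group F) (c : Fin D.rank → Fˣ) (σ : F ≃+* F),
      β = MulAut.conj x * diagHom hD hR c * fieldHom hD hR σ := by
  obtain ⟨x, c, g, σ, π, -, hg, rfl⟩ := exists_parts hD hR hlist β
  have hfg : Fix g π := fix_of_apply hD (fun i => (bijective_pow hD i (π i)).2)
    (fun i => (bijective_pow hD i (π i)).2) hg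
  have hx : permHom hD hR hlist (MulAut.conj x) = 1 := inn_le_ker hD hR hlist ⟨x, rfl⟩
  rw [map_mul, map_mul, map_mul, hx, permHom_of_fix hD hR hlist (fix_diagHom hD hR c),
    permHom_of_fix hD hR hlist hfg, permHom_of_fix hD hR hlist (fix_fieldHom hD hR σ), one_mul, one_mul,
    mul_one] at h
  subst h
  refine ⟨x, c, σ, ?_⟩
  have hg1 : g = 1 := aut_ext hD hR fun i t => by
    have he : D.graphExp (ringChar F) i.val i.val = 1 := by simp [ChevalleyDatum.graphExp]
    rw [(hg i t).1, (hg i t).2, Equiv.Perm.one_apply, he, pow_one]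
    exact ⟨rfl, rfl⟩
  rw [hg1, mul_one]

theorem permHom_eq_one_of_decomp {β γ φ : MulAut (D.group F)}
    (hγ : D.IsInnerDiagonalAutOn (D.group F) γ) (hφ : IsEntrywiseFieldAutOn (D.group F) φ)
    (e : β = φ.trans γ) : permHom hD hR hlist β = 1 := by
  obtain ⟨x, c, rfl⟩ := (innerDiag_iff hD hR γ).1 hγ
  obtain ⟨σ, rfl⟩ := (entryField_iff hD hR φ).1 hφ
  have hx : permHom hD hR hlist (MulAut.conj x) = 1 := inn_le_ker hD hR hlist ⟨x, rfl⟩
  have e' : β = MulAut.conj x * diagHom hD hR c * fieldHom hD hR σ := e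
  rw [e', map_mul, map_mul, hx, permHom_of_fix hD hR hlist (fix_diagHom hD hR c),
    permHom_of_fix hD hR hlist (fix_fieldHom hD hR σ), one_mul, one_mul]

/-- The criterion, and the shape, for automorphisms trivial on the diagram. -/
theorem crit_caseA {r : ℕ} [Fact r.Prime] [CharP F r] {p : ℕ} [Fact p.Prime] (hpr : p ≠ r)
    {β : MulAut (D.group F)} (hβ : β ^ p = 1) (hnot : ¬ D.IsInnerDiagonalAutOn (D.group F) β)
    (h : permHom hD hR hlist β = 1) :
    Crit p β ∧ ∃ γ φ : MulAut (D.group F), D.IsInnerDiagonalAutOn (D.group F) γ ∧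
      IsEntrywiseFieldAutOn (D.group F) φ ∧ β = φ.trans γ := by
  obtain ⟨x, c, σ, e⟩ := exists_decomp hD hR hlist h
  refine ⟨?_, _, _, (innerDiag_iff hD hR _).2 ⟨x, c, rfl⟩, (entryField_iff hD hR _).2 ⟨σ, rfl⟩, e⟩
  have hp : p.Prime := Fact.out
  have hrank : 0 < D.rank := (conn_of_mem hlist).1
  have hσ1 : σ ≠ 1 := fun h1 => hnot ((innerDiag_iff hD hR β).2 ⟨x, c, by rw [e, h1, map_one, mul_one]⟩)
  -- modulo inner-diagonal automorphisms
  haveI := diagOut_normal (F := F) hD hR hlist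
  set A := (diagOut (F := F) hD hR).range
  let π₀ : MulAut (D.group F) →* Out (D.group F) ⧸ A :=
    (QuotientGroup.mk' A).comp (QuotientGroup.mk' (Inn (D.group F)))
  have hπ : ∀ (x : D.group F) (c : Fin D.rank → Fˣ) (τ : F ≃+* F),
      π₀ (MulAut.conj x * diagHom hD hR c * fieldHom hD hR τ) = QuotientGroup.mk' A (fieldOut hD hR τ) := by
    intro x c τ
    have h1 : π₀ (MulAut.conj x) = 1 := by
      show QuotientGroup.mk' A (QuotientGroup.mk (MulAut.conj x)) = 1
      rw [(QuotientGroup.eq_one_iff (MulAut.conj x)).2 (MonoidHom.mem_range.2 ⟨x, rfl⟩), map_one]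
    have h2 : π₀ (diagHom hD hR c) = 1 := (QuotientGroup.eq_one_iff _).2 ⟨c, rfl⟩
    rw [map_mul, map_mul, h1, h2, one_mul, one_mul]
    rfl
  have hσp : σ ^ p = 1 := by
    have h1 : QuotientGroup.mk' A (fieldOut hD hR (σ ^ p)) = 1 := by
      rw [map_pow, map_pow, ← hπ x c σ, ← e, ← map_pow, hβ, map_one]
    have h2 := Subgroup.disjoint_def.1 (disjoint_diag_field (F := F) hD hR hrank)
      ((QuotientGroup.eq_one_iff _).1 h1) ⟨_, rfl⟩
    exact fieldOut_injective (F := F) hD hR hrank (h2.trans (map_one _).symm)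
  -- Frobenius
  obtain ⟨f, -, hf⟩ := FiniteField.card F r
  haveI : PerfectRing F r := PerfectRing.ofFiniteOfIsReduced r F
  let ρ₀ : F ≃+* F := frobeniusEquiv F r
  have hρ₀ : ∀ (k : ℕ) (t : F), (ρ₀ ^ k) t = t ^ r ^ k := by
    intro k
    induction k with
    | zero => intro t; simp
    | succ k ih =>
      intro t
      rw [pow_succ, RingAut.mul_apply, ih, pow_succ' r k, pow_mul]
      rfl
  haveI : Finite (F ≃+* F) := Finite.of_injective (fun a : F ≃+* F => (a : F → F)) DFunLike.coe_injective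
  have hcardA : Nat.card (F ≃+* F) = f := (AutPSL.fieldAut_facts (F := F) r f f.pos hf).2
  have hord : orderOf ρ₀ = f := by
    refine le_antisymm (hcardA ▸ orderOf_le_card) ?_
    by_contra hlt
    have hk : 0 < orderOf ρ₀ := orderOf_pos ρ₀
    have hall : ∀ t : F, t ^ r ^ orderOf ρ₀ = t := fun t => by
      rw [← hρ₀, pow_orderOf_eq_one]; rfl
    have hr1 : 1 < r ^ orderOf ρ₀ := Nat.one_lt_pow hk.ne' (Fact.out : r.Prime).one_lt
    have hP : (Polynomial.X ^ (r ^ orderOf ρ₀) - Polynomial.X : Polynomial F) ≠ 0 :=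
      FiniteField.X_pow_card_sub_X_ne_zero F hr1
    have h1 := Polynomial.card_le_degree_of_subset_roots (Z := Finset.univ)
      (p := (Polynomial.X ^ (r ^ orderOf ρ₀) - Polynomial.X : Polynomial F)) fun t _ => by
        rw [Polynomial.mem_roots hP]
        simp [hall t]
    rw [FiniteField.X_pow_card_sub_X_natDegree_eq F hr1, Finset.card_univ, hf] at h1
    exact absurd ((Nat.pow_le_pow_iff_right (Fact.out : r.Prime).one_lt).1 h1) hlt
  have hgen : Subgroup.zpowers ρ₀ = ⊤ := Subgroup.eq_top_of_card_eq _ (by rw [Nat.card_zpowers, hord, hcardA])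
  obtain ⟨k, hk⟩ : ∃ k : ℕ, ρ₀ ^ k = σ := by
    have h1 : σ ∈ Subgroup.zpowers ρ₀ := hgen ▸ Subgroup.mem_top σ
    exact Submonoid.mem_powers_iff _ _ |>.1 (mem_powers_iff_mem_zpowers.2 h1)
  have hpf : p ∣ (f : ℕ) := by
    rw [← hcardA, ← orderOf_eq_prime hσp hσ1]
    exact orderOf_dvd_natCard σ
  obtain ⟨e₀, he₀⟩ := hpf
  have hkp : (f : ℕ) ∣ k * p := by
    rw [← hord]
    refine orderOf_dvd_of_pow_eq_one ?_
    rw [pow_mul, hk, hσp]
  obtain ⟨m, rfl⟩ : e₀ ∣ k := by
    rw [he₀, mul_comm k p] at hkp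
    exact Nat.dvd_of_mul_dvd_mul_left hp.pos hkp
  have hm : ¬ p ∣ m := by
    rintro ⟨j, rfl⟩
    refine hσ1 ?_
    rw [← hk, show e₀ * (p * j) = (p * e₀) * j by ring, pow_mul, ← he₀, ← hord, pow_orderOf_eq_one, one_pow]
  obtain ⟨l, hl⟩ : ∃ l, m * l ≡ 1 [MOD p] := by
    obtain ⟨l, -, hl⟩ := Nat.exists_mul_mod_eq_one_of_coprime
      ((Nat.coprime_comm.1 ((hp.coprime_iff_not_dvd).2 hm))) hp.one_lt
    exact ⟨l, by rw [Nat.ModEq, hl, Nat.one_mod_eq_one.2 hp.ne_one]⟩
  -- the power with the Frobenius map as field part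
  obtain ⟨x', c', e'⟩ : ∃ (x' : D.group F) (c' : Fin D.rank → Fˣ),
      β ^ l = MulAut.conj x' * diagHom hD hR c' * fieldHom hD hR (σ ^ l) := by
    have h1 : π₀ (β ^ l) = QuotientGroup.mk' A (fieldOut hD hR (σ ^ l)) := by
      rw [map_pow, e, hπ, ← map_pow, ← map_pow]
    have h2 : (QuotientGroup.mk (β ^ l) : Out (D.group F)) * (fieldOut hD hR (σ ^ l))⁻¹ ∈ A := by
      rw [← QuotientGroup.eq_one_iff, QuotientGroup.mk_mul, QuotientGroup.mk_inv]
      exact mul_inv_eq_one.2 h1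
    obtain ⟨c', hc'⟩ := h2
    have h3 : β ^ l * (diagHom hD hR c' * fieldHom hD hR (σ ^ l))⁻¹ ∈ Inn (D.group F) := by
      rw [← QuotientGroup.eq_one_iff, QuotientGroup.mk_mul, QuotientGroup.mk_inv, QuotientGroup.mk_mul]
      show (QuotientGroup.mk (β ^ l) : Out (D.group F)) * (diagOut hD hR c' * fieldOut hD hR (σ ^ l))⁻¹ = 1
      rw [hc', inv_mul_cancel_right, mul_inv_cancel]
    obtain ⟨x', hx'⟩ := h3
    exact ⟨x', c', by rw [mul_assoc, hx', inv_mul_cancel_right]⟩
  have hρp : (ρ₀ ^ e₀) ^ p = 1 := by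
    rw [← pow_mul, mul_comm e₀ p, ← he₀, ← hord, pow_orderOf_eq_one]
  have hσl : σ ^ l = ρ₀ ^ e₀ := by
    rw [← hk, ← pow_mul, mul_assoc, pow_mul]
    exact (pow_eq_pow_mod (m * l) hρp).trans (by rw [hl, Nat.one_mod_eq_one.2 hp.ne_one, pow_one])
  rw [hσl] at e'
  have he1 : 1 ≤ e₀ := by
    rcases Nat.eq_zero_or_pos e₀ with h0 | h0
    · rw [h0, mul_zero] at he₀
      exact absurd he₀ f.ne_zero
    · exact h0
  obtain ⟨α, hα⟩ := exists_conj_field hD hR (r := r) (p := p) (e := e₀) he1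
    (by rw [hf, he₀, mul_comm]) (σ := ρ₀ ^ e₀) (fun t => hρ₀ e₀ t)
    (β := β ^ l) (by rw [← pow_mul, mul_comm, pow_mul, hβ, one_pow]) x' c' e'
  refine crit_of_power (l := l) (m := m) ?_ (Crit.of_conj (α := α) (hα ▸ crit_fieldHom hD hR hlist hpr hρp))
  rw [← pow_mul, mul_comm l m, pow_eq_pow_mod (m * l) hβ, hl, Nat.one_mod_eq_one.2 hp.ne_one, pow_one]

end Cfsg.Agent.ChevBalance
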