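import Cfsg.Agent.Lib.ChevBalance.Perm
import Cfsg.Agent.Lib.LocalBalance.TriMain
import Cfsg.Agent.Lib.LocalBalance.PlusMain
import Cfsg.Agent.Lib.ChevOrder.Final
import Cfsg.Agent.S1082

/-!
# D₄: automorphisms moving the diagram, through `PΩ⁺₈`

* `crit_congr` : the criterion is carried over by isomorphisms;
* `lift_oc_eq_one` : a homomorphism from `Out PΩ⁺₈` onto at most six permutations kills the inner-diagonal classes;
* `d4_crit` : the criterion for automorphisms moving the diagram.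
-/

set_option autoImplicit false
set_option linter.style.haveILetI false

namespace Cfsg.Agent.ChevBalance

open Cfsg Cfsg.Lie Cfsg.Lie.ChevalleyDatum Cfsg.Agent.Chev Cfsg.Agent.ChevBN Cfsg.Agent.ChevSt
  Cfsg.Agent.ChevAut Cfsg.Agent.ChevFixed Cfsg.Agent.LocalBalance
open Cfsg.Agent.AutPOmega Cfsg.Agent.Triality Cfsg.Agent.Orth
open Cfsg.Agent.OrthEven (par baseU)
open Cfsg.Agent.OrthOuter (Sim toSim conjAut)

universe u

/-- The criterion is carried over by isomorphisms. -/
theorem crit_congr {K L : Type*} [Group K] [Group L] (e : K ≃* L) {p : ℕ} {x : MulAut K}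
    (h : Crit p (MulAut.congr e x)) : Crit p x := by
  set y := MulAut.congr e x
  have hy : ∀ k, y (e k) = e (x k) := fun k => by simp [y, MulAut.congr]
  have hmem : ∀ k, k ∈ fixK x ↔ e k ∈ fixK y := fun k => by
    rw [mem_fixK, mem_fixK, hy]
    exact ⟨congrArg e, fun h' => e.injective h'⟩
  have hmap : (fixK x).map e.toMonoidHom = fixK y := by
    ext l
    obtain ⟨k, rfl⟩ := e.surjective l
    rw [← hmem]
    exact ⟨fun ⟨j, hj, ej⟩ => e.injective ej ▸ hj, fun hk => ⟨k, hk, rfl⟩⟩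
  have hcard : Nat.card (fixK y) = Nat.card (fixK x) := by
    rw [← hmap]; exact Nat.card_congr ((fixK x).equivMapOfInjective _ e.injective).toEquiv.symm
  refine ⟨fun h0 => h.ne ?_, fun a b hab => ?_, fun hd N hN hn hc => ?_, fun hd β hβ hk => ?_⟩
  · rw [← hmap, h0, Subgroup.map_bot]
  · refine e.injective (h.inj (MulEquiv.ext fun l => ?_))
    obtain ⟨k, rfl⟩ := e.surjective l
    have := congrArg e (DFunLike.congr_fun hab k)
    simpa [MulAut.conj_apply, map_mul, map_inv] using this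
  · have := h.core (hcard ▸ hd) (N.map e.toMonoidHom) (hmap ▸ Subgroup.map_mono hN) ?_ ?_
    · exact (Subgroup.map_eq_bot_iff_of_injective _ e.injective).1 this
    · rintro g hg _ ⟨n, hn', rfl⟩
      obtain ⟨g', rfl⟩ := e.surjective g
      exact ⟨g' * n * g'⁻¹, hn g' ((hmem g').2 hg) n hn', by simp⟩
    · rwa [← Nat.card_congr (N.equivMapOfInjective _ e.injective).toEquiv]
  · have h1 := h.rigid (hcard ▸ hd) (MulAut.congr e β) ?_ fun k hk' => ?_
    · rw [← map_pow] at h1
      exact (MulAut.congr e).injective (h1.trans (map_one _).symm)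
    · rw [← map_mul, hβ, map_mul]
    · obtain ⟨j, rfl⟩ := e.surjective k
      have := congrArg e (hk j ((hmem j).2 hk'))
      simpa [MulAut.congr] using this

theorem d4_kill {G : Type*} [Group G] [Finite G] (h6 : Nat.card G ≤ 6) {a s t : G} (ha : a ^ 3 = 1)
    (hs : s * s = 1) (ht : t * t = 1) (hst : s * t = t * s) (h1 : a * s * a⁻¹ = t)
    (h2 : a * t * a⁻¹ = t * s) : s = 1 ∧ t = 1 := by
  have hfin : s = 1 → t = 1 := fun e => by rw [← h1, e, mul_one, mul_inv_cancel]
  by_cases hsid : s = t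
  · subst hsid
    rw [hs, conj_eq_one_iff] at h2
    exact ⟨h2, h2⟩
  exfalso
  have hs1 : s ≠ 1 := fun e => hsid (e.trans (hfin e).symm)
  have ht1 : t ≠ 1 := fun e => by rw [← h1, conj_eq_one_iff] at e; exact hs1 e
  have ha1 : a ≠ 1 := fun e => hsid (by rw [← h1, e, one_mul, inv_one, mul_one])
  have hoa : orderOf a = 3 := orderOf_eq_prime ha ha1
  have hos : orderOf s = 2 := orderOf_eq_prime ((sq s).trans hs) hs1
  have hot : orderOf t = 2 := orderOf_eq_prime ((sq t).trans ht) ht1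
  have h6' : Nat.card G = 6 := by
    have d2 : 2 ∣ Nat.card G := hos ▸ orderOf_dvd_natCard s
    have d3 : 3 ∣ Nat.card G := hoa ▸ orderOf_dvd_natCard a
    have := Nat.card_pos (α := G)
    omega
  have hidx : (Subgroup.zpowers a).index = 2 := by
    have := Subgroup.card_mul_index (Subgroup.zpowers a)
    rw [Nat.card_zpowers, hoa, h6'] at this
    omega
  have hnmem : ∀ w : G, orderOf w = 2 → w ∉ Subgroup.zpowers a := fun w hw hmem => by
    have := Subgroup.orderOf_dvd_natCard _ hmem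
    rw [hw, Nat.card_zpowers, hoa] at this
    norm_num at this
  have hmem : s * t ∈ Subgroup.zpowers a :=
    (Subgroup.mul_mem_iff_of_index_two hidx).2 (iff_of_false (hnmem s hos) (hnmem t hot))
  have hdiv := Subgroup.orderOf_dvd_natCard _ hmem
  rw [Nat.card_zpowers, hoa] at hdiv
  have hsq : (s * t) ^ 2 = 1 := by
    rw [sq, mul_assoc, ← mul_assoc t, ← hst, mul_assoc s t t, ht, mul_one, hs]
  have : orderOf (s * t) = 1 :=
    Nat.dvd_one.1 ((show Nat.gcd 2 3 = 1 by norm_num) ▸ Nat.dvd_gcd (orderOf_dvd_of_pow_eq_one hsq) hdiv)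
  rw [orderOf_eq_one_iff] at this
  exact hsid (calc s = s * (t * t) := by rw [ht, mul_one]
    _ = t := by rw [← mul_assoc, this, one_mul])

section

variable {F : Type u} [Field F] [Fintype F]

set_option quotPrecheck false in
local notation "P8" => POmega F ⇑(Q4 F)

set_option maxHeartbeats 1600000 in
/-- A homomorphism with at most six values kills the inner-diagonal classes. -/
theorem lift_oc_eq_one {G : Type*} [Group G] [Finite G] (h6 : Nat.card G ≤ 6) (Φ : Out P8 →* G)
    {g : Sim (Q4 F)} (hg : par (baseU 4 F) (g : GL IJ F) = 1) : Φ (oc (Q4 F) g) = 1 := by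
  have hkill : ∀ ν : Fˣ, Φ (sOut ν) = 1 ∧ Φ (dOut ν) = 1 := fun ν => by
    refine d4_kill h6 (a := Φ (tOut F)) ?_ ?_ ?_ ?_ ?_ ?_
    · rw [← map_pow, pow_succ, sq, tOut_cube, map_one]
    · rw [← map_mul, sOut_sq, map_one]
    · rw [← map_mul, dOut_sq, map_one]
    · rw [← map_mul, ← map_mul, (sOut_dOut_comm ν).eq]
    · rw [mul_inv_eq_iff_eq_mul, ← map_mul, ← map_mul, tOut_sOut]
    · rw [mul_inv_eq_iff_eq_mul, ← map_mul, ← map_mul, ← map_mul, tOut_dOut]
  obtain ⟨ν, hν⟩ := exists_nu (F := F)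
  obtain ⟨j, k, l, h⟩ := exists_oc_eq (m := 4) le_rfl 0 hν g
  have hpar : par (baseU 4 F) (g : GL IJ F) = (-1) ^ l := by
    rw [oc_eq_par (h.trans (by rw [← map_pow, ← map_mul])), par_mulS, par_pd, one_mul]
    clear h
    induction l with
    | zero => rw [pow_zero, pow_zero]; exact hS4.par_one
    | succ l ih =>
      rw [pow_succ, par_mulS, ih, pow_succ]
      congr 1
      rw [OrthOuter.toSim_coe, hS4.par_iso, dick_swapAt le_rfl]
  obtain ⟨l', rfl⟩ : Even l := by
    rcases Nat.even_or_odd l with he | ho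
    · exact he
    · rw [hg, ho.neg_one_pow] at hpar
      norm_num at hpar
  rw [h, show ((ν ^ j, Pi.mulSingle 0 (ν ^ k)) : Fˣ × (Fin 4 → Fˣ)) =
    (ν, 1) ^ j * (1, Pi.mulSingle 0 ν) ^ k by simp [Prod.pow_mk, ← Pi.mulSingle_pow]]
  simp only [map_mul, map_pow, oc_swap]
  rw [show Φ (oc (Q4 F) (pd 4 F (ν, 1))) = 1 from (hkill ν).2,
    show Φ (oc (Q4 F) (pd 4 F (1, Pi.mulSingle 0 ν))) = 1 from (hkill ν).1, (hkill (-1)).1, one_pow, one_pow,
    one_mul, one_mul, mul_one, ← two_mul, pow_mul, sq, ← map_mul, iOut_sq, map_one, one_pow]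

set_option maxHeartbeats 1600000 in
/-- The criterion for automorphisms of D₄ moving the diagram. -/
theorem d4_crit {M : List (List ℤ)} {d : ℤ} (hD : Good chevD4) (hR : Roots chevD4 M d)
    (hlist : chevD4 ∈ [chevG2, chevB2, chevD4, chevF4, chevE6, chevE7, chevE8])
    {r : ℕ} [Fact r.Prime] [CharP F r] {p : ℕ} [Fact p.Prime] (hpr : p ≠ r)
    {β : MulAut (chevD4.group F)} (hord : orderOf β = p) (h : permHom hD hR hlist β ≠ 1) :
    Crit p β ∧ p ∣ Nat.card (fixK β) := by
  have hβ : β ^ p = 1 := hord ▸ pow_orderOf_eq_one β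
  obtain ⟨e⟩ : Nonempty (chevD4.group F ≃* P8) := Cfsg.Agent.S1082.result (F := F)
  set x : MulAut P8 := MulAut.congr e β
  have hxo : orderOf x = p := by rw [← hord]; exact MulEquiv.orderOf_eq _ _
  let R := (permOut (F := F) hD hR hlist).range
  let Φ₀ : MulAut P8 →* R := (((permOut (F := F) hD hR hlist).rangeRestrict.comp
    (QuotientGroup.mk' (Inn (chevD4.group F)))).comp (MulAut.congr e).symm.toMonoidHom)
  have hker : Inn P8 ≤ Φ₀.ker := by
    rintro _ ⟨k, rfl⟩
    have : (MulAut.congr e).symm (MulAut.conj k) = MulAut.conj (e.symm k) :=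
      MulEquiv.ext fun z => by
        show e.symm (k * e z * k⁻¹) = e.symm k * z * (e.symm k)⁻¹
        exact ((map_mul e.symm _ _).trans (congrArg₂ (· * ·) (map_mul e.symm _ _) (map_inv e.symm k))).trans
          (by rw [MulEquiv.symm_apply_apply])
    rw [MonoidHom.mem_ker]
    refine Subtype.ext ?_
    show permHom hD hR hlist ((MulAut.congr e).symm (MulAut.conj k)) = 1
    rw [this]
    exact inn_le_ker hD hR hlist ⟨_, rfl⟩
  let Φ : Out P8 →* R := QuotientGroup.lift _ Φ₀ hker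
  have h6 : Nat.card R ≤ 6 := (card_range_le (F := F) hD hR hlist).trans (le_of_eq symD4)
  have hnot : ¬ Cfsg.IsInnerDiagonalAutPOmegaPlus 4 x := by
    rintro ⟨g, hg, hp, hi⟩
    have e1 : x = conjAut (Q4 F) ⟨g, hg⟩ := (OrthOuter.induced_iff (Q := Q4 F) ⟨g, hg⟩ x).1 hi
    have e2 := lift_oc_eq_one (F := F) h6 Φ (g := ⟨g, hg⟩) ((hS4.preserves_iff hg).1 hp)
    have e3 : Φ (QuotientGroup.mk x) = 1 := by rw [e1]; exact e2
    refine h ?_
    have e4 : permHom hD hR hlist ((MulAut.congr e).symm x) = 1 := congrArg Subtype.val e3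
    rwa [MulEquiv.symm_apply_apply] at e4
  have h3 : r ≠ 3 → (3 : F) ≠ 0 := fun hr h0 => hr (by
    have h1 : ((3 : ℕ) : F) = 0 := by simpa using h0
    exact (Nat.prime_dvd_prime_iff_eq Fact.out Nat.prime_three).1 ((CharP.cast_eq_zero_iff F r 3).1 h1))
  have hc := (plus_eight (fun hr => triCrit (h3 hr)) hpr x hxo hnot).1
  refine ⟨crit_congr e hc, fix_dvd hβ ?_⟩
  -- the order of the group
  obtain ⟨-, hd, -⟩ := orderOf_perm hD hR hlist hβ h
  have hp : p.Prime := Fact.out
  have hp23 : p = 2 ∨ p = 3 := by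
    rcases moving_cases hD hR hlist hpr hβ h with ⟨-, h2⟩ | ⟨-, h2⟩ | ⟨-, h2⟩
    exacts [.inl h2, .inl h2, h2]
  obtain ⟨f, hr, hf⟩ := FiniteField.card F r
  set q := Fintype.card F with hq
  have hpq : ¬ p ∣ q := fun h' => hpr ((Nat.prime_dvd_prime_iff_eq hp hr).1 (hp.dvd_of_dvd_pow (hf ▸ h')))
  have hcard := ChevOrder.card_D4 hq.symm hD
  have hq1 : 1 < q := Fintype.one_lt_card
  rcases hp23 with rfl | rfl
  · have hodd : Odd q := Nat.not_even_iff_odd.1 fun he => hpq he.two_dvd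
    have h2 : ∀ n, n ≠ 0 → 2 ∣ q ^ n - 1 := fun n _ => by
      obtain ⟨u, hu⟩ := hodd.pow (n := n)
      omega
    have h16 : 2 * 2 * 2 * 2 ∣ q ^ 12 * (q ^ 2 - 1) * (q ^ 4 - 1) * (q ^ 4 - 1) * (q ^ 6 - 1) :=
      Nat.mul_dvd_mul (Nat.mul_dvd_mul (Nat.mul_dvd_mul (dvd_mul_of_dvd_right (h2 2 (by norm_num)) _)
        (h2 4 (by norm_num))) (h2 4 (by norm_num))) (h2 6 (by norm_num))
    rw [← hcard] at h16
    by_contra hn
    have hco : Nat.Coprime (2 ^ 4) (Nat.card (chevD4.group F)) :=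
      ((Nat.prime_two.coprime_iff_not_dvd).2 hn).pow_left 4
    have h5 := Nat.le_of_dvd (pow_pos (Nat.gcd_pos_of_pos_left _ two_pos) 2)
      (hco.dvd_of_dvd_mul_right (show 2 ^ 4 ∣ _ from h16))
    have h6 := Nat.pow_le_pow_left (Nat.gcd_le_left (q - 1) two_pos) 2
    omega
  · have h3q : 3 ∣ q ^ 2 - 1 := by
      have hm : q % 3 = 1 ∨ q % 3 = 2 := by omega
      have : q ^ 2 % 3 = 1 := by rcases hm with h' | h' <;> rw [Nat.pow_mod, h']
      omega
    have h1 : 3 ∣ Nat.gcd 2 (q - 1) ^ 2 * Nat.card (chevD4.group F) := by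
      rw [hcard]
      exact dvd_mul_of_dvd_left (dvd_mul_of_dvd_left (dvd_mul_of_dvd_left
        (dvd_mul_of_dvd_right h3q _) _) _) _
    refine (Nat.prime_three.dvd_mul.1 h1).resolve_left fun h' => ?_
    have h5 := (Nat.prime_three.dvd_of_dvd_pow h').trans (Nat.gcd_dvd_left 2 (q - 1))
    norm_num at h5

end

end Cfsg.Agent.ChevBalance
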