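import Cfsg.Agent.Lib.ChevBalance.E6Crit

/-!
# E₆: the centralizer of a graph involution over an algebraically closed field

`fixed_le_closure` : the fixed points of `theta` are generated by the good orbit elements.
-/

set_option autoImplicit false
set_option maxRecDepth 100000
set_option linter.style.haveILetI false
set_option linter.unusedSectionVars false

namespace Cfsg.Agent.ChevBalance.E6

open Cfsg.Lie Cfsg.Lie.ChevalleyDatum Cfsg.Agent.Chev Cfsg.Agent.ChevBN Cfsg.Agent.ChevSt Cfsg.Agent.ChevAut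
open Cfsg.Agent.TwistE6D4 (e6Twist e6Twist_ok e6Root_ok PosClosed UT lev)
open Cfsg.Agent.ChevFoldF4 (R6 rhoF rhoF_rhoF rhoF_pos e6n pos_iff e6Good)

namespace Cent

/-- The simple roots representing the orbits of the symmetry. -/
def node (j : Fin 4) : ℕ := chevE6.simple j.val

/-- Roots whose orbit tori cover the fixed diagonal elements. -/
def row (a : Fin 4) : ℕ := [56, 42, 39, 48].getD a.val 0

/-- The representative of a node. -/
def rep (i : Fin chevE6.rank) : Fin 4 := ([0, 1, 2, 3, 2, 0] : List (Fin 4)).getD i.val 0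

/-- The pairing of an orbit with a root. -/
def ex (r s : ℕ) : ℤ :=
  if e6Twist.rho r = r then chevE6.pairing r s else chevE6.pairing r s + chevE6.pairing (e6Twist.rho r) s

/-- The exponents of the four orbit tori on the four nodes. -/
def exA : Matrix (Fin 4) (Fin 4) ℤ := Matrix.of fun j a => ex (row a) (node j)

/-- Twice the inverse of `exA`. -/
def exB : Matrix (Fin 4) (Fin 4) ℤ := !![4, 2, 6, 4; 4, 2, 8, 5; 4, 2, 8, 6; 2, 2, 4, 3]

theorem exA_exB : exA * exB = Matrix.diagonal fun _ => (2 : ℤ) := by decide +kernel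

theorem row_facts : ∀ c : Bool, ∀ a : Fin 4, row a < chevE6.nroots ∧ bad c (row a) = false := by decide +kernel

theorem rep_facts : ∀ i : Fin chevE6.rank,
    (chevE6.simple (rep i).val = chevE6.simple i.val ∨ chevE6.simple (rep i).val = chevE6.simple (e6Twist.pi i).val) ∧
      ∀ a : Fin 4, ex (row a) (chevE6.simple i.val) = ex (row a) (node (rep i)) := by decide +kernel

theorem vmap_lt : ∀ c : Bool, ∀ b ∈ base c, ∀ q : Fin chevE6.nroots,
    (orbL b).foldr (Chev.refl chevE6) q.val < chevE6.nroots := by decide +kernel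

theorem ht_bound : ∀ q : Fin chevE6.nroots, e6Twist.ht q.val < 12 := by decide +kernel

variable {K : Type*} [Field K]

local notation "θ" => theta (RingEquiv.refl K)

/-- The group generated by the good orbit elements. -/
def gam (K : Type*) [Field K] (c : Bool) : Subgroup (GL chevE6.Idx K) :=
  Subgroup.closure {x | ∃ r : Fin chevE6.nroots, ∃ t : K, bad c r = false ∧ x = oel (RingEquiv.refl K) c r.val t}

theorem oel_mem_gam {c : Bool} {r : ℕ} (hr : r < chevE6.nroots) (hb : bad c r = false) (t : K) :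
    oel (RingEquiv.refl K) c r t ∈ gam K c :=
  Subgroup.subset_closure ⟨⟨r, hr⟩, t, hb, rfl⟩

theorem nel_mem_gam {c : Bool} {r : ℕ} (hr : r < chevE6.nroots) (hb : bad c r = false) (t : K) :
    nel (RingEquiv.refl K) c r t ∈ gam K c := by
  have hn : bad c (chevE6.neg r) = false := by rw [(sg_facts c ⟨r, hr⟩).2.2.2.2.2.1]; exact hb
  rw [nel_eq _ c hr]
  exact mul_mem (mul_mem (oel_mem_gam hr hb t) (oel_mem_gam (e6Good.neg_lt r hr) hn _)) (oel_mem_gam hr hb t)

theorem theta_gx (c : Bool) {r : ℕ} (hr : r < chevE6.nroots) (t : K) :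
    θ c (TwistE6D4.gx e6Good K r t) = TwistE6D4.gx e6Good K (e6Twist.rho r) ((sg c r : K) * t) := by
  rw [← TwistE6D4.xg_eq, theta_xg _ c hr, ← TwistE6D4.xg_eq]
  rfl

/-! ### Unipotent fixed elements -/

/-- The positive roots. -/
def posS : Set ℕ := {q | q < chevE6.nroots ∧ 0 < e6Twist.ht q}

theorem posS_closed : PosClosed chevE6 e6Twist.ht posS := by
  refine ⟨fun q hq => hq.1, fun q hq => hq.2, fun r hr s hs hsr τ hτ => ?_⟩
  have hf := e6Twist_ok.isLin_ht
  have hneg : s ≠ chevE6.neg r := fun e => by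
    have h1 := hs.2
    rw [e, hf.neg r hr.1] at h1
    have := hr.2
    omega
  obtain ⟨h3, h4, h5, h6⟩ := hf.commTerms e6Good hr.1 hs.1 hsr hneg hτ
  refine ⟨h3, ?_⟩
  rw [h6]
  exact add_pos (mul_pos (by exact_mod_cast h4) hr.2) (mul_pos (by exact_mod_cast h5) hs.2)

theorem theta_lev (c : Bool) {h : ℕ} {g : GL chevE6.Idx K} (hg : g ∈ lev e6Good K e6Twist.ht posS h) :
    θ c g ∈ lev e6Good K e6Twist.ht posS h := by
  refine TwistE6D4.UT_induction e6Good hg (P := fun g => θ c g ∈ lev e6Good K e6Twist.ht posS h)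
    (fun q hq u => ?_) (by simp [one_mem]) (fun a _ b _ pa pb => by simpa using mul_mem pa pb)
  rw [theta_gx c hq.1.1]
  exact TwistE6D4.gx_mem_lev e6Good (T := posS) ⟨e6Twist_ok.rho_lt q hq.1.1, by rw [e6Twist_ok.ht_rho q hq.1.1]; exact hq.1.2⟩
    (by rw [e6Twist_ok.ht_rho q hq.1.1]; exact hq.2) _

theorem coef_theta (c : Bool) {h : ℕ} (hh : 1 ≤ h) {q : ℕ} (hq : q < chevE6.nroots) (hfq : e6Twist.ht q = h)
    {g : GL chevE6.Idx K} (hg : g ∈ lev e6Good K e6Twist.ht posS h) :
    TwistE6D4.coef chevE6 (e6Twist.rho q) (θ c g) = (sg c q : K) * TwistE6D4.coef chevE6 q g := by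
  have hf := e6Twist_ok.isLin_ht
  have hρ := e6Twist_ok.rho_lt q hq
  have hfr : e6Twist.ht (e6Twist.rho q) = h := by rw [e6Twist_ok.ht_rho q hq, hfq]
  refine TwistE6D4.UT_induction e6Good hg
    (P := fun g => TwistE6D4.coef chevE6 (e6Twist.rho q) (θ c g) = (sg c q : K) * TwistE6D4.coef chevE6 q g)
    (fun s hs u => ?_) (by simp [TwistE6D4.coef_one]) (fun a ha b hb pa pb => ?_)
  · have hsl := hs.1.1
    rw [theta_gx c hsl, TwistE6D4.coef_gx e6Good hf hρ (e6Twist_ok.rho_lt s hsl) (by omega)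
        (by rw [hfr, e6Twist_ok.ht_rho s hsl]; exact hs.2),
      TwistE6D4.coef_gx e6Good hf hq hsl (by omega) (by rw [hfq]; exact hs.2)]
    by_cases hsq : s = q
    · subst hsq; simp
    · rw [if_neg (fun e => hsq (e6Twist_ok.rho_inj hsl hq e)), if_neg hsq, mul_zero]
  · have hL := TwistE6D4.lev_le_Tri (K := K) e6Good hf posS_closed hh
    rw [map_mul, TwistE6D4.coef_mul e6Good hf hρ hh hfr (hL (theta_lev c ha)) (hL (theta_lev c hb)),
      TwistE6D4.coef_mul e6Good hf hq hh hfq (hL ha) (hL hb), pa, pb, mul_add]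

theorem coef_oel (c : Bool) {h : ℕ} (hh : 1 ≤ h) {q s : ℕ} (hq : q < chevE6.nroots) (hs : s < chevE6.nroots)
    (hfq : e6Twist.ht q = h) (hfs : e6Twist.ht s = h) (a : K) :
    TwistE6D4.coef chevE6 s (oel (RingEquiv.refl K) c q a) =
      if q = s then a else if e6Twist.rho q = s then (sg c q : K) * a else 0 := by
  have hf := e6Twist_ok.isLin_ht
  have hρ := e6Twist_ok.rho_lt q hq
  have hfρ : e6Twist.ht (e6Twist.rho q) = h := by rw [e6Twist_ok.ht_rho q hq, hfq]
  rw [oel]
  split_ifs with e h1 h2 h1 h2 <;> simp only [TwistE6D4.xg_eq] <;>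
    try rw [TwistE6D4.coef_mul e6Good hf hs hh hfs (TwistE6D4.gx_mem_Tri e6Good hf hq hfq.ge hh _)
      (TwistE6D4.gx_mem_Tri e6Good hf hρ hfρ.ge hh _)]
  all_goals
    simp only [TwistE6D4.coef_gx e6Good hf hs hq (by omega) (by omega),
      TwistE6D4.coef_gx e6Good hf hs hρ (by omega) (by omega), RingEquiv.refl_apply]
  all_goals grind

/-- Fixed elements of the unipotent group. -/
theorem fixed_Upos (c : Bool) (h2 : (2 : K) ≠ 0) {g : GL chevE6.Idx K} (hg : g ∈ (R6 K).Upos)
    (hfix : θ c g = g) : g ∈ gam K c := by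
  classical
  have hU : (R6 K).Upos ≤ UT e6Good K posS := by
    refine (R6 K).span_le fun r hr x hx => ?_
    obtain ⟨t, rfl⟩ := (mem_rootSubgroup e6Good _).1 hx
    rw [TwistE6D4.xg_eq]
    exact TwistE6D4.gx_mem_UT e6Good (T := posS) ⟨r.isLt, (pos_iff (K := K) r).1 hr⟩ t
  have hf := e6Twist_ok.isLin_ht
  have key : ∀ n h, 1 ≤ h → 12 ≤ h + n → ∀ g ∈ lev e6Good K e6Twist.ht posS h, θ c g = g → g ∈ gam K c := by
    intro n
    induction n with
    | zero =>
      intro h _ hMh g hg _
      rw [TwistE6D4.lev_succ_eq_bot e6Good fun q hq =>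
        (ht_bound ⟨q, hq.1⟩).trans_le (by exact_mod_cast hMh), Subgroup.mem_bot] at hg
      rw [hg]
      exact one_mem _
    | succ n ih =>
      intro h hh hMh
      have hT := TwistE6D4.lev_le_Tri (K := K) e6Good hf posS_closed hh
      suffices inner : ∀ (k : ℕ) (g : GL chevE6.Idx K), g ∈ lev e6Good K e6Twist.ht posS h → θ c g = g →
          (Finset.univ.filter fun q : Fin chevE6.nroots =>
            e6Twist.ht q.val = h ∧ TwistE6D4.coef chevE6 q.val g ≠ 0).card ≤ k → g ∈ gam K c from
        fun g hg hgf => inner _ g hg hgf le_rfl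
      intro k
      induction k with
      | zero =>
        intro g hg hgf hk
        refine ih (h + 1) (by omega) (by omega) g
          (TwistE6D4.mem_lev_succ e6Good hf posS_closed hh hg fun r hr hfr => ?_) hgf
        by_contra hne
        have : (⟨r, hr.1⟩ : Fin chevE6.nroots) ∈ (Finset.univ.filter fun q : Fin chevE6.nroots =>
            e6Twist.ht q.val = h ∧ TwistE6D4.coef chevE6 q.val g ≠ 0) := by simp [hfr, hne]
        exact absurd (Finset.card_pos.2 ⟨_, this⟩) (by omega)
      | succ k ihk =>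
        intro g hg hgf hk
        by_cases hle : (Finset.univ.filter fun q : Fin chevE6.nroots =>
            e6Twist.ht q.val = h ∧ TwistE6D4.coef chevE6 q.val g ≠ 0).card ≤ k
        · exact ihk g hg hgf hle
        obtain ⟨q, hq⟩ := Finset.card_pos.1 (show 0 < (Finset.univ.filter fun q : Fin chevE6.nroots =>
          e6Twist.ht q.val = h ∧ TwistE6D4.coef chevE6 q.val g ≠ 0).card by omega)
        obtain ⟨hfq, ha⟩ := (Finset.mem_filter.1 hq).2
        have hρrel : TwistE6D4.coef chevE6 (e6Twist.rho q.val) g = (sg c q.val : K) * TwistE6D4.coef chevE6 q.val g := by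
          conv_lhs => rw [← hgf]
          exact coef_theta c hh q.isLt hfq hg
        set a := TwistE6D4.coef chevE6 q.val g
        have hgood : bad c q.val = false := by
          by_contra hb
          have hb' : bad c q.val = true := by simpa using hb
          obtain ⟨-, hρ⟩ := bad_cases hb'
          rw [hρ, (sg_facts c q).2.2.2.1 hρ, hb'] at hρrel
          simp only [if_true, Int.cast_neg, Int.cast_one, neg_mul, one_mul] at hρrel
          exact ha ((mul_eq_zero.1 (show (2 : K) * a = 0 by linear_combination hρrel)).resolve_left h2)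
        set p := oel (RingEquiv.refl K) c q.val a with hp
        have hpf : θ c p = p :=
          oel_fix _ c (fun _ => rfl) q.isLt (par_good _ c q.isLt hgood rfl)
        have hpl : p ∈ lev e6Good K e6Twist.ht posS h := by
          have hρ := e6Twist_ok.ht_rho q.val q.isLt
          rw [hp, oel]
          split_ifs <;> simp only [TwistE6D4.xg_eq] <;>
            first
              | exact TwistE6D4.gx_mem_lev e6Good (T := posS) ⟨q.isLt, by omega⟩ hfq.ge _
              | exact mul_mem (TwistE6D4.gx_mem_lev e6Good (T := posS) ⟨q.isLt, by omega⟩ hfq.ge _)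
                  (TwistE6D4.gx_mem_lev e6Good (T := posS) ⟨e6Twist_ok.rho_lt _ q.isLt, by omega⟩ (by omega) _)
        have hg' : p⁻¹ * g ∈ lev e6Good K e6Twist.ht posS h := mul_mem (inv_mem hpl) hg
        have hrest : p⁻¹ * g ∈ gam K c := by
          refine ihk _ hg' (by rw [map_mul, map_inv, hpf, hgf]) ?_
          have hsub : (Finset.univ.filter fun s : Fin chevE6.nroots =>
              e6Twist.ht s.val = h ∧ TwistE6D4.coef chevE6 s.val (p⁻¹ * g) ≠ 0) ⊆
              ((Finset.univ.filter fun s : Fin chevE6.nroots =>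
              e6Twist.ht s.val = h ∧ TwistE6D4.coef chevE6 s.val g ≠ 0).erase q) := by
            intro s hs
            obtain ⟨hfs, hne⟩ := (Finset.mem_filter.1 hs).2
            have h1 := TwistE6D4.coef_mul e6Good hf s.isLt hh hfs (hT hpl) (hT hg')
            rw [mul_inv_cancel_left, hp, coef_oel c hh q.isLt s.isLt hfq hfs] at h1
            by_cases e1 : q.val = s.val
            · rw [if_pos e1, ← e1] at h1
              rw [← e1] at hne
              exact absurd (left_eq_add.1 h1) hne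
            rw [if_neg e1] at h1
            by_cases e2 : e6Twist.rho q.val = s.val
            · rw [if_pos e2, ← e2, hρrel] at h1
              rw [← e2] at hne
              exact absurd (left_eq_add.1 h1) hne
            rw [if_neg e2, zero_add] at h1
            exact Finset.mem_erase.2 ⟨fun e => e1 (by rw [e]),
              Finset.mem_filter.2 ⟨Finset.mem_univ _, hfs, by rw [h1]; exact hne⟩⟩
          have h3 := Finset.card_le_card hsub
          rw [Finset.card_erase_of_mem hq] at h3
          omega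
        simpa [hp] using mul_mem (oel_mem_gam q.isLt hgood a) hrest
  refine key 11 1 le_rfl (by omega) g ?_ hfix
  rw [TwistE6D4.lev_one e6Good posS_closed]
  exact hU hg

/-! ### Fixed diagonal elements -/

/-- The torus element of an orbit. -/
def hOrb (r : ℕ) (t : K) : GL chevE6.Idx K :=
  if e6Twist.rho r = r then hg e6Good K r t else hg e6Good K r t * hg e6Good K (e6Twist.rho r) t

theorem ng_mul_neg (r : ℕ) {a b : K} :
    ng e6Good K r a * ng e6Good K r (-b) = hg e6Good K r a * (hg e6Good K r b)⁻¹ := by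
  simp only [hg, mul_inv_rev, ng_inv, neg_neg]
  rw [show ng e6Good K r (1 : K) = (ng e6Good K r (-1 : K))⁻¹ by rw [ng_inv, neg_neg]]
  group

theorem hOrb_mem_gam {c : Bool} {r : ℕ} (hr : r < chevE6.nroots) (hb : bad c r = false) {t : K} (ht : t ≠ 0) :
    hOrb r t ∈ gam K c := by
  suffices e : hOrb r t = nel (RingEquiv.refl K) c r t * nel (RingEquiv.refl K) c r (-1) by
    rw [e]; exact mul_mem (nel_mem_gam hr hb t) (nel_mem_gam hr hb _)
  by_cases e : e6Twist.rho r = r
  · rw [hOrb, nel, nel, if_pos e, if_pos e, if_pos e, hg]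
  rw [hOrb, nel, nel, if_neg e, if_neg e, if_neg e]
  simp only [RingEquiv.refl_apply, mul_neg, mul_one]
  set s := (sg c r : K)
  have hρ := e6Twist_ok.rho_lt r hr
  have hne := mt (rho_neg_iff hr).1 e
  have hcomm : ∀ a b : K, Commute (ng e6Good K (e6Twist.rho r) a) (ng e6Good K r b) := by
    intro a b
    have c1 := fun x y => ((commute_orbit hr e x y).1 : Commute (xg e6Good K r x) _)
    have c2 := fun x y => ((commute_orbit hr e x y).2.1 : Commute (xg e6Good K r x) _)
    have c3 := fun x y => ((commute_orbit hr e x y).2.2 : Commute (xg e6Good K (e6Twist.rho r) x) _)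
    have c4 : ∀ x y, Commute (xg e6Good K (chevE6.neg r) x) (xg e6Good K (chevE6.neg (e6Twist.rho r)) y) :=
      fun x y => by
        have := (commute_orbit (e6Good.neg_lt r hr) hne x y).1
        rwa [e6Twist_ok.rho_neg r hr] at this
    simp only [ng]
    refine Commute.mul_left (Commute.mul_left ?_ ?_) ?_ <;>
      refine Commute.mul_right (Commute.mul_right ?_ ?_) ?_ <;>
      first
        | exact (c1 _ _).symm
        | exact c3 _ _
        | exact (c2 _ _).symm
        | exact (c4 _ _).symm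
  have hs : s ≠ 0 := sg_ne c hr
  have h1 : hg e6Good K (e6Twist.rho r) t =
      ng e6Good K (e6Twist.rho r) (s * t) * ng e6Good K (e6Twist.rho r) (-s) := by
    rw [ng_mul_neg, mul_comm s t, ← RankOne.hg_mul e6Good hρ ht hs, mul_inv_cancel_right]
  rw [h1, hg]
  calc ng e6Good K r t * ng e6Good K r (-1) * (ng e6Good K (e6Twist.rho r) (s * t) *
        ng e6Good K (e6Twist.rho r) (-s))
      = ng e6Good K r t * (ng e6Good K r (-1) * ng e6Good K (e6Twist.rho r) (s * t)) *
        ng e6Good K (e6Twist.rho r) (-s) := by group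
    _ = ng e6Good K r t * (ng e6Good K (e6Twist.rho r) (s * t) * ng e6Good K r (-1)) *
        ng e6Good K (e6Twist.rho r) (-s) := by rw [(hcomm _ _).eq]
    _ = _ := by group

theorem hOrb_mem_diag {r : ℕ} (hr : r < chevE6.nroots) {t : K} (ht : t ≠ 0) :
    hOrb r t ∈ chevE6.diagonalSubgroup K := by
  rw [hOrb]
  split_ifs
  · exact hg_mem_borel e6Good hr ht
  · exact mul_mem (hg_mem_borel e6Good hr ht) (hg_mem_borel e6Good (e6Twist_ok.rho_lt r hr) ht)

theorem hOrb_conj {r : ℕ} (hr : r < chevE6.nroots) (t : Kˣ) (s : ℕ) (u : K) :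
    hOrb r (t : K) * xg e6Good K s u * (hOrb r (t : K))⁻¹ = xg e6Good K s (((t ^ ex r s : Kˣ) : K) * u) := by
  have h1 : ∀ r < chevE6.nroots, ∀ u : K, hg e6Good K r (t : K) * xg e6Good K s u * (hg e6Good K r (t : K))⁻¹ =
      xg e6Good K s (((t ^ chevE6.pairing r s : Kˣ) : K) * u) := fun r hr u => by
    rw [hg_conj e6Good hr t.ne_zero, mul_inv_cancel_right, Units.val_zpow_eq_zpow_val]
  rw [hOrb, ex]
  split_ifs
  · exact h1 r hr u
  · rw [show ∀ a b x : GL chevE6.Idx K, a * b * x * (a * b)⁻¹ = a * (b * x * b⁻¹) * a⁻¹ from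
      fun a b x => by group, h1 _ (e6Twist_ok.rho_lt r hr), h1 r hr, zpow_add, Units.val_mul, mul_assoc]

/-- Fixed diagonal elements. -/
theorem fixed_diag [IsAlgClosed K] (c : Bool) {m : GL chevE6.Idx K} (hm : m ∈ chevE6.diagonalSubgroup K)
    (hfix : θ c m = m) : m ∈ gam K c := by
  obtain ⟨c₀, hc₀⟩ := (ChevOrder.torusHom_range (F := K) e6Good).ge hm
  rw [torusHom_eq_charUnit] at hc₀
  set χ : ℕ → Kˣ := ChevOrder.chi c₀
  have hχ : chevE6.IsRootCharacter χ := chi_isRootCharacter e6Good c₀
  have hsym : ∀ i : Fin chevE6.rank, χ (chevE6.simple (e6Twist.pi i).val) = χ (chevE6.simple i.val) := by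
    intro i
    have hs := e6Good.simple_lt _ i.isLt
    have h1 := congrArg (θ c) (charUnit_conj e6Good hχ hs (1 : K))
    rw [hc₀, map_mul, map_mul, map_inv, hfix, theta_xg _ c hs, theta_xg _ c hs, map_one, ← hc₀,
      charUnit_conj e6Good hχ (e6Twist_ok.rho_lt _ hs), RingEquiv.refl_apply, e6Root_ok.simple_pi i] at h1
    have h2 := xg_inj e6Good (e6Good.simple_lt _ (e6Twist.pi i).isLt) h1
    rw [mul_one, mul_one, mul_comm] at h2
    exact Units.ext (mul_left_cancel₀ (sg_ne c hs) h2)
  have hrt : ∀ j : Fin 4, ∃ y : Kˣ, y ^ (2 : ℤ) = χ (node j) := by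
    intro j
    obtain ⟨z, hz⟩ := IsAlgClosed.exists_pow_nat_eq (χ (node j) : K) (n := 2) (by norm_num)
    have hz0 : z ≠ 0 := by
      rintro rfl
      exact (χ (node j)).ne_zero (by rw [← hz]; simp)
    exact ⟨Units.mk0 z hz0, Units.ext (by rw [Units.val_zpow_eq_zpow_val]; simpa [zpow_natCast] using hz)⟩
  choose y hy using hrt
  set t : Fin 4 → Kˣ := ChevOrder.act exB y
  have ht : ∀ j, ∏ a : Fin 4, t a ^ ex (row a) (node j) = χ (node j) := by
    intro j
    have h1 : ChevOrder.act exA t j = y j ^ (2 : ℤ) := by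
      rw [← ChevOrder.act_mul, exA_exB, ChevOrder.act_diagonal]
    rw [← hy j, ← h1, ChevOrder.act_apply]
    rfl
  let T : Fin 4 → GL chevE6.Idx K := fun a => hOrb (row a) (t a : K)
  set X := T 0 * T 1 * T 2 * T 3
  have hXΓ : X ∈ gam K c := by
    have := fun a => hOrb_mem_gam (K := K) (row_facts c a).1 (row_facts c a).2 (t a).ne_zero
    exact mul_mem (mul_mem (mul_mem (this 0) (this 1)) (this 2)) (this 3)
  have hXd : X ∈ chevE6.diagonalSubgroup K := by
    have := fun a => hOrb_mem_diag (K := K) (row_facts c a).1 (t a).ne_zero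
    exact mul_mem (mul_mem (mul_mem (this 0) (this 1)) (this 2)) (this 3)
  obtain ⟨c₁, hc₁⟩ := (ChevOrder.torusHom_range (F := K) e6Good).ge hXd
  rw [torusHom_eq_charUnit] at hc₁
  suffices hXm : X = m by rwa [← hXm]
  rw [← hc₁, ← hc₀]
  refine charUnit_simple_ext rootsE6 (chi_isRootCharacter e6Good c₁) hχ (fun i => ?_) e6Good
  have hs := e6Good.simple_lt _ i.isLt
  have hconj : X * xg e6Good K (chevE6.simple i.val) 1 * X⁻¹ = xg e6Good K (chevE6.simple i.val)
      ((∏ a : Fin 4, t a ^ ex (row a) (chevE6.simple i.val) : Kˣ) : K) := by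
    rw [show ∀ a b d e x : GL chevE6.Idx K, a * b * d * e * x * (a * b * d * e)⁻¹ =
      a * (b * (d * (e * x * e⁻¹) * d⁻¹) * b⁻¹) * a⁻¹ from fun a b d e x => by group]
    simp only [T, hOrb_conj (row_facts c 3).1, hOrb_conj (row_facts c 2).1, hOrb_conj (row_facts c 1).1,
      hOrb_conj (row_facts c 0).1, Fin.prod_univ_four, Units.val_mul]
    congr 1
    ring
  rw [← hc₁, charUnit_conj e6Good (chi_isRootCharacter e6Good c₁) hs] at hconj
  have h2 := xg_inj e6Good hs hconj
  rw [mul_one] at h2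
  refine (Units.ext h2).trans ?_
  obtain ⟨h3, h4⟩ := rep_facts i
  simp only [h4]
  rw [ht, node]
  rcases h3 with h3 | h3
  · rw [h3]
  · rw [h3, hsym]

/-! ### Fixed monomial elements -/

/-- Fixed monomial elements. -/
theorem fixed_mon [IsAlgClosed K] (c : Bool) (h2 : (2 : K) ≠ 0) {h : GL chevE6.Idx K}
    {l : List (Fin chevE6.rank)} (hh : h ∈ (R6 K).H) (hfix : θ c (h * (R6 K).nw l) = h * (R6 K).nw l)
    (hl : Comm K l) : h * (R6 K).nw l ∈ gam K c := by
  classical
  suffices key : ∀ (k : ℕ) (h : GL chevE6.Idx K) (l : List (Fin chevE6.rank)), h ∈ (R6 K).H →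
      θ c (h * (R6 K).nw l) = h * (R6 K).nw l → Comm K l →
      (Finset.univ.filter fun q : Fin chevE6.nroots =>
        (R6 K).pos q ∧ bad c q = false ∧ ¬ (R6 K).pos ((R6 K).ww l q)).card ≤ k →
      h * (R6 K).nw l ∈ gam K c from key _ h l hh hfix hl le_rfl
  intro k
  induction k using Nat.strong_induction_on with
  | _ k ih =>
    intro h l hh hfix hl hk
    by_cases hK : Keeps K c l
    · exact fixed_diag c (mul_mem hh (mem_H_of_keeps _ c h2 (fun _ _ => rfl) hh hfix hK)) hfix
    obtain ⟨b, hb, hneg⟩ := exists_base_neg hK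
    obtain ⟨-, hbpos, hbgood⟩ := base_facts c b hb
    set n := nel (RingEquiv.refl K) c b.val 1
    have hnΓ : n ∈ gam K c := nel_mem_gam b.isLt hbgood 1
    have hnf : θ c n = n := nel_fix _ c (fun _ => rfl) b.isLt (par_good _ c b.isLt hbgood rfl)
    have hnN : n ∈ (R6 K).N := nel_mem_N _ c b.isLt one_ne_zero
    obtain ⟨h', hh', l', e⟩ := (R6 K).mem_N_iff.1
      (mul_mem ((R6 K).mem_N_iff.2 ⟨h, hh, l, rfl⟩) hnN)
    let v : Fin chevE6.nroots → Fin chevE6.nroots := fun q =>
      ⟨(orbL b.val).foldr (Chev.refl chevE6) q.val, vmap_lt c b.val hb q⟩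
    have hww : ∀ q, (R6 K).ww l' q = (R6 K).ww l (v q) := by
      intro q
      refine ww_of_conj (n := h * (R6 K).nw l * n) hh' e ?_
      obtain ⟨w, hw⟩ := nel_conj (RingEquiv.refl K) c b.isLt q.isLt (one_ne_zero : (1 : K) ≠ 0) 1
      rw [show h * (R6 K).nw l * n * xg e6Good K q.val 1 * (h * (R6 K).nw l * n)⁻¹ =
        h * (R6 K).nw l * (n * xg e6Good K q.val 1 * n⁻¹) * (h * (R6 K).nw l)⁻¹ by group, hw]
      exact (R6 K).conj_U_mem ((R6 K).map_conj_H_nw hh l (v q)) (xg_mem_rootSubgroup e6Good (v q).val w)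
    have hvρ : ∀ q, v (rhoF q) = rhoF (v q) := fun q => Fin.ext (refl_rho c b.val hb q).1
    have hvv : ∀ q, v (v q) = q := fun q => Fin.ext (refl_rho c b.val hb q).2
    have hvb : v b = (R6 K).neg b := Fin.ext (refl_orbit b).1
    have hvb' : v (rhoF b) = (R6 K).neg (rhoF b) := Fin.ext (refl_orbit b).2.1
    have hl' : Comm K l' := fun q => by rw [hww, hww, hvρ, hl]
    have hlt : (Finset.univ.filter fun q : Fin chevE6.nroots =>
        (R6 K).pos q ∧ bad c q = false ∧ ¬ (R6 K).pos ((R6 K).ww l' q)).card < k := by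
      have hsub : (Finset.univ.filter fun q : Fin chevE6.nroots =>
          (R6 K).pos q ∧ bad c q = false ∧ ¬ (R6 K).pos ((R6 K).ww l' q)).image v ⊆
          (Finset.univ.filter fun q : Fin chevE6.nroots =>
            (R6 K).pos q ∧ bad c q = false ∧ ¬ (R6 K).pos ((R6 K).ww l q)).erase b := by
        intro x hx
        obtain ⟨q, hq, rfl⟩ := Finset.mem_image.1 hx
        obtain ⟨h1, h3, h4⟩ := (Finset.mem_filter.1 hq).2
        rw [hww] at h4
        have hq1 : q.val ≠ b.val ∧ q.val ≠ e6Twist.rho b.val := by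
          refine ⟨fun e => ?_, fun e => ?_⟩
          · rw [show q = b from Fin.ext e, hvb, (R6 K).ww_neg, (R6 K).pos_neg, not_not] at h4
            exact hneg h4
          · rw [show q = rhoF b from Fin.ext e, hvb', (R6 K).ww_neg, (R6 K).pos_neg, not_not, hl, rhoF_pos] at h4
            exact hneg h4
        refine Finset.mem_erase.2 ⟨fun e => ?_, Finset.mem_filter.2 ⟨Finset.mem_univ _,
          (pos_iff _).2 (base_refl_pos c b.val hb q ((pos_iff q).1 h1) h3 hq1.1 hq1.2),
          (bad_refl c b.val hb q).trans h3, h4⟩⟩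
        have h5 := hvv q
        rw [e, hvb] at h5
        rw [← h5, (R6 K).pos_neg] at h1
        exact h1 ((pos_iff b).2 hbpos)
      have hbmem : b ∈ (Finset.univ.filter fun q : Fin chevE6.nroots =>
          (R6 K).pos q ∧ bad c q = false ∧ ¬ (R6 K).pos ((R6 K).ww l q)) :=
        Finset.mem_filter.2 ⟨Finset.mem_univ _, (pos_iff b).2 hbpos, hbgood, hneg⟩
      have h6 := Finset.card_le_card hsub
      rw [Finset.card_image_of_injective _ (Function.LeftInverse.injective hvv),
        Finset.card_erase_of_mem hbmem] at h6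
      have := Finset.card_pos.2 ⟨b, hbmem⟩
      omega
    have hrec := ih _ hlt h' l' hh' (by rw [← e, map_mul, hfix, hnf]) hl' le_rfl
    rw [← e] at hrec
    simpa using mul_mem hrec (inv_mem hnΓ)

end Cent

/-- The fixed points of the involution are generated by the good orbit elements. -/
theorem fixed_le_closure {K : Type*} [Field K] [IsAlgClosed K] (c : Bool) (h2 : (2 : K) ≠ 0)
    {g : GL chevE6.Idx K} (hg : g ∈ chevE6.group K) (hfix : theta (RingEquiv.refl K) c g = g) :
    g ∈ Subgroup.closure {x | ∃ r : Fin chevE6.nroots, ∃ t : K, bad c r = false ∧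
      x = oel (RingEquiv.refl K) c r.val t} := by
  obtain ⟨v, hv, h, hh, l, u, hu, rfl, hvf, huf, hmf, hl⟩ :=
    fixed_split (RingEquiv.refl K) c (fun _ => rfl) hg hfix
  exact mul_mem (mul_mem (Cent.fixed_Upos c h2 hv hvf) (Cent.fixed_mon c h2 hh hmf hl))
    (Cent.fixed_Upos c h2 ((R6 K).Uminus_le_Upos l hu) huf)

end Cfsg.Agent.ChevBalance.E6
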