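import Cfsg.Agent.Lib.ChevBalance.E6Theta
import Cfsg.Agent.Lib.RGD.Core

/-!
# E₆: no normal subgroups of odd order in the fixed points of the graph involutions

* `parity` : the counting argument in a finite group;
* `nfour`, `nfour_spec` : a fixed monomial element exchanging `U` and `V`;
* `core_theta` : a normal subgroup of odd order of the fixed points is trivial.
-/

set_option autoImplicit false
set_option linter.style.haveILetI false
set_option linter.unusedSectionVars false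

namespace Cfsg.Agent.ChevBalance.E6

open Cfsg.Lie Cfsg.Lie.ChevalleyDatum Cfsg.Agent.Chev Cfsg.Agent.ChevBN Cfsg.Agent.ChevSt Cfsg.Agent.ChevAut
open Cfsg.Agent.TwistE6D4 (e6Twist e6Twist_ok)
open Cfsg.Agent.ChevFoldF4 (R6 rhoF rhoF_rhoF rhoF_pos e6n pos_iff e6Good)

/-- An element `x` normalising `T` with `x² ∈ T`, `x ∉ T` forces even index in `B N`. -/
theorem parity {Γ : Type*} [Group Γ] [Finite Γ] (B U T N : Subgroup Γ) [N.Normal] (hU : U ≤ B) (hT : T ≤ B)
    (hUT : U ⊓ T = ⊥) (hB : ∀ b ∈ B, ∃ u ∈ U, ∃ t ∈ T, b = u * t) (hUo : Odd (Nat.card U))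
    (hNo : Odd (Nat.card N)) {x : Γ} (hx : x ∈ B ⊔ N) (hn : ∀ t ∈ T, x * t * x⁻¹ ∈ T) (hsq : x * x ∈ T)
    (hxT : x ∉ T) : False := by
  have hcardB : Nat.card B = Nat.card U * Nat.card T := by
    rw [← Nat.card_prod]
    refine (Nat.card_congr (Equiv.ofBijective (fun a : U × T => (⟨(a.1 : Γ) * a.2,
      mul_mem (hU a.1.2) (hT a.2.2)⟩ : B)) ⟨?_, ?_⟩)).symm
    · rintro ⟨a, s⟩ ⟨a', s'⟩ e'
      have h0 : (a : Γ) * s = a' * s' := congrArg Subtype.val e'
      have h1 : (a' : Γ)⁻¹ * a = s' * (s : Γ)⁻¹ := by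
        rw [inv_mul_eq_iff_eq_mul, ← mul_assoc, ← h0, mul_inv_cancel_right]
      have h4 : (a' : Γ)⁻¹ * a = 1 := by
        rw [← Subgroup.mem_bot, ← hUT]
        refine ⟨(mul_mem (inv_mem a'.2) a.2 : _ ∈ U), (?_ : _ ∈ T)⟩
        rw [h1]
        exact mul_mem s'.2 (inv_mem s.2)
      rw [inv_mul_eq_one] at h4
      rw [h4] at h0
      exact Prod.ext (Subtype.ext h4.symm) (Subtype.ext (mul_left_cancel h0))
    · rintro ⟨b, hb⟩
      obtain ⟨u, hu, t, ht, rfl⟩ := hB b hb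
      exact ⟨(⟨u, hu⟩, ⟨t, ht⟩), rfl⟩
  set P := B ⊔ N
  have hP : Nat.card P ∣ Nat.card N * Nat.card U * Nat.card T := by
    rw [mul_assoc, ← hcardB, ← Subgroup.card_mul_index (N.subgroupOf P),
      Nat.card_congr (Subgroup.subgroupOfEquivOfLe (le_sup_right : N ≤ P)).toEquiv]
    refine Nat.mul_dvd_mul_left _ ?_
    show N.relIndex P ∣ Nat.card B
    rw [Subgroup.relIndex_sup_right]
    exact N.relIndex_dvd_card B
  set Q := T ⊔ Subgroup.zpowers x
  have hQP : Q ≤ P := sup_le (le_sup_of_le_left hT) (Subgroup.zpowers_le.2 hx)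
  have hQn : Q ≤ Subgroup.normalizer (T : Set Γ) :=
    sup_le Subgroup.le_normalizer (Subgroup.zpowers_le.2 (Subgroup.mem_normalizer_fintype fun t ht => hn t ht))
  haveI := (Subgroup.normal_subgroupOf_iff_le_normalizer (le_sup_left : T ≤ Q)).2 hQn
  have hidx : 2 ∣ (T.subgroupOf Q).index := by
    rw [Subgroup.index_eq_card]
    refine dvd_trans (dvd_of_eq (orderOf_eq_prime (p := 2)
      (x := QuotientGroup.mk' (T.subgroupOf Q) ⟨x, Subgroup.mem_sup_right (Subgroup.mem_zpowers x)⟩)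
      ?_ ?_).symm) (orderOf_dvd_natCard _)
    · rw [← map_pow]
      exact (QuotientGroup.eq_one_iff _).2 (by rw [sq]; exact hsq)
    · exact fun h1 => hxT ((QuotientGroup.eq_one_iff (N := T.subgroupOf Q)
        (⟨x, Subgroup.mem_sup_right (Subgroup.mem_zpowers x)⟩ : Q)).1 h1)
  have hQdvd : 2 * Nat.card T ∣ Nat.card Q := by
    rw [← Subgroup.card_mul_index (T.subgroupOf Q),
      Nat.card_congr (Subgroup.subgroupOfEquivOfLe (le_sup_left : T ≤ Q)).toEquiv, mul_comm 2]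
    exact Nat.mul_dvd_mul_left _ hidx
  obtain ⟨o, ho⟩ := hNo.mul hUo
  have := Nat.dvd_of_mul_dvd_mul_right Nat.card_pos (hQdvd.trans ((Subgroup.card_dvd_of_le hQP).trans hP))
  omega

variable {K : Type*} [Field K] (σ : K ≃+* K) (c : Bool)

/-- The monomial element of the four orthogonal fixed roots. -/
def nfour (K : Type*) [Field K] : GL chevE6.Idx K := (four.map fun r => ng e6Good K r 1).prod

theorem nfour_fix : theta σ c (nfour K) = nfour K := by
  rw [nfour, map_list_prod, List.map_map]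
  refine congrArg List.prod (List.map_congr_left fun r hr => ?_)
  obtain ⟨h1, h2, -, h4⟩ := four_facts c r hr
  rw [Function.comp_apply, theta_ng σ c h1, h2, h4]
  simp

theorem nfour_mem_N : nfour K ∈ (R6 K).N :=
  Subgroup.list_prod_mem _ fun x hx => by
    obtain ⟨r, hr, rfl⟩ := List.mem_map.1 hx
    exact ng_mem_monomial e6Good rootsE6 (four_facts false r hr).1

theorem nfour_mem_group : nfour K ∈ chevE6.group K :=
  chev_G e6Good rootsE6 (F := K) ▸ (R6 K).N_le_G nfour_mem_N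

theorem list_conj : ∀ L : List ℕ, (∀ r ∈ L, r < chevE6.nroots) → ∀ {s : ℕ}, s < chevE6.nroots → ∀ u : K,
    L.foldr (Chev.refl chevE6) s < chevE6.nroots ∧
      ∃ v : K, (L.map fun r => ng e6Good K r 1).prod * xg e6Good K s u *
        ((L.map fun r => ng e6Good K r 1).prod)⁻¹ = xg e6Good K (L.foldr (Chev.refl chevE6) s) v
  | [], _, s, hs, u => ⟨hs, u, by simp⟩
  | r :: L, hL, s, hs, u => by
    obtain ⟨h1, v, hv⟩ := list_conj L (fun q hq => hL q (List.mem_cons_of_mem _ hq)) hs u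
    have hr := hL r List.mem_cons_self
    obtain ⟨w, hw⟩ := ng_conj hr h1 (one_ne_zero : (1 : K) ≠ 0) v
    refine ⟨refl_lt e6Good hr h1, w, ?_⟩
    rw [List.map_cons, List.prod_cons, show ∀ a b x : GL chevE6.Idx K, a * b * x * (a * b)⁻¹ =
      a * (b * x * b⁻¹) * a⁻¹ from fun a b x => by group, hv, hw]
    rfl

/-- `nfour` exchanges `U` and `V`. -/
theorem nfour_spec (x : GL chevE6.Idx K) :
    x ∈ (R6 K).Upos ↔ nfour K * x * (nfour K)⁻¹ ∈ (R6 K).Vneg := by
  obtain ⟨h, hh, l, e⟩ := (R6 K).mem_N_iff.1 (nfour_mem_N (K := K))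
  have hl : ∀ r : Fin chevE6.nroots, (R6 K).pos r → ¬ (R6 K).pos ((R6 K).ww l r) := by
    intro r hr
    rw [ww_of_conj (s := (R6 K).neg (rhoF r)) hh e]
    · rw [(R6 K).pos_neg, not_not]; exact (rhoF_pos r).2 hr
    · obtain ⟨-, v, hv⟩ := list_conj (K := K) four (fun q hq => (four_facts false q hq).1) r.isLt 1
      rw [nfour, hv, four_long]
      exact xg_mem_rootSubgroup e6Good _ _
  rw [← (R6 K).map_conj_long hl]
  have e2 : ∀ y, nfour K * y * (nfour K)⁻¹ = h * ((R6 K).nw l * y * ((R6 K).nw l)⁻¹) * h⁻¹ := fun y => by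
    rw [e]; group
  constructor
  · intro hx
    rw [e2, (R6 K).map_conj_long hl]
    exact (R6 K).H_conj_span _ hh _ (((R6 K).map_conj_long hl).le ⟨x, hx, rfl⟩)
  · intro hx
    rw [e2, (R6 K).map_conj_long hl] at hx
    have h1 : (R6 K).nw l * x * ((R6 K).nw l)⁻¹ ∈ (R6 K).Vneg := by
      have := (R6 K).H_conj_span _ (inv_mem hh) _ hx
      rwa [show h⁻¹ * (h * ((R6 K).nw l * x * ((R6 K).nw l)⁻¹) * h⁻¹) * h⁻¹⁻¹ =
        (R6 K).nw l * x * ((R6 K).nw l)⁻¹ by group] at this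
    rw [← (R6 K).map_conj_long hl, RGD.RootData.mem_map_conj] at h1
    simpa [mul_assoc] using h1

/-- Coordinates of a product of two root elements are well defined. -/
theorem pair_inj {a b : ℕ} (ha : a < chevE6.nroots) (hb : b < chevE6.nroots) (hne : a ≠ b) {x y x' y' : K}
    (e : xg e6Good K a x * xg e6Good K b y = xg e6Good K a x' * xg e6Good K b y') : x = x' ∧ y = y' := by
  have h1 : xg e6Good K a (-x' + x) = xg e6Good K b (y' + -y) := by
    rw [← xg_add e6Good ha, ← xg_add e6Good hb, ← xg_inv, ← xg_inv, inv_mul_eq_iff_eq_mul, ← mul_assoc,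
      eq_mul_inv_iff_mul_eq]
    exact e
  have hx : x = x' := by
    by_contra hx
    exact hne (ChevOrder.xg_eq_xg e6Good ha hb (fun h => hx (by linear_combination h)) h1)
  subst hx
  exact ⟨rfl, xg_inj e6Good hb (mul_left_cancel e)⟩

theorem oel_ne_one {r : ℕ} (hr : r < chevE6.nroots) {t : K} (ht : t ≠ 0) : oel σ c r t ≠ 1 := by
  rw [oel]
  split_ifs with e
  · exact xg_ne_one hr ht
  · intro h
    exact ht (pair_inj hr (e6Twist_ok.rho_lt r hr) (Ne.symm e) (x' := (0 : K)) (y' := (0 : K))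
      (by rw [h, xg_zero, xg_zero, one_mul])).1

/-- A fixed monomial element moves fixed orbit elements to such elements. -/
theorem conj_oel (_hσ : ∀ t, σ (σ t) = t) {h : GL chevE6.Idx K} {l : List (Fin chevE6.rank)}
    (hh : h ∈ (R6 K).H) (hfix : theta σ c (h * (R6 K).nw l) = h * (R6 K).nw l) (hl : Comm K l)
    {q : Fin chevE6.nroots} {t : K} (ht : t ≠ 0) (hp : Par σ c q.val t) :
    ∃ t', t' ≠ 0 ∧ Par σ c ((R6 K).ww l q).val t' ∧
      h * (R6 K).nw l * oel σ c q.val t * (h * (R6 K).nw l)⁻¹ = oel σ c ((R6 K).ww l q).val t' := by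
  set m := h * (R6 K).nw l
  obtain ⟨t', et⟩ := (mem_rootSubgroup e6Good _).1
    ((R6 K).conj_U_mem ((R6 K).map_conj_H_nw hh l q) (xg_mem_rootSubgroup e6Good q.val t))
  have ht' : t' ≠ 0 := fun h0 => xg_ne_one q.isLt ht (conj_eq_one_iff.1 (et.trans (by rw [h0, xg_zero])))
  refine ⟨t', ht', ?_⟩
  have e1 : m * theta σ c (xg e6Good K q.val t) * m⁻¹ = theta σ c (xg e6Good K ((R6 K).ww l q).val t') := by
    rw [← et, map_mul, map_mul, map_inv, hfix]
  rw [theta_xg σ c q.isLt, theta_xg σ c ((R6 K).ww l q).isLt] at e1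
  have hρ : e6Twist.rho ((R6 K).ww l q).val = ((R6 K).ww l q).val ↔ e6Twist.rho q.val = q.val := by
    have := hl q
    constructor
    · intro h1
      have h2 : (R6 K).ww l (rhoF q) = (R6 K).ww l q := this.trans (Fin.ext h1)
      have h3 := congrArg ((R6 K).ww l.reverse) h2
      rw [(R6 K).ww_reverse_ww, (R6 K).ww_reverse_ww] at h3
      exact congrArg Fin.val h3
    · intro h1
      rw [show rhoF q = q from Fin.ext h1] at this
      exact (congrArg Fin.val this).symm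
  by_cases e : e6Twist.rho q.val = q.val
  · rw [e, hp e, et, hρ.2 e] at e1
    refine ⟨fun _ => (xg_inj e6Good ((R6 K).ww l q).isLt e1).symm, ?_⟩
    rw [oel, oel, if_pos e, if_pos (hρ.2 e), et]
  · refine ⟨fun h1 => absurd (hρ.1 h1) e, ?_⟩
    rw [oel, oel, if_neg e, if_neg (mt hρ.1 e), ← et, ← e1]
    simp only [m]
    group

variable {F : Type*} [Field F] [Finite F] (τ : F ≃+* F)

/-- A normal subgroup of odd order of the fixed points lies in `B`. -/
theorem core_le_B (hσ : ∀ t, τ (τ t) = t) (hc : c = true → ∀ t, τ t = t) {r : ℕ} [Fact r.Prime] [CharP F r]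
    (hr2 : r ≠ 2) {N : Subgroup (GL chevE6.Idx F)}
    (hN : N ≤ chevE6.group F ⊓ (theta τ c).eqLocus (MonoidHom.id _))
    (hn : ∀ g ∈ chevE6.group F, theta τ c g = g → ∀ n ∈ N, g * n * g⁻¹ ∈ N)
    (hodd : Odd (Nat.card N)) : N ≤ (R6 F).B := by
  haveI : Finite (GL chevE6.Idx F) := inferInstance
  intro g hgN
  by_contra hgB
  set W := chevE6.group F ⊓ (theta τ c).eqLocus (MonoidHom.id _)
  obtain ⟨v, hv, h, hh, l, u, hu, eg, hvf, huf, hmf, hl⟩ := fixed_split τ c hσ (hN hgN).1 (hN hgN).2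
  have h2 : (2 : F) ≠ 0 := fun h0 => hr2 ((Nat.prime_dvd_prime_iff_eq Fact.out Nat.prime_two).1
    ((CharP.cast_eq_zero_iff F r 2).1 (by exact_mod_cast h0)))
  have huU := (R6 F).Uminus_le_Upos l hu
  have hk : ¬ Keeps F c l := fun hk => hgB (by
    rw [eg]
    exact mul_mem (mul_mem ((R6 F).Upos_le_B hv) ((R6 F).H_le_B (mul_mem hh (mem_H_of_keeps τ c h2 hc hh hmf hk))))
      ((R6 F).Upos_le_B huU))
  simp only [Keeps, not_forall] at hk
  obtain ⟨q, hq, hqb, hneg⟩ := hk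
  have hG : ∀ x ∈ (R6 F).Upos, x ∈ chevE6.group F := fun x hx =>
    chev_G e6Good rootsE6 (F := F) ▸ (R6 F).B_le_G ((R6 F).Upos_le_B hx)
  obtain ⟨t, ht, hpt, et⟩ := conj_oel τ c hσ hh hmf hl one_ne_zero (par_good τ c q.isLt hqb (map_one τ))
  set s := (R6 F).ww l q with hs
  -- the groups inside `W`
  set Bw : Subgroup W := (R6 F).B.subgroupOf W
  set Uw : Subgroup W := (R6 F).Upos.subgroupOf W
  set Tw : Subgroup W := (R6 F).H.subgroupOf W
  set Nw : Subgroup W := N.subgroupOf W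
  haveI : Nw.Normal := ⟨fun n hn' w => hn w.1 w.2.1 w.2.2 _ hn'⟩
  have hS := sym_theta τ c hσ
  have hBw : ∀ b ∈ Bw, ∃ u ∈ Uw, ∃ t ∈ Tw, b = u * t := by
    rintro ⟨b, hbW⟩ hb
    obtain ⟨x, hx, y, hy, rfl⟩ := (R6 F).exists_B (show b ∈ (R6 F).B from hb)
    have h1 : x⁻¹ * theta τ c x = 1 := by
      rw [← Subgroup.mem_bot, ← (R6 F).U_inf_H]
      refine ⟨(mul_mem (inv_mem hx) (hS.map_Upos _ hx) : _ ∈ (R6 F).Upos), (?_ : _ ∈ (R6 F).H)⟩
      rw [show x⁻¹ * theta τ c x = y * (theta τ c y)⁻¹ by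
        rw [eq_mul_inv_iff_mul_eq, mul_assoc, ← map_mul, show theta τ c (x * y) = x * y from hbW.2,
          inv_mul_cancel_left]]
      exact mul_mem hy (inv_mem (hS.map_H _ hy))
    have hxW : x ∈ W := ⟨hG x hx, (inv_mul_eq_one.1 h1).symm⟩
    have hyW : y ∈ W := by simpa using mul_mem (inv_mem hxW) hbW
    exact ⟨⟨x, hxW⟩, hx, ⟨y, hyW⟩, hy, rfl⟩
  have hUo : Odd (Nat.card Uw) := by
    refine Odd.of_dvd_nat (odd_Upos e6Good rootsE6 (F := F) hr2) ?_
    exact Subgroup.card_comap_dvd_of_injective (R6 F).Upos W.subtype W.subtype_injective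
  have hNo : Odd (Nat.card Nw) := by
    rwa [Nat.card_congr (Subgroup.subgroupOfEquivOfLe hN).toEquiv]
  have hinP : ∀ {x : GL chevE6.Idx F} (hxW : x ∈ W), x ∈ (R6 F).B → (⟨x, hxW⟩ : W) ∈ Bw ⊔ Nw :=
    fun _ hx => Subgroup.mem_sup_left hx
  -- the monomial part
  have hvW : v ∈ W := ⟨hG v hv, hvf⟩
  have huW : u ∈ W := ⟨hG u huU, huf⟩
  have hmW : h * (R6 F).nw l ∈ W := by
    have := mul_mem (mul_mem (inv_mem hvW) (hN hgN)) (inv_mem huW)
    rwa [eg, show v⁻¹ * (v * (h * (R6 F).nw l) * u) * u⁻¹ = h * (R6 F).nw l by group] at this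
  have hmP : (⟨_, hmW⟩ : W) ∈ Bw ⊔ Nw := by
    have h1 := mul_mem (mul_mem (inv_mem (hinP hvW ((R6 F).Upos_le_B hv)))
      (Subgroup.mem_sup_right (T := Nw) (show (⟨g, hN hgN⟩ : W) ∈ Nw from hgN)))
      (inv_mem (hinP huW ((R6 F).Upos_le_B huU)))
    convert h1 using 1
    refine Subtype.ext ?_
    show _ = v⁻¹ * g * u⁻¹
    rw [eg]; group
  have hq1 := oel_mem τ c (r := q) (A := {r | (R6 F).pos r}) hq ((rhoF_pos q).2 hq) 1
  have hyW : oel τ c q.val 1 ∈ W := ⟨oel_mem_group τ c _ _, oel_fix τ c hσ q.isLt (par_good τ c q.isLt hqb (map_one τ))⟩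
  have hsW : oel τ c s.val t ∈ W := ⟨oel_mem_group τ c _ _, oel_fix τ c hσ s.isLt hpt⟩
  have hsP : (⟨_, hsW⟩ : W) ∈ Bw ⊔ Nw := by
    have h1 := mul_mem (mul_mem hmP (hinP hyW ((R6 F).Upos_le_B hq1))) (inv_mem hmP)
    convert h1 using 1
    exact Subtype.ext et.symm
  -- the reflection
  have hs' := e6Good.neg_lt s.val s.isLt
  have hsposn : (R6 F).pos ((R6 F).neg s) := ((R6 F).pos_neg s).2 hneg
  have hnW : oel τ c (chevE6.neg s.val) (-t⁻¹) ∈ W :=
    ⟨oel_mem_group τ c _ _, oel_fix τ c hσ hs' (par_neg τ c s.isLt hpt)⟩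
  have hnU : oel τ c (chevE6.neg s.val) (-t⁻¹) ∈ (R6 F).Upos :=
    oel_mem τ c (r := (R6 F).neg s) (A := {r | (R6 F).pos r}) hsposn ((rhoF_pos _).2 hsposn) _
  have hxW : nel τ c s.val t ∈ W := ⟨nel_mem_group τ c s.isLt t, nel_fix τ c hσ s.isLt hpt⟩
  have hxP : (⟨_, hxW⟩ : W) ∈ Bw ⊔ Nw := by
    have h1 := mul_mem (mul_mem hsP (hinP hnW ((R6 F).Upos_le_B hnU))) hsP
    convert h1 using 1
    exact Subtype.ext (nel_eq τ c s.isLt t)
  have hxN := nel_mem_N τ c s.isLt ht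
  refine parity Bw Uw Tw Nw (fun x hx => (R6 F).Upos_le_B hx) (fun x hx => (R6 F).H_le_B hx) ?_ hBw hUo hNo hxP
    (fun x hx => (R6 F).conj_H_mem hxN hx) ?_ ?_
  · refine (Subgroup.eq_bot_iff_forall _).2 fun x hx => Subtype.ext ?_
    rw [OneMemClass.coe_one, ← Subgroup.mem_bot, ← (R6 F).U_inf_H]
    exact ⟨hx.1, hx.2⟩
  · show nel τ c s.val t * nel τ c s.val t ∈ (R6 F).H
    rw [nel]
    split_ifs with e
    · exact ng_mul_mem e6Good _ s.isLt ht ht
    · have hρ := e6Twist_ok.rho_lt s.val s.isLt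
      have hne : e6Twist.rho (chevE6.neg s.val) ≠ chevE6.neg s.val := mt (rho_neg_iff s.isLt).1 e
      set t' := (sg c s.val : F) * τ t
      have ht' : t' ≠ 0 := mul_ne_zero (sg_ne c s.isLt) (by simpa using ht)
      have c1 := fun a b : F => (commute_orbit (K := F) s.isLt e a b).1
      have c2 := fun a b : F => (commute_orbit (K := F) s.isLt e a b).2.1
      have c3 := fun a b : F => (commute_orbit (K := F) s.isLt e a b).2.2
      have c4 : ∀ a b : F, Commute (xg e6Good F (chevE6.neg s.val) a)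
          (xg e6Good F (chevE6.neg (e6Twist.rho s.val)) b) := fun a b => by
        have := (commute_orbit (K := F) hs' hne a b).1
        rwa [e6Twist_ok.rho_neg _ s.isLt] at this
      have hcomm : Commute (ng e6Good F s.val t) (ng e6Good F (e6Twist.rho s.val) t') := by
        have ha : ∀ a, Commute (xg e6Good F s.val a) (ng e6Good F (e6Twist.rho s.val) t') := fun a =>
          ((c1 a _).mul_right (c2 a _)).mul_right (c1 a _)
        have hb : ∀ a, Commute (xg e6Good F (chevE6.neg s.val) a) (ng e6Good F (e6Twist.rho s.val) t') :=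
          fun a => (((c3 _ a).symm).mul_right (c4 a _)).mul_right (c3 _ a).symm
        exact ((ha _).mul_left (hb _)).mul_left (ha _)
      rw [show ng e6Good F s.val t * ng e6Good F (e6Twist.rho s.val) t' *
          (ng e6Good F s.val t * ng e6Good F (e6Twist.rho s.val) t') =
          ng e6Good F s.val t * (ng e6Good F (e6Twist.rho s.val) t' * ng e6Good F s.val t) *
            ng e6Good F (e6Twist.rho s.val) t' by group, ← hcomm.eq,
        show ng e6Good F s.val t * (ng e6Good F s.val t * ng e6Good F (e6Twist.rho s.val) t') *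
            ng e6Good F (e6Twist.rho s.val) t' = ng e6Good F s.val t * ng e6Good F s.val t *
            (ng e6Good F (e6Twist.rho s.val) t' * ng e6Good F (e6Twist.rho s.val) t') by group]
      exact mul_mem (ng_mul_mem e6Good _ s.isLt ht ht) (ng_mul_mem e6Good _ hρ ht' ht')
  · intro hxT
    obtain ⟨w, hw⟩ := nel_conj τ c s.isLt s.isLt ht (1 : F)
    have h1 : nel τ c s.val t * xg e6Good F s.val 1 * (nel τ c s.val t)⁻¹ ∈ (R6 F).U s :=
      (R6 F).H_conj_U _ hxT s _ (xg_mem_rootSubgroup e6Good s.val 1)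
    rw [hw, (refl_orbit s).1] at h1
    exact e6Good.neg_ne s.val s.isLt (congrArg Fin.val (eq_of_mem
      (r := (R6 F).neg s) (s := s) (xg_mem_rootSubgroup e6Good _ w) h1 fun h0 =>
        xg_ne_one s.isLt one_ne_zero (conj_eq_one_iff.1 (hw.trans (by rw [(refl_orbit s).1]; exact h0)))))

/-- A normal subgroup of odd order of the fixed points is diagonal and centralises the fixed unipotent elements. -/
theorem core_comm (hσ : ∀ t, τ (τ t) = t) (hc : c = true → ∀ t, τ t = t) {r : ℕ} [Fact r.Prime] [CharP F r]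
    (hr2 : r ≠ 2) {N : Subgroup (GL chevE6.Idx F)}
    (hN : N ≤ chevE6.group F ⊓ (theta τ c).eqLocus (MonoidHom.id _))
    (hn : ∀ g ∈ chevE6.group F, theta τ c g = g → ∀ n ∈ N, g * n * g⁻¹ ∈ N)
    (hodd : Odd (Nat.card N)) : ∀ n ∈ N, n ∈ (R6 F).H ∧
      ∀ x ∈ (R6 F).Upos, theta τ c x = x → n * x * n⁻¹ = x := by
  have hB := core_le_B c τ hσ hc hr2 hN hn hodd
  have hH : ∀ n ∈ N, n ∈ (R6 F).H := by
    intro n hn'
    obtain ⟨v, hv, h, hh, rfl⟩ := (R6 F).exists_B (hB hn')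
    have h1 := hB (hn _ nfour_mem_group (nfour_fix τ c) _ hn')
    have h3 : nfour F * v * (nfour F)⁻¹ ∈ (R6 F).B := by
      have h4 := mul_mem h1 (inv_mem ((R6 F).H_le_B ((R6 F).conj_H_mem (nfour_mem_N (K := F)) hh)))
      rwa [show nfour F * (v * h) * (nfour F)⁻¹ * (nfour F * h * (nfour F)⁻¹)⁻¹ =
        nfour F * v * (nfour F)⁻¹ by group] at h4
    rw [conj_eq_one_iff.1 ((R6 F).eq_one_of_B_Vneg h3 ((nfour_spec v).1 hv)), one_mul]
    exact hh
  intro n hn'
  refine ⟨hH n hn', fun x hx hxf => mul_inv_eq_one.1 ?_⟩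
  rw [← Subgroup.mem_bot, ← (R6 F).U_inf_H]
  refine ⟨(mul_mem ((R6 F).H_conj_span _ (hH n hn') _ hx) (inv_mem hx) : _ ∈ (R6 F).Upos), (?_ : _ ∈ (R6 F).H)⟩
  refine hH _ ?_
  rw [show n * x * n⁻¹ * x⁻¹ = n * (x * n⁻¹ * x⁻¹) by group]
  exact mul_mem hn' (hn x (chev_G e6Good rootsE6 (F := F) ▸ (R6 F).B_le_G ((R6 F).Upos_le_B hx)) hxf _
    (inv_mem hn'))

end Cfsg.Agent.ChevBalance.E6
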