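import Cfsg.Agent.Lib.ChevBalance.E6Core

/-!
# E₆: the criterion for the graph involutions in standard form

* `piE` : the symmetry as a permutation; `fix_thetaAut`;
* `udel_maps` : an automorphism fixing `U` permutes the subgroups `Udel`;
* `rigid_theta`, `crit_theta`.
-/

set_option autoImplicit false
set_option linter.style.haveILetI false
set_option linter.unusedSectionVars false

namespace Cfsg.Agent.ChevBalance.E6

open Cfsg Cfsg.Lie Cfsg.Lie.ChevalleyDatum Cfsg.Agent.Chev Cfsg.Agent.ChevBN Cfsg.Agent.ChevSt Cfsg.Agent.ChevAut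
open Cfsg.Agent.TwistE6D4 (e6Twist e6Twist_ok e6Root_ok)
open Cfsg.Agent.ChevFoldF4 (R6 rhoF rhoF_rhoF rhoF_pos e6n pos_iff e6Good)
open Cfsg.Agent.LocalBalance

theorem pi_pi : ∀ i : Fin chevE6.rank, e6Twist.pi (e6Twist.pi i) = i := by decide +kernel

/-- The symmetry as a permutation. -/
def piE : Equiv.Perm (Fin chevE6.rank) := ⟨e6Twist.pi, e6Twist.pi, pi_pi, pi_pi⟩

theorem piE_apply (i : Fin chevE6.rank) : piE i = e6Twist.pi i := rfl

theorem node_facts : (∀ i : Fin chevE6.rank, i = e6n 0 ∨ i = e6n 1 ∨ i = e6n 2 ∨ i = e6n 3 ∨ i = e6n 4 ∨ i = e6n 5) ∧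
    e6Twist.pi (e6n 0) = e6n 5 ∧ e6Twist.pi (e6n 1) = e6n 1 ∧ e6Twist.pi (e6n 2) = e6n 4 ∧
    e6Twist.pi (e6n 3) = e6n 3 ∧ e6Twist.pi (e6n 4) = e6n 2 ∧ e6Twist.pi (e6n 5) = e6n 0 := by decide +kernel

theorem bonds_facts : chevE6.bonds (e6n 0) (e6n 4) ≠ chevE6.bonds (e6n 0) (e6n 2) ∧
    chevE6.bonds (e6n 5) (e6n 2) ≠ chevE6.bonds (e6n 0) (e6n 2) := by decide +kernel

theorem pair_root : chevE6.chainRoot (chevE6.simple (e6n 1).val) (chevE6.simple (e6n 3).val) 1 = some 47 ∧
    chevE6.chainRoot 47 (chevE6.simple (e6n 4).val) 1 = some 48 ∧ 47 < chevE6.nroots ∧ 48 < chevE6.nroots ∧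
    e6Twist.rho 48 = 50 ∧ bad false (chevE6.simple (e6n 1).val) = false ∧
    bad true 48 = false ∧ e6Twist.rho (chevE6.simple (e6n 1).val) = chevE6.simple (e6n 1).val := by decide +kernel

theorem moved_nodes : ∀ k : Fin chevE6.rank, k ≠ e6n 1 →
    wN chevE6 1 (chevE6.simple k.val) ≠ chevE6.simple (e6n 1).val ∧
    wN chevE6 1 (chevE6.simple k.val) ≠ chevE6.simple (e6n 3).val ∧
    wN chevE6 3 (wN chevE6 1 (chevE6.simple k.val)) ≠ chevE6.simple (e6n 2).val ∧
    wN chevE6 3 (wN chevE6 1 (chevE6.simple k.val)) ≠ chevE6.simple (e6n 3).val := by decide +kernel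

variable {F : Type*} [Field F] [Finite F] (τ : F ≃+* F) (c : Bool)

theorem fix_thetaAut (hσ : ∀ t, τ (τ t) = t) : Fix (thetaAut τ c hσ) piE := by
  refine fix_of_apply e6Good (f := fun i t => (sg c (chevE6.simple i.val) : F) * τ t)
    (g := fun i t => (sg c (chevE6.simple i.val) : F) * τ t) ?_ ?_ fun i t => ?_
  iterate 2
    intro i s
    refine ⟨τ ((sg c (chevE6.simple i.val) : F) * s), ?_⟩
    show _ * τ (τ _) = s
    rw [hσ, ← mul_assoc, sg_sq c (e6Good.simple_lt _ i.isLt), one_mul]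
  have hi := e6Good.simple_lt _ i.isLt
  constructor <;> refine Subtype.ext ?_ <;> rw [coe_thetaAut]
  · show theta τ c (xg e6Good F (chevE6.simple i.val) t) = _
    rw [theta_xg τ c hi, e6Root_ok.simple_pi]
    rfl
  · show theta τ c (xg e6Good F (chevE6.neg (chevE6.simple i.val)) t) = _
    rw [theta_xg τ c (e6Good.neg_lt _ hi), e6Twist_ok.rho_neg _ hi, (sg_facts c ⟨_, hi⟩).2.2.1,
      e6Root_ok.simple_pi]
    rfl

variable (hlist : chevE6 ∈ [chevG2, chevB2, chevD4, chevF4, chevE6, chevE7, chevE8])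
include hlist

/-- An automorphism fixing `U` permutes the subgroups `Udel`. -/
theorem udel_maps {y : MulAut (chevE6.group F)} (hU : Maps y (R6 F).Upos (R6 F).Upos) :
    ∃ π : Equiv.Perm (Fin chevE6.rank), ∀ (i : Fin chevE6.rank) (z : chevE6.group F),
      (z : GL chevE6.Idx F) ∈ (R6 F).Udel i → ((y z : chevE6.group F) : GL chevE6.Idx F) ∈ (R6 F).Udel (π i) := by
  obtain ⟨π, -, x, hx⟩ := exists_fix e6Good rootsE6 hlist y
  obtain ⟨hU', -⟩ := hx.maps_pair e6Good rootsE6
  have hG : (R6 F).G = chevE6.group F := chev_G e6Good rootsE6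
  have hxB : (x : GL chevE6.Idx F) ∈ (R6 F).B := by
    rw [← normalizer_Upos (R6 F)]
    refine Subgroup.mem_inf.2 ⟨Subgroup.mem_normalizer_fintype fun z hz => ?_, hG.symm ▸ x.2⟩
    have hzG : z ∈ chevE6.group F := hG ▸ (R6 F).B_le_G ((R6 F).Upos_le_B hz)
    have h1 : ((y.symm ⟨z, hzG⟩ : chevE6.group F) : GL chevE6.Idx F) ∈ (R6 F).Upos :=
      (hU _).2 (by rw [y.apply_symm_apply]; exact hz)
    have h2 := (hU' _).1 h1
    simpa using h2
  refine ⟨π, fun i z hz => ?_⟩
  have h1 := (sym_extGL e6Good rootsE6 hx).map_Udel i hz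
  rw [extGL_coe] at h1
  obtain ⟨v, hv, h, hh, exh⟩ := (R6 F).exists_B hxB
  have h2 : ((x * y z * x⁻¹ : chevE6.group F) : GL chevE6.Idx F) ∈ (R6 F).Udel (π i) := h1
  rw [Subgroup.coe_mul, Subgroup.coe_mul, InvMemClass.coe_inv, exh] at h2
  have h3 := (R6 F).H_conj_span {s | (R6 F).pos s ∧ s ≠ (R6 F).simple (π i)} (inv_mem hh) _
    ((R6 F).conj_Udel (π i) (inv_mem hv) h2)
  rwa [show h⁻¹ * (v⁻¹ * (v * h * ((y z : chevE6.group F) : GL chevE6.Idx F) * (v * h)⁻¹) * v⁻¹⁻¹) * h⁻¹⁻¹ =
    ((y z : chevE6.group F) : GL chevE6.Idx F) by group] at h3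

set_option maxHeartbeats 1000000 in
/-- An automorphism commuting with the involution and fixing its fixed points has square one. -/
theorem rigid_theta (hσ : ∀ t, τ (τ t) = t) (hc : c = true → ∀ t, τ t = t)
    {y : MulAut (chevE6.group F)} (hy : y * thetaAut τ c hσ = thetaAut τ c hσ * y)
    (hk : ∀ k ∈ fixK (thetaAut τ c hσ), y k = k) : y ^ 2 = 1 := by
  haveI := Fintype.ofFinite F
  obtain ⟨p, hp⟩ := CharP.exists F
  haveI := hp
  haveI : Fact p.Prime := ⟨CharP.char_is_prime F p⟩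
  have hG : (R6 F).G = chevE6.group F := chev_G e6Good rootsE6
  have hfixed : ∀ {x : GL chevE6.Idx F} (hx : x ∈ chevE6.group F), theta τ c x = x →
      ((y ⟨x, hx⟩ : chevE6.group F) : GL chevE6.Idx F) = x := fun hx e =>
    congrArg Subtype.val (hk ⟨_, hx⟩ (Subtype.ext e))
  have hoel : ∀ {b : ℕ}, b < chevE6.nroots → ∀ {t : F}, Par τ c b t →
      ((y ⟨oel τ c b t, oel_mem_group τ c b t⟩ : chevE6.group F) : GL chevE6.Idx F) = oel τ c b t :=
    fun hb _ h => hfixed _ (oel_fix τ c hσ hb h)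
  have hUG : ∀ {x}, x ∈ (R6 F).Upos → x ∈ chevE6.group F := fun hx =>
    hG ▸ (R6 F).B_le_G ((R6 F).Upos_le_B hx)
  -- fundamental root elements
  let xs : Fin chevE6.rank → F → GL chevE6.Idx F := fun i t => xg e6Good F (chevE6.simple i.val) t
  have hxsU : ∀ i t, xs i t ∈ (R6 F).Upos := fun i t =>
    (R6 F).U_le_Upos ((R6 F).pos_simple i) (xg_mem_rootSubgroup e6Good _ _)
  have hxsD : ∀ i j, i ≠ j → ∀ t, xs i t ∈ (R6 F).Udel j := fun i j hij t =>
    (R6 F).U_le_span (A := {s | (R6 F).pos s ∧ s ≠ (R6 F).simple j})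
      ⟨(R6 F).pos_simple i, fun e => hij ((R6 F).simple_inj e)⟩ (xg_mem_rootSubgroup e6Good _ _)
  have hxs0 : ∀ i {t}, t ≠ 0 → xs i t ∉ (R6 F).Udel i := fun i t ht h =>
    xg_ne_one (e6Good.simple_lt _ i.isLt) ht
      ((R6 F).U_inf_Udel i (xg_mem_rootSubgroup e6Good _ _) h)
  have hsgs : ∀ i : Fin chevE6.rank, (sg c (chevE6.simple i.val) : F) ≠ 0 := fun i =>
    sg_ne c (e6Good.simple_lt _ i.isLt)
  -- the image of `U`
  obtain ⟨g, hg, hm⟩ := exists_maps_conj e6Good rootsE6 (F := F) p y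
  have hθg : ∃ a ∈ (R6 F).B, theta τ c g = g * a := by
    refine ⟨g⁻¹ * theta τ c g, ?_, by group⟩
    rw [← normalizer_Upos (R6 F)]
    refine Subgroup.mem_inf.2 ⟨Subgroup.mem_normalizer_fintype fun x hx => ?_,
      hG.symm ▸ mul_mem (inv_mem hg) (theta_mem τ c hg)⟩
    have hxG : theta τ c x ∈ chevE6.group F := theta_mem τ c (hUG hx)
    have hxU : theta τ c x ∈ (R6 F).Upos := (sym_theta τ c hσ).map_Upos x hx
    have hz : g * theta τ c x * g⁻¹ ∈ chevE6.group F := mul_mem (mul_mem hg hxG) (inv_mem hg)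
    have h1 : ((y.symm ⟨_, hz⟩ : chevE6.group F) : GL chevE6.Idx F) ∈ (R6 F).Upos := (hm _).2 (by
      rw [y.apply_symm_apply, RGD.RootData.mem_map_conj]
      show g⁻¹ * (g * theta τ c x * g⁻¹) * g ∈ (R6 F).Upos
      simpa [mul_assoc] using hxU)
    have h2 := (hm (thetaAut τ c hσ (y.symm ⟨_, hz⟩))).1 ((sym_theta τ c hσ).map_Upos _ h1)
    rw [← MulAut.mul_apply, hy, MulAut.mul_apply, y.apply_symm_apply, RGD.RootData.mem_map_conj,
      coe_thetaAut] at h2
    simpa [map_mul, map_inv, theta_theta τ c hσ (hUG hx), mul_assoc] using h2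
  obtain ⟨a, ha, hag⟩ := hθg
  obtain ⟨b, hb, l, u, hu, eg, huf, hl⟩ := fixed_form τ c hσ (inv_mem hg) (inv_mem ha)
    (show theta τ c g⁻¹ = a⁻¹ * g⁻¹ by rw [map_inv, hag, mul_inv_rev])
  have huU := (R6 F).Uminus_le_Upos l hu
  have hbN : b ∈ Subgroup.normalizer ((R6 F).Upos : Set (GL chevE6.Idx F)) := B_le_normalizer (R6 F) hb
  have hnum : ∀ z : chevE6.group F, (z : GL chevE6.Idx F) ∈ (R6 F).Upos ↔
      (R6 F).nw l * u * ((y z : chevE6.group F) : GL chevE6.Idx F) * ((R6 F).nw l * u)⁻¹ ∈ (R6 F).Upos := by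
    intro z
    rw [hm z, RGD.RootData.mem_map_conj]
    conv_rhs => rw [Subgroup.mem_normalizer_iff.1 hbN, ← mul_assoc, ← mul_assoc, ← mul_assoc, ← eg]
    rw [show g⁻¹ * ((y z : chevE6.group F) : GL chevE6.Idx F) * ((R6 F).nw l * u)⁻¹ * b⁻¹ =
      g⁻¹ * ((y z : chevE6.group F) : GL chevE6.Idx F) * (b * (R6 F).nw l * u)⁻¹ by group, ← eg, inv_inv]
  -- good positive roots stay positive
  have hkeep : Keeps F c l := by
    intro q hq hqb
    by_contra hneg
    have hx : oel τ c q.val 1 ∈ (R6 F).Upos :=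
      oel_mem τ c (A := {r | (R6 F).pos r}) hq ((rhoF_pos q).2 hq) 1
    set x := u⁻¹ * oel τ c q.val 1 * u
    have hxU : x ∈ (R6 F).Upos := mul_mem (mul_mem (inv_mem huU) hx) huU
    have hxf : theta τ c x = x := by
      simp only [x, map_mul, map_inv, huf, oel_fix τ c hσ q.isLt (par_good τ c q.isLt hqb (map_one τ))]
    have h1 := (hnum ⟨x, hUG hxU⟩).1 hxU
    rw [hfixed _ hxf, show (R6 F).nw l * u * x * ((R6 F).nw l * u)⁻¹ =
      (R6 F).nw l * oel τ c q.val 1 * ((R6 F).nw l)⁻¹ by simp only [x]; group] at h1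
    have h2 : (R6 F).nw l * oel τ c q.val 1 * ((R6 F).nw l)⁻¹ ∈ (R6 F).Vneg :=
      (R6 F).span_conj (A := {r | r = q ∨ r = rhoF q}) (fun r hr z hz => (R6 F).U_le_Vneg
        (by rcases hr with rfl | rfl
            · exact hneg
            · rw [hl, rhoF_pos]; exact hneg) ((R6 F).conj_U_mem ((R6 F).map_conj_U l r) hz))
        _ (oel_mem τ c (Or.inl rfl) (Or.inr rfl) 1)
    exact oel_ne_one τ c q.isLt one_ne_zero
      (conj_eq_one_iff.1 ((R6 F).eq_one_of_B_Vneg ((R6 F).Upos_le_B h1) h2))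
  have hUU : Maps y (R6 F).Upos (R6 F).Upos := by
    rcases keeps_cases hkeep with h1 | ⟨rfl, h1⟩
    · intro z
      have hN : (R6 F).nw l * u ∈ Subgroup.normalizer ((R6 F).Upos : Set (GL chevE6.Idx F)) :=
        B_le_normalizer (R6 F) (mul_mem ((R6 F).H_le_B ((R6 F).mem_H_of_simple fun i => by
          rw [h1]; exact (R6 F).pos_simple i)) ((R6 F).Upos_le_B huU))
      rw [hnum, ← Subgroup.mem_normalizer_iff.1 hN]
    exfalso
    have hnuG : (R6 F).nw l * u ∈ chevE6.group F :=
      mul_mem (hG ▸ (R6 F).N_le_G ((R6 F).nw_mem_N l)) (hUG huU)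
    set y' : MulAut (chevE6.group F) := y.trans (MulAut.conj ⟨_, hnuG⟩) with hy'
    have hU' : Maps y' (R6 F).Upos (R6 F).Upos := fun z => hnum z
    obtain ⟨π, hπ⟩ := udel_maps hlist hU'.symm
    -- a fixed element with five nonzero coordinates
    set s0 : F := (sg true (chevE6.simple (e6n 0).val) : F)
    set s2 : F := (sg true (chevE6.simple (e6n 2).val) : F)
    set e := xs (e6n 3) 1 * (xs (e6n 0) 1 * xs (e6n 5) s0) * (xs (e6n 2) 1 * xs (e6n 4) s2) with he
    obtain ⟨-, p0, -, p2, p3, -, -⟩ := node_facts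
    have hef : theta τ true e = e := by
      have e0 : oel τ true (chevE6.simple (e6n 0).val) 1 = xs (e6n 0) 1 * xs (e6n 5) s0 := by
        rw [oel, if_neg (by decide +kernel), e6Root_ok.simple_pi, p0, map_one, mul_one]
      have e2 : oel τ true (chevE6.simple (e6n 2).val) 1 = xs (e6n 2) 1 * xs (e6n 4) s2 := by
        rw [oel, if_neg (by decide +kernel), e6Root_ok.simple_pi, p2, map_one, mul_one]
      have e3 : oel τ true (chevE6.simple (e6n 3).val) 1 = xs (e6n 3) 1 := by
        rw [oel, if_pos (by decide +kernel)]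
      have hf : ∀ i : Fin chevE6.rank, bad true (chevE6.simple i.val) = false →
          theta τ true (oel τ true (chevE6.simple i.val) 1) = oel τ true (chevE6.simple i.val) 1 := fun i hi =>
        oel_fix τ true hσ (e6Good.simple_lt _ i.isLt) (par_good τ true (e6Good.simple_lt _ i.isLt) hi (map_one τ))
      rw [he, ← e0, ← e2, ← e3, map_mul, map_mul, hf _ (by decide +kernel), hf _ (by decide +kernel),
        hf _ (by decide +kernel)]
    have heU : e ∈ (R6 F).Upos :=
      mul_mem (mul_mem (hxsU _ _) (mul_mem (hxsU _ _) (hxsU _ _))) (mul_mem (hxsU _ _) (hxsU _ _))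
    have hedel : ∀ k, e ∈ (R6 F).Udel k → k = e6n 1 := by
      intro k hk'
      by_contra hk1
      have hne : ∀ i j : Fin 6, i ≠ j → e6n i ≠ e6n j := fun i j hij h => hij (Fin.ext
        (show i.val = j.val from congrArg (fun z : Fin chevE6.rank => z.val) h))
      have key : ∀ {i : Fin chevE6.rank} {t : F} {p q : GL chevE6.Idx F}, t ≠ 0 → p ∈ (R6 F).Udel i →
          q ∈ (R6 F).Udel i → e = p * xs i t * q → e ∉ (R6 F).Udel i := fun {i} {t} {p} {q} ht hp hq he' h => by
        refine hxs0 i ht ?_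
        have := mul_mem (mul_mem (inv_mem hp) h) (inv_mem hq)
        rwa [he', show p⁻¹ * (p * xs i t * q) * q⁻¹ = xs i t by group] at this
      have h0 : s0 ≠ 0 := sg_ne true (e6Good.simple_lt _ (e6n 0).isLt)
      have h2 : s2 ≠ 0 := sg_ne true (e6Good.simple_lt _ (e6n 2).isLt)
      rcases node_facts.1 k with rfl | rfl | rfl | rfl | rfl | rfl
      · exact key one_ne_zero (hxsD _ _ (hne 3 0 (by decide)) 1)
          (mul_mem (hxsD _ _ (hne 5 0 (by decide)) s0) (mul_mem (hxsD _ _ (hne 2 0 (by decide)) 1)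
            (hxsD _ _ (hne 4 0 (by decide)) s2))) (by rw [he]; group) hk'
      · exact hk1 rfl
      · exact key one_ne_zero (mul_mem (hxsD _ _ (hne 3 2 (by decide)) 1)
          (mul_mem (hxsD _ _ (hne 0 2 (by decide)) 1) (hxsD _ _ (hne 5 2 (by decide)) s0)))
          (hxsD _ _ (hne 4 2 (by decide)) s2) (by rw [he]; group) hk'
      · exact key one_ne_zero (one_mem _) (mul_mem (mul_mem (hxsD _ _ (hne 0 3 (by decide)) 1)
          (hxsD _ _ (hne 5 3 (by decide)) s0)) (mul_mem (hxsD _ _ (hne 2 3 (by decide)) 1)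
          (hxsD _ _ (hne 4 3 (by decide)) s2))) (by rw [he]; group) hk'
      · exact key h2 (mul_mem (mul_mem (hxsD _ _ (hne 3 4 (by decide)) 1)
          (mul_mem (hxsD _ _ (hne 0 4 (by decide)) 1) (hxsD _ _ (hne 5 4 (by decide)) s0)))
          (hxsD _ _ (hne 2 4 (by decide)) 1)) (one_mem _) (by rw [he]; group) hk'
      · exact key h0 (mul_mem (hxsD _ _ (hne 3 5 (by decide)) 1) (hxsD _ _ (hne 0 5 (by decide)) 1))
          (mul_mem (hxsD _ _ (hne 2 5 (by decide)) 1) (hxsD _ _ (hne 4 5 (by decide)) s2)) (by rw [he]; group) hk'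
    set x := u⁻¹ * e * u
    have hxU : x ∈ (R6 F).Upos := mul_mem (mul_mem (inv_mem huU) heU) huU
    have hx' : y' ⟨x, hUG hxU⟩ = ⟨(R6 F).nw l * e * ((R6 F).nw l)⁻¹, by
        exact mul_mem (mul_mem (hG ▸ (R6 F).N_le_G ((R6 F).nw_mem_N l)) (hUG heU))
          (inv_mem (hG ▸ (R6 F).N_le_G ((R6 F).nw_mem_N l)))⟩ := by
      refine Subtype.ext ?_
      show (R6 F).nw l * u * ((y ⟨x, hUG hxU⟩ : chevE6.group F) : GL chevE6.Idx F) * ((R6 F).nw l * u)⁻¹ = _
      rw [hfixed _ (by simp only [x, map_mul, map_inv, huf, hef])]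
      simp only [x]
      group
    have hback : ∀ j, (R6 F).nw l * e * ((R6 F).nw l)⁻¹ ∈ (R6 F).Udel j → π j = e6n 1 := fun j hj => by
      refine hedel _ ?_
      have h2 := hπ j (y' ⟨x, hUG hxU⟩) (by rw [hx']; exact hj)
      rw [show y'.symm (y' ⟨x, hUG hxU⟩) = ⟨x, hUG hxU⟩ from y'.symm_apply_apply _] at h2
      have h3 := (R6 F).conj_Udel (π j) huU h2
      rwa [show u * x * u⁻¹ = e by simp only [x]; group] at h3
    have hmem : ∀ j, (∀ k : Fin chevE6.rank, k ≠ e6n 1 → (R6 F).ww l ((R6 F).simple k) ≠ (R6 F).simple j) →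
        (R6 F).nw l * e * ((R6 F).nw l)⁻¹ ∈ (R6 F).Udel j := by
      intro j hj
      have h1 : ∀ k : Fin chevE6.rank, k ≠ e6n 1 → ∀ t, (R6 F).nw l * xs k t * ((R6 F).nw l)⁻¹ ∈ (R6 F).Udel j :=
        fun k hk1 t => (R6 F).U_le_span (A := {s | (R6 F).pos s ∧ s ≠ (R6 F).simple j})
          ⟨hkeep _ ((R6 F).pos_simple k) (Bool.eq_false_of_not_eq_true fun hb' => hk1 ((peel_one k).1 hb')),
            hj k hk1⟩ ((R6 F).conj_U_mem ((R6 F).map_conj_U l _) (xg_mem_rootSubgroup e6Good _ _))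
      have hne1 : ∀ i : Fin 6, i ≠ 1 → e6n i ≠ e6n 1 := fun i hi h => hi (Fin.ext
        (show i.val = (1 : Fin 6).val from congrArg (fun z : Fin chevE6.rank => z.val) h))
      have h2 := mul_mem (mul_mem (h1 _ (hne1 3 (by decide)) 1) (mul_mem (h1 _ (hne1 0 (by decide)) 1)
        (h1 _ (hne1 5 (by decide)) s0))) (mul_mem (h1 _ (hne1 2 (by decide)) 1) (h1 _ (hne1 4 (by decide)) s2))
      convert h2 using 1
      rw [he]; group
    have hinj : ∀ i j : Fin chevE6.rank, π i = e6n 1 → π j = e6n 1 → i = j := fun i j hi hj =>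
      π.injective (hi.trans hj.symm)
    rcases h1 with h1 | h1
    · have := hinj _ _ (hback _ (hmem (e6n 1) fun k hk1 h => (moved_nodes k hk1).1
        (congrArg Fin.val ((h1 _).symm.trans h))))
        (hback _ (hmem (e6n 3) fun k hk1 h => (moved_nodes k hk1).2.1 (congrArg Fin.val ((h1 _).symm.trans h))))
      exact absurd (congrArg Fin.val this) (by simp [e6n])
    · have := hinj _ _ (hback _ (hmem (e6n 2) fun k hk1 h => (moved_nodes k hk1).2.2.1
        (congrArg Fin.val ((h1 _).symm.trans h))))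
        (hback _ (hmem (e6n 3) fun k hk1 h => (moved_nodes k hk1).2.2.2 (congrArg Fin.val ((h1 _).symm.trans h))))
      exact absurd (congrArg Fin.val this) (by simp [e6n])
  have hVV : Maps y (R6 F).Vneg (R6 F).Vneg :=
    maps_neg_of_conj e6Good rootsE6 (n := ⟨nfour F, nfour_mem_group⟩) nfour_spec
      (hk _ (Subtype.ext (nfour_fix τ c))) hUU
  obtain ⟨ρ, hρ⟩ := fix_of_maps e6Good rootsE6 hlist hUU hVV
  -- the permutation
  obtain ⟨hnodes, p0, p1, p2, p3, p4, p5⟩ := node_facts
  have hgood : ∀ i : Fin chevE6.rank, i ≠ e6n 1 → bad c (chevE6.simple i.val) = false := fun i hi => by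
    cases c
    · rfl
    · exact Bool.eq_false_of_not_eq_true fun hb' => hi ((peel_one i).1 hb')
  have hpar : ∀ i : Fin chevE6.rank, i ≠ e6n 1 → ∀ {t : F}, τ t = t → Par τ c (chevE6.simple i.val) t :=
    fun i hi t ht => par_good τ c (e6Good.simple_lt _ i.isLt) (hgood i hi) ht
  have hρi : ∀ i : Fin chevE6.rank, i ≠ e6n 1 → ρ i = i ∨ ρ i = e6Twist.pi i := by
    intro i hi
    by_contra hne
    push Not at hne
    set j := ρ i
    have hz := hoel (e6Good.simple_lt _ i.isLt) (hpar i hi (map_one τ))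
    have h1 : oel τ c (chevE6.simple i.val) 1 ∈ (R6 F).Udel j := by
      refine oel_mem τ c (r := (R6 F).simple i) (A := {s | (R6 F).pos s ∧ s ≠ (R6 F).simple j})
        ⟨(R6 F).pos_simple i, fun e => hne.1 ((R6 F).simple_inj e).symm⟩
        ⟨(rhoF_pos _).2 ((R6 F).pos_simple i), fun e => hne.2 ((R6 F).simple_inj (e.symm.trans (Fin.ext
          (e6Root_ok.simple_pi i))))⟩ 1
    rw [← hz] at h1
    have hy1 : ((y (gx e6Good (chevE6.simple i.val) 1) : chevE6.group F) : GL chevE6.Idx F) ∈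
        (R6 F).U ((R6 F).simple j) := ((hρ i).1 _).1 (xg_mem_rootSubgroup e6Good _ _)
    have hy1' : ((y (gx e6Good (chevE6.simple i.val) 1) : chevE6.group F) : GL chevE6.Idx F) ∈ (R6 F).Udel j := by
      by_cases e : e6Twist.pi i = i
      · have e0 : gx e6Good (chevE6.simple i.val) (1 : F) =
            ⟨oel τ c (chevE6.simple i.val) 1, oel_mem_group τ c _ _⟩ := by
          apply Subtype.ext
          show xg e6Good F (chevE6.simple i.val) 1 = oel τ c (chevE6.simple i.val) 1
          rw [oel, if_pos (show e6Twist.rho (chevE6.simple i.val) = chevE6.simple i.val by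
            rw [e6Root_ok.simple_pi, e])]
        rw [e0]
        exact h1
      · have hy2 : ((y (gx e6Good (chevE6.simple (e6Twist.pi i).val) (sg c (chevE6.simple i.val) : F)) :
            chevE6.group F) : GL chevE6.Idx F) ∈ (R6 F).Udel j :=
          (R6 F).U_le_span (A := {s | (R6 F).pos s ∧ s ≠ (R6 F).simple j})
            ⟨(R6 F).pos_simple _, fun e' => e (ρ.injective ((R6 F).simple_inj e'))⟩
            (((hρ (e6Twist.pi i)).1 _).1 (xg_mem_rootSubgroup e6Good _ _))
        have e0 : gx e6Good (chevE6.simple i.val) (1 : F) =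
            ⟨oel τ c (chevE6.simple i.val) 1, oel_mem_group τ c _ _⟩ *
              (gx e6Good (chevE6.simple (e6Twist.pi i).val) (sg c (chevE6.simple i.val) : F))⁻¹ := by
          rw [eq_mul_inv_iff_mul_eq]
          apply Subtype.ext
          show _ = oel τ c (chevE6.simple i.val) 1
          have hne : ¬ e6Twist.rho (chevE6.simple i.val) = chevE6.simple i.val := fun h => e ((R6 F).simple_inj
            (Fin.ext ((e6Root_ok.simple_pi i).symm.trans h)))
          rw [Subgroup.coe_mul, oel, if_neg hne, e6Root_ok.simple_pi, map_one, mul_one]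
          rfl
        rw [e0, map_mul, map_inv, Subgroup.coe_mul, InvMemClass.coe_inv]
        exact mul_mem h1 (inv_mem hy2)
    have h4 := (R6 F).U_inf_Udel j hy1 hy1'
    have h5 : gx e6Good (chevE6.simple i.val) (1 : F) = 1 := y.injective (Subtype.ext (by rw [h4, map_one]; rfl))
    exact xg_ne_one (e6Good.simple_lt _ i.isLt) one_ne_zero (congrArg Subtype.val h5)
  have hne1 : ∀ i : Fin 6, i ≠ 1 → e6n i ≠ e6n 1 := fun i hi h => hi (Fin.ext
    (show i.val = (1 : Fin 6).val from congrArg (fun z : Fin chevE6.rank => z.val) h))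
  have hsym : chevE6.IsDiagramSymmetry ρ := range_symmetry e6Good rootsE6 hlist
    ⟨QuotientGroup.mk y, (permHom_of_fix e6Good rootsE6 hlist hρ : permHom e6Good rootsE6 hlist y = ρ)⟩
  have hρ1 : ρ (e6n 1) = e6n 1 := by
    obtain ⟨i, hi⟩ := ρ.surjective (e6n 1)
    by_cases hi1 : i = e6n 1
    · rwa [hi1] at hi
    exfalso
    rcases hρi i hi1 with e | e
    · exact hi1 (e ▸ hi)
    · exact hi1 (by rw [← pi_pi i, ← e, hi, p1])
  have hρ3 : ρ (e6n 3) = e6n 3 := by
    rcases hρi _ (hne1 3 (by decide)) with e | e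
    · exact e
    · rwa [p3] at e
  have hor : ρ = 1 ∨ ρ = piE := by
    obtain ⟨b1, b2⟩ := bonds_facts
    have hb := hsym (e6n 0) (e6n 2) (by decide +kernel)
    have hn05 : e6n 0 ≠ e6n 5 := by decide +kernel
    have hn24 : e6n 2 ≠ e6n 4 := by decide +kernel
    rcases hρi _ (hne1 0 (by decide)) with e0 | e0 <;> rcases hρi _ (hne1 2 (by decide)) with e2 | e2
    · left
      refine Equiv.ext fun i => ?_
      rcases hnodes i with rfl | rfl | rfl | rfl | rfl | rfl
      · exact e0
      · exact hρ1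
      · exact e2
      · exact hρ3
      · rcases hρi _ (hne1 4 (by decide)) with e | e
        · exact e
        · rw [p4, ← e2] at e; exact absurd (ρ.injective e).symm hn24
      · rcases hρi _ (hne1 5 (by decide)) with e | e
        · exact e
        · rw [p5, ← e0] at e; exact absurd (ρ.injective e).symm hn05
    · rw [e0, e2, p2] at hb; exact absurd hb b1
    · rw [e0, p0, e2] at hb; exact absurd hb b2
    · right
      refine Equiv.ext fun i => ?_
      rw [piE_apply]
      rcases hnodes i with rfl | rfl | rfl | rfl | rfl | rfl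
      · exact e0
      · rw [hρ1, p1]
      · exact e2
      · rw [hρ3, p3]
      · rcases hρi _ (hne1 4 (by decide)) with e | e
        · exact absurd (ρ.injective (e.trans (by rw [e2, p2]) : ρ (e6n 4) = ρ (e6n 2))).symm hn24
        · exact e
      · rcases hρi _ (hne1 5 (by decide)) with e | e
        · exact absurd (ρ.injective (e.trans (by rw [e0, p0]) : ρ (e6n 5) = ρ (e6n 0))).symm hn05
        · exact e
  -- automorphisms fixing the nodes
  have key : ∀ z : MulAut (chevE6.group F), (∀ k ∈ fixK (thetaAut τ c hσ), z k = k) → Fix z 1 → z = 1 := by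
    intro z hzk hz
    obtain ⟨cc, μ, hcc⟩ := apply_of_fix e6Good rootsE6 hlist hz
    have hz1 : ∀ (i : Fin chevE6.rank) (t : F), ((z (gx e6Good (chevE6.simple i.val) t) : chevE6.group F) :
        GL chevE6.Idx F) = xs i ((cc i : F) * μ t) := fun i t => by
      rw [(hcc i t).1, Equiv.Perm.one_apply]
      simp [ChevalleyDatum.graphExp, xs, gx]
    have hzo : ∀ {b : ℕ}, b < chevE6.nroots → ∀ {t : F}, Par τ c b t →
        z ⟨oel τ c b t, oel_mem_group τ c b t⟩ = ⟨oel τ c b t, oel_mem_group τ c b t⟩ := fun hb _ h =>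
      hzk _ (Subtype.ext (oel_fix τ c hσ hb h))
    have hpair : ∀ i : Fin chevE6.rank, e6Twist.pi i ≠ i → ∀ t : F, (cc i : F) * μ t = t ∧
        (cc (e6Twist.pi i) : F) * μ ((sg c (chevE6.simple i.val) : F) * τ t) =
          (sg c (chevE6.simple i.val) : F) * τ t := by
      intro i hi t
      have hne : e6Twist.rho (chevE6.simple i.val) ≠ chevE6.simple i.val := fun h =>
        hi ((R6 F).simple_inj (Fin.ext ((e6Root_ok.simple_pi i).symm.trans h)))
      have h := congrArg Subtype.val (hzo (e6Good.simple_lt _ i.isLt) (t := t) fun h => absurd h hne)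
      have e : (⟨oel τ c (chevE6.simple i.val) t, oel_mem_group τ c _ _⟩ : chevE6.group F) =
          gx e6Good (chevE6.simple i.val) t *
            gx e6Good (chevE6.simple (e6Twist.pi i).val) ((sg c (chevE6.simple i.val) : F) * τ t) := by
        refine Subtype.ext ?_
        show oel τ c (chevE6.simple i.val) t = _
        rw [Subgroup.coe_mul, oel, if_neg hne, e6Root_ok.simple_pi]
        rfl
      rw [e, map_mul, Subgroup.coe_mul, hz1, hz1] at h
      exact pair_inj (e6Good.simple_lt _ i.isLt) (e6Good.simple_lt _ (e6Twist.pi i).isLt)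
        (fun h' => hi ((R6 F).simple_inj (Fin.ext h'.symm))) h
    have hp0 := hpair (e6n 0) (by rw [p0]; decide +kernel)
    have hc0 : cc (e6n 0) = 1 := Units.ext (by simpa using (hp0 1).1)
    have hμ : ∀ t, μ t = t := fun t => by simpa [hc0] using (hp0 t).1
    have hfixed1 : ∀ i : Fin chevE6.rank, e6Twist.pi i ≠ i → cc i = 1 := fun i hi =>
      Units.ext (by simpa [hμ] using (hpair i hi 1).1)
    have hsingle : ∀ i : Fin chevE6.rank, e6Twist.pi i = i → bad c (chevE6.simple i.val) = false → cc i = 1 := by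
      intro i hi hb'
      have h := congrArg Subtype.val (hzo (e6Good.simple_lt _ i.isLt)
        (par_good τ c (e6Good.simple_lt _ i.isLt) hb' (map_one τ)))
      have e : (⟨oel τ c (chevE6.simple i.val) 1, oel_mem_group τ c _ _⟩ : chevE6.group F) =
          gx e6Good (chevE6.simple i.val) 1 := by
        refine Subtype.ext ?_
        show oel τ c (chevE6.simple i.val) 1 = xg e6Good F (chevE6.simple i.val) 1
        rw [oel, if_pos (show e6Twist.rho (chevE6.simple i.val) = chevE6.simple i.val by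
          rw [e6Root_ok.simple_pi, hi])]
      rw [e, hz1, map_one, mul_one] at h
      exact Units.ext (xg_inj e6Good (e6Good.simple_lt _ i.isLt) h)
    have hzd : z = diagHom e6Good rootsE6 cc := aut_ext e6Good rootsE6 fun i t => by
      rw [(hcc i t).1, (hcc i t).2, (diagHom_simple e6Good rootsE6 cc i t).1,
        (diagHom_simple e6Good rootsE6 cc i t).2, Equiv.Perm.one_apply, hμ]
      simp [ChevalleyDatum.graphExp]
    have hc1 : cc (e6n 1) = 1 := by
      obtain ⟨r1, r2, l1, l2, r3, b1, b2, -⟩ := pair_root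
      cases c
      · exact hsingle _ p1 b1
      · have h := congrArg Subtype.val (hzo l2 (t := (1 : F)) fun h => absurd h (by rw [r3]; decide))
        have e : (⟨oel τ true 48 1, oel_mem_group τ true _ _⟩ : chevE6.group F) =
            gx e6Good 48 1 * gx e6Good 50 ((sg true 48 : F) * τ 1) := by
          refine Subtype.ext ?_
          show oel τ true 48 1 = _
          rw [Subgroup.coe_mul, oel, if_neg (by rw [r3]; decide), r3]
          rfl
        rw [e, hzd, map_mul, Subgroup.coe_mul, diagHom_apply e6Good rootsE6 cc l2,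
          diagHom_apply e6Good rootsE6 cc (show 50 < chevE6.nroots by rw [← r3]; exact e6Twist_ok.rho_lt _ l2)] at h
        have h48 := (pair_inj l2 (by rw [← r3]; exact e6Twist_ok.rho_lt _ l2) (by decide) h).1
        rw [mul_one] at h48
        have hχ := chiOf_isRootCharacter e6Good rootsE6 cc
        rw [hχ.2 _ _ _ l1 (e6Good.simple_lt _ (e6n 4).isLt) r2,
          hχ.2 _ _ _ (e6Good.simple_lt _ (e6n 1).isLt) (e6Good.simple_lt _ (e6n 3).isLt) r1,
          chiOf_simple e6Good rootsE6, chiOf_simple e6Good rootsE6, chiOf_simple e6Good rootsE6,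
          hsingle (e6n 3) p3 (hgood (e6n 3) (hne1 3 (by decide))),
          hfixed1 (e6n 4) (by rw [p4]; decide +kernel), mul_one, mul_one] at h48
        exact Units.ext h48
    have hcc1 : cc = 1 := funext fun i => by
      rcases hnodes i with rfl | rfl | rfl | rfl | rfl | rfl
      · exact hc0
      · exact hc1
      · exact hfixed1 _ (by rw [p2]; decide +kernel)
      · exact hsingle _ p3 (hgood _ (hne1 3 (by decide)))
      · exact hfixed1 _ (by rw [p4]; decide +kernel)
      · exact hfixed1 _ (by rw [p5]; decide +kernel)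
    rw [hzd, hcc1, map_one]
  rcases hor with rfl | rfl
  · rw [key y hk hρ, one_pow]
  · have h3 : y * thetaAut τ c hσ = 1 := key _ (fun k hk' => by
      rw [MulAut.mul_apply, mem_fixK.1 hk', hk k hk']) (by
      have h := (fix_thetaAut τ c hσ).trans hρ
      rwa [show piE * piE = 1 from Equiv.ext pi_pi] at h)
    rw [eq_inv_of_mul_eq_one_left h3, inv_pow, thetaAut_sq, inv_one]

set_option maxHeartbeats 1000000 in
/-- The criterion for the standard involutions. -/
theorem crit_theta (hσ : ∀ t, τ (τ t) = t) (hc : c = true → ∀ t, τ t = t) {r : ℕ} [Fact r.Prime] [CharP F r]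
    (hr2 : r ≠ 2) : Crit 2 (thetaAut τ c hσ) := by
  have hnodes := node_facts
  refine ⟨fun h => ?_, conj_injective e6Good rootsE6 F, fun _ N hN hn hco => ?_,
    fun _ y hy hk => rigid_theta τ c hlist hσ hc hy hk⟩
  · have h39 : (⟨nfour F, nfour_mem_group⟩ : chevE6.group F) ∈ fixK (thetaAut τ c hσ) := Subtype.ext (nfour_fix τ c)
    rw [h, Subgroup.mem_bot] at h39
    have h1 : nfour F = 1 := congrArg Subtype.val h39
    have hx : xg e6Good F (chevE6.simple (e6n 0).val) 1 ∈ (R6 F).Upos :=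
      (R6 F).U_le_Upos ((R6 F).pos_simple (e6n 0)) (xg_mem_rootSubgroup e6Good _ _)
    have h2 := (nfour_spec _).1 hx
    rw [h1, one_mul, inv_one, mul_one] at h2
    exact xg_ne_one (e6Good.simple_lt _ (e6n 0).isLt) one_ne_zero
      ((R6 F).eq_one_of_B_Vneg ((R6 F).Upos_le_B hx) h2)
  · set N' := N.map (chevE6.group F).subtype
    have hN' : N' ≤ chevE6.group F ⊓ (theta τ c).eqLocus (MonoidHom.id _) := by
      rintro _ ⟨n, hn', rfl⟩
      exact ⟨n.2, congrArg Subtype.val (hN hn')⟩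
    have hn'' : ∀ g ∈ chevE6.group F, theta τ c g = g → ∀ n ∈ N', g * n * g⁻¹ ∈ N' := by
      rintro g hg hgf _ ⟨n, hn', rfl⟩
      refine ⟨(⟨g, hg⟩ : chevE6.group F) * n * (⟨g, hg⟩ : chevE6.group F)⁻¹,
        hn (⟨g, hg⟩ : chevE6.group F) (Subtype.ext hgf) n hn', ?_⟩
      simp only [Subgroup.coe_subtype, Subgroup.coe_mul, InvMemClass.coe_inv]
    have hodd : Odd (Nat.card N') := by
      rw [← Nat.card_congr (N.equivMapOfInjective _ (chevE6.group F).subtype_injective).toEquiv]
      exact Nat.Coprime.odd_of_right hco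
    refine (Subgroup.eq_bot_iff_forall _).2 fun n hn' => ?_
    obtain ⟨hnH, hcomm⟩ := core_comm c τ hσ hc hr2 hN' hn'' hodd n ⟨n, hn', rfl⟩
    obtain ⟨cc, hcc⟩ := conj_diag_eq e6Good rootsE6 (x := n) hnH
    have hχ := chiOf_isRootCharacter e6Good rootsE6 cc
    set χ := chiOf chevE6 adjE6 3 cc with hχdef
    have hone : ∀ {b : ℕ} (hb : b < chevE6.nroots), bad c b = false → 0 < e6Twist.ht b → χ b = 1 := by
      intro b hb hbad hpos
      have hact : ∀ {q : ℕ}, q < chevE6.nroots → ∀ t : F,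
          (n : GL chevE6.Idx F) * xg e6Good F q t * (n : GL chevE6.Idx F)⁻¹ = xg e6Good F q ((χ q : F) * t) :=
        fun {q} hq t => by
          have h := congrArg Subtype.val (DFunLike.congr_fun hcc (gx e6Good q t))
          rw [diagHom_apply e6Good rootsE6 cc hq] at h
          exact h
      have hU : oel τ c b 1 ∈ (R6 F).Upos := oel_mem τ c (r := ⟨b, hb⟩) (A := {r | (R6 F).pos r})
        ((pos_iff (K := F) ⟨b, hb⟩).2 hpos) ((rhoF_pos _).2 ((pos_iff (K := F) ⟨b, hb⟩).2 hpos)) 1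
      have h := hcomm _ hU (oel_fix τ c hσ hb (par_good τ c hb hbad (map_one τ)))
      rw [oel] at h
      split_ifs at h with e
      · rw [hact hb, mul_one] at h
        exact Units.ext (xg_inj e6Good hb h)
      · rw [show ∀ x a a' : GL chevE6.Idx F, x * (a * a') * x⁻¹ = x * a * x⁻¹ * (x * a' * x⁻¹) from
          fun x a a' => by group, hact hb, hact (e6Twist_ok.rho_lt b hb), mul_one] at h
        exact Units.ext (pair_inj hb (e6Twist_ok.rho_lt b hb) (Ne.symm e) h).1
    have hsimple : ∀ i : Fin chevE6.rank, bad c (chevE6.simple i.val) = false → cc i = 1 := fun i hi => by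
      rw [← chiOf_simple e6Good rootsE6 cc i]
      exact hone (e6Good.simple_lt _ i.isLt) hi ((pos_iff (K := F) ((R6 F).simple i)).1 ((R6 F).pos_simple i))
    have hgood : ∀ i : Fin chevE6.rank, i ≠ e6n 1 → bad c (chevE6.simple i.val) = false := fun i hi => by
      cases c
      · rfl
      · exact Bool.eq_false_of_not_eq_true fun hb' => hi ((peel_one i).1 hb')
    have hne1 : ∀ i : Fin 6, i ≠ 1 → e6n i ≠ e6n 1 := fun i hi h => hi (Fin.ext
      (show i.val = (1 : Fin 6).val from congrArg (fun z : Fin chevE6.rank => z.val) h))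
    have h3 : cc (e6n 3) = 1 := hsimple _ (hgood _ (hne1 3 (by decide)))
    have h4 : cc (e6n 4) = 1 := hsimple _ (hgood _ (hne1 4 (by decide)))
    have h1 : cc (e6n 1) = 1 := by
      obtain ⟨r1, r2, l1, l2, r3, b1, b2, -⟩ := pair_root
      cases c
      · exact hsimple _ b1
      · have h48 := hone l2 b2 (by decide +kernel)
        rw [hχ.2 _ _ _ l1 (e6Good.simple_lt _ (e6n 4).isLt) r2,
          hχ.2 _ _ _ (e6Good.simple_lt _ (e6n 1).isLt) (e6Good.simple_lt _ (e6n 3).isLt) r1, hχdef,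
          chiOf_simple e6Good rootsE6, chiOf_simple e6Good rootsE6, chiOf_simple e6Good rootsE6, h3, h4,
          mul_one, mul_one] at h48
        exact h48
    have hcc1 : cc = 1 := funext fun i => by
      by_cases hi : i = e6n 1
      · rw [hi]; exact h1
      · exact hsimple i (hgood i hi)
    exact conj_injective e6Good rootsE6 F (hcc.trans (by rw [hcc1, map_one, map_one]))

end Cfsg.Agent.ChevBalance.E6
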