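import Cfsg.Agent.Lib.ChevFoldF4.Fixed
import Cfsg.Agent.Lib.RGD.Regular

/-!
# E₆: the roots seen by the graph involutions

The two classes of graph involutions in odd characteristic are indexed by a Boolean `c`; the fixed roots with odd
coefficient at the second node are *bad* for `c = true`.

* tables: signs `sg`, orbits, the base `base c` of the good roots, four orthogonal good fixed roots;
* `keeps_cases` : a word keeping the good positive roots positive acts as `1`, `s₂` or `s₄ s₂`;
* `exists_base_neg` : otherwise it makes a root of the base negative.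
-/

set_option autoImplicit false
set_option maxRecDepth 100000

namespace Cfsg.Agent.ChevBalance.E6

open Cfsg.Lie Cfsg.Lie.ChevalleyDatum Cfsg.Agent.Chev Cfsg.Agent.ChevBN Cfsg.Agent.ChevSt
open Cfsg.Agent.TwistE6D4 (e6Twist e6Twist_ok)
open Cfsg.Agent.ChevFoldF4 (R6 rhoF rhoF_rhoF rhoF_pos e6n pos_iff ww_eq_of_mem_H e6Good)

/-- The coefficient at the second node. -/
def coef2 (r : ℕ) : ℤ := (chevE6.coroot.getD r #[]).getD 1 0

/-- The sign character of the second class. -/
def chiC (c : Bool) (r : ℕ) : ℤ := if c && coef2 r % 2 != 0 then -1 else 1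

/-- The sign by which the involution acts on a root. -/
def sg (c : Bool) (r : ℕ) : ℤ := e6Twist.eps r * chiC c r

/-- The fixed roots on which the involution inverts. -/
def bad (c : Bool) (r : ℕ) : Bool := c && e6Twist.rho r == r && coef2 r % 2 != 0

/-- A base of the good roots, with the orbits. -/
def base (c : Bool) : List ℕ := if c then [56, 36, 42, 37, 39, 48, 50] else [56, 36, 42, 37, 39, 46]

/-- The orbit of a root. -/
def orbL (r : ℕ) : List ℕ := if e6Twist.rho r = r then [r] else [r, e6Twist.rho r]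

/-- Four orthogonal good fixed roots; the product of their reflections is the longest element. -/
def four : List ℕ := [39, 44, 60, 71]

theorem sg_facts : ∀ c : Bool, ∀ r : Fin chevE6.nroots,
    sg c r * sg c r = 1 ∧ sg c (e6Twist.rho r) * sg c r = 1 ∧ sg c (chevE6.neg r) = sg c r ∧
      (e6Twist.rho r = r.val → sg c r = if bad c r then -1 else 1) ∧
      bad c (e6Twist.rho r) = bad c r ∧ bad c (chevE6.neg r) = bad c r ∧
      chiC c (chevE6.neg r) = chiC c r ∧ chiC c (e6Twist.rho r) = chiC c r := by decide +kernel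

theorem sg_simple : ∀ i : Fin chevE6.rank,
    e6Twist.eps (chevE6.simple i) = 1 ∧ sg false (chevE6.simple i) = 1 := by decide +kernel

theorem chiC_add : ∀ c : Bool, ∀ r : Fin chevE6.nroots, ∀ s : Fin chevE6.nroots,
    ∀ k ∈ chevE6.chainRoot r s 1, chiC c k = chiC c r * chiC c s := by decide +kernel

theorem chiC_false : ∀ r, chiC false r = 1 := fun r => by simp [chiC]

theorem bad_false (r : ℕ) : bad false r = false := rfl

theorem bad_cases {c : Bool} {r : ℕ} (h : bad c r = true) : c = true ∧ e6Twist.rho r = r := by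
  simp only [bad, Bool.and_eq_true, beq_iff_eq] at h
  exact ⟨h.1.1, h.1.2⟩

theorem orth : ∀ r : Fin chevE6.nroots, e6Twist.rho r ≠ r.val →
    chevE6.commTerms r (e6Twist.rho r) = [] ∧ chevE6.commTerms r (chevE6.neg (e6Twist.rho r)) = [] ∧
      chevE6.commTerms (e6Twist.rho r) (chevE6.neg r) = [] ∧ e6Twist.rho r ≠ chevE6.neg r ∧
      Chev.refl chevE6 r (e6Twist.rho r) = e6Twist.rho r ∧
      Chev.refl chevE6 (e6Twist.rho r) r = r.val := by decide +kernel

theorem refl_orbit : ∀ r : Fin chevE6.nroots, (orbL r).foldr (Chev.refl chevE6) r = chevE6.neg r ∧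
    (orbL r).foldr (Chev.refl chevE6) (e6Twist.rho r) = chevE6.neg (e6Twist.rho r) ∧
    Chev.refl chevE6 r r = chevE6.neg r := by decide +kernel

theorem refl_rho : ∀ c : Bool, ∀ b ∈ base c, ∀ r : Fin chevE6.nroots,
    (orbL b).foldr (Chev.refl chevE6) (e6Twist.rho r) =
      e6Twist.rho ((orbL b).foldr (Chev.refl chevE6) r.val) ∧
    (orbL b).foldr (Chev.refl chevE6) ((orbL b).foldr (Chev.refl chevE6) r.val) = r.val := by decide +kernel

theorem bad_refl : ∀ c : Bool, ∀ b ∈ base c, ∀ r : Fin chevE6.nroots,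
    bad c ((orbL b).foldr (Chev.refl chevE6) r.val) = bad c r := by decide +kernel

theorem base_facts : ∀ c : Bool, ∀ b ∈ base c, b < chevE6.nroots ∧ 0 < e6Twist.ht b ∧ bad c b = false := by
  decide +kernel

theorem base_decomp : ∀ c : Bool, ∀ k : Fin chevE6.nroots, 0 < e6Twist.ht k → bad c k = false →
    k.val ∈ base c ∨ ∃ r : Fin chevE6.nroots, 0 < e6Twist.ht r ∧ bad c r = false ∧
      ∃ b ∈ base c, chevE6.chainRoot r b 1 = some k.val := by decide +kernel

theorem base_refl_pos : ∀ c : Bool, ∀ b ∈ base c, ∀ s : Fin chevE6.nroots, 0 < e6Twist.ht s → bad c s = false →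
    s.val ≠ b → s.val ≠ e6Twist.rho b → 0 < e6Twist.ht ((orbL b).foldr (Chev.refl chevE6) s.val) := by
  decide +kernel

theorem four_facts : ∀ c : Bool, ∀ r ∈ four,
    r < chevE6.nroots ∧ e6Twist.rho r = r ∧ bad c r = false ∧ sg c r = 1 := by decide +kernel

theorem four_long : ∀ s : Fin chevE6.nroots,
    four.foldr (Chev.refl chevE6) s.val = chevE6.neg (e6Twist.rho s) := by decide +kernel

theorem peel_one : ∀ i : Fin chevE6.rank,
    (bad true (chevE6.simple i) = true → i = e6n 1) ∧
    (i ≠ e6n 1 → bad true (wN chevE6 1 (chevE6.simple i)) = true → i = e6n 3) ∧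
    (i ≠ e6n 1 → 0 < e6Twist.ht (wN chevE6 1 (chevE6.simple i))) ∧
    (i ≠ e6n 3 → 0 < e6Twist.ht (wN chevE6 1 (wN chevE6 3 (chevE6.simple i))) ∧
      bad true (wN chevE6 1 (wN chevE6 3 (chevE6.simple i))) = false) ∧
    wN chevE6 3 (chevE6.simple 3) = chevE6.neg (chevE6.simple 3) := by decide +kernel

theorem wN_neg_three : wN chevE6 1 (chevE6.neg (chevE6.simple 3)) = chevE6.neg (wN chevE6 1 (chevE6.simple 3)) := by
  decide +kernel

variable {K : Type*} [Field K]

/-- The word commutes with the symmetry. -/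
def Comm (K : Type*) [Field K] (l : List (Fin chevE6.rank)) : Prop :=
  ∀ q, (R6 K).ww l (rhoF q) = rhoF ((R6 K).ww l q)

/-- The word keeps the good positive roots positive. -/
def Keeps (K : Type*) [Field K] (c : Bool) (l : List (Fin chevE6.rank)) : Prop :=
  ∀ q : Fin chevE6.nroots, (R6 K).pos q → bad c q = false → (R6 K).pos ((R6 K).ww l q)

theorem ww_id {l : List (Fin chevE6.rank)} (h : ∀ i, (R6 K).pos ((R6 K).ww l ((R6 K).simple i)))
    (q : Fin chevE6.nroots) : (R6 K).ww l q = q :=
  ww_eq_of_mem_H (l := []) (l' := l) (by simpa using (R6 K).mem_H_of_simple h) q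

/-- The words keeping the good positive roots positive. -/
theorem keeps_cases {c : Bool} {l : List (Fin chevE6.rank)} (h : Keeps K c l) :
    (∀ q, (R6 K).ww l q = q) ∨ c = true ∧ ((∀ q, (R6 K).ww l q = (R6 K).ww [e6n 1] q) ∨
      ∀ q, (R6 K).ww l q = (R6 K).ww [e6n 3, e6n 1] q) := by
  by_cases hs : ∀ i, (R6 K).pos ((R6 K).ww l ((R6 K).simple i))
  · exact .inl (ww_id hs)
  push Not at hs
  obtain ⟨i, hi⟩ := hs
  have hb : bad c (chevE6.simple i.val) = true := Bool.eq_true_of_not_eq_false fun hb =>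
    hi (h _ ((R6 K).pos_simple i) hb)
  obtain ⟨rfl, -⟩ := bad_cases hb
  obtain rfl := (peel_one i).1 hb
  refine .inr ⟨rfl, ?_⟩
  have hww : ∀ q, (R6 K).ww l q = (R6 K).ww (l ++ [e6n 1]) ((R6 K).ww [e6n 1] q) := fun q => by
    simp [(R6 K).w_w]
  by_cases hs : ∀ i, (R6 K).pos ((R6 K).ww (l ++ [e6n 1]) ((R6 K).simple i))
  · exact .inl fun q => by rw [hww, ww_id hs]
  push Not at hs
  obtain ⟨j, hj⟩ := hs
  simp only [RGD.RootData.ww_append, RGD.RootData.ww_cons, RGD.RootData.ww_nil] at hj
  have hj1 : j ≠ e6n 1 := by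
    rintro rfl
    rw [(R6 K).w_simple, (R6 K).ww_neg, (R6 K).pos_neg] at hj
    exact hj hi
  have hb1 : bad true (wN chevE6 1 (chevE6.simple j.val)) = true := Bool.eq_true_of_not_eq_false fun hb =>
    hj (h _ ((pos_iff _).2 ((peel_one j).2.2.1 hj1)) hb)
  obtain rfl := (peel_one j).2.1 hj1 hb1
  have hs2 : ∀ i, (R6 K).pos ((R6 K).ww (l ++ [e6n 1, e6n 3]) ((R6 K).simple i)) := by
    intro i
    simp only [RGD.RootData.ww_append, RGD.RootData.ww_cons, RGD.RootData.ww_nil]
    by_cases hi3 : i = e6n 3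
    · subst hi3
      rw [(R6 K).w_simple, (R6 K).w_neg, (R6 K).ww_neg, (R6 K).pos_neg]
      exact hj
    · obtain ⟨h1, h2⟩ := (peel_one i).2.2.2.1 hi3
      exact h _ ((pos_iff _).2 h1) h2
  refine .inr fun q => ?_
  rw [show (R6 K).ww l q = (R6 K).ww (l ++ [e6n 1, e6n 3]) ((R6 K).ww [e6n 3, e6n 1] q) by
    simp [(R6 K).w_w], ww_id hs2]

/-- A word not keeping the good positive roots positive makes a root of the base negative. -/
theorem exists_base_neg {c : Bool} {l : List (Fin chevE6.rank)} (h : ¬ Keeps K c l) :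
    ∃ b : Fin chevE6.nroots, b.val ∈ base c ∧ ¬ (R6 K).pos ((R6 K).ww l b) := by
  by_contra hne
  push Not at hne
  obtain ⟨g, hg, e⟩ := lin_comp e6Good rootsE6 K l e6Twist_ok.isLin_ht
  have hpg : ∀ q : Fin chevE6.nroots, (R6 K).pos ((R6 K).ww l q) ↔ 0 < g q.val := fun q => by rw [pos_iff, e]
  suffices hall : ∀ (n : ℕ) (q : Fin chevE6.nroots), (e6Twist.ht q.val).toNat ≤ n → 0 < e6Twist.ht q.val →
      bad c q = false → 0 < g q.val from
    h fun q hq hb => (hpg q).2 (hall _ q le_rfl ((pos_iff q).1 hq) hb)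
  intro n
  induction n with
  | zero => intro q hn hpos; omega
  | succ n ih =>
    intro q hn hpos hb
    rcases base_decomp c q hpos hb with hq | ⟨r, hr, hrb, s, hs, hk⟩
    · exact (hpg q).1 (hne q hq)
    obtain ⟨hsl, hspos, -⟩ := base_facts c s hs
    have h2 := (hpg ⟨s, hsl⟩).1 (hne _ hs)
    have hht := e6Twist_ok.isLin_ht.1 r r.isLt s hsl q hk
    have h1 := ih r (by omega) hr hrb
    rw [hg.1 r r.isLt s hsl q hk]
    exact add_pos h1 h2

end Cfsg.Agent.ChevBalance.E6
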