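import Cfsg.Agent.Lib.RGD.Regular

/-!
# Twisted conjugation into the torus

For an automorphism `θ` permuting the fundamental root subgroups of root group data, elements `a` with
`a θ(a) ∈ H` and the equivalence `a ~ g a θ(g)⁻¹`:

* `shorten` : `a` is equivalent to an element of `n (l) B` for a trivial `l`, provided the rank one steps can be made;
* `exists_torus_form` : if moreover `U` consists of elements of odd order then `a` is equivalent to an element of `H`.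
-/

set_option autoImplicit false

namespace Cfsg.Agent.RGD.RootData

variable {Γ : Type*} [Group Γ] {Φ I : Type*} (R : RootData Γ Φ I)

/-- An automorphism permuting the fundamental root subgroups. -/
structure Sym (θ : Γ → Γ) (π : I → I) : Prop where
  mem : ∀ x ∈ R.G, θ x ∈ R.G
  map_mul : ∀ x ∈ R.G, ∀ y ∈ R.G, θ (x * y) = θ x * θ y
  inj : ∀ x ∈ R.G, θ x = 1 → x = 1
  map_H : ∀ x ∈ R.H, θ x ∈ R.H
  map_Upos : ∀ x ∈ R.Upos, θ x ∈ R.Upos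
  map_Vneg : ∀ x ∈ R.Vneg, x ∈ R.G → θ x ∈ R.Vneg
  map_simple : ∀ i, ∀ x ∈ R.U (R.simple i), θ x ∈ R.U (R.simple (π i))
  map_n : ∀ i, ∃ k ∈ R.H, θ (R.n i) = k * R.n (π i)

namespace Sym

variable {R} {θ : Γ → Γ} {π : I → I} (hθ : R.Sym θ π)
include hθ

theorem map_one : θ 1 = 1 := by
  have h := hθ.map_mul 1 (one_mem _) 1 (one_mem _)
  rw [mul_one] at h
  exact left_eq_mul.1 h

theorem map_inv {x : Γ} (hx : x ∈ R.G) : θ x⁻¹ = (θ x)⁻¹ :=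
  eq_inv_of_mul_eq_one_left (by rw [← hθ.map_mul _ (inv_mem hx) _ hx, inv_mul_cancel, hθ.map_one])

theorem map_B {x : Γ} (hx : x ∈ R.B) : θ x ∈ R.B := by
  obtain ⟨u, hu, h, hh, rfl⟩ := R.exists_B hx
  rw [hθ.map_mul _ (R.B_le_G (R.Upos_le_B hu)) _ (R.B_le_G (R.H_le_B hh))]
  exact mul_mem (R.Upos_le_B (hθ.map_Upos _ hu)) (R.H_le_B (hθ.map_H _ hh))

theorem map_nw (l : List I) : ∃ k ∈ R.H, θ (R.nw l) = k * R.nw (l.map π) := by
  induction l with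
  | nil => exact ⟨1, one_mem _, by simp [hθ.map_one]⟩
  | cons i l ih =>
    obtain ⟨k, hk, e⟩ := ih
    obtain ⟨k', hk', e'⟩ := hθ.map_n i
    refine ⟨k' * (R.n (π i) * k * (R.n (π i))⁻¹), mul_mem hk' (R.n_conj_H _ _ hk), ?_⟩
    rw [R.nw_cons, hθ.map_mul _ (R.N_le_G (R.n_mem_N i)) _ (R.N_le_G (R.nw_mem_N l)), e, e', List.map_cons,
      R.nw_cons]
    group

end Sym

/-- The rank one steps. -/
def RankOneStep (θ : Γ → Γ) (π : I → I) : Prop :=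
  ∀ (l : List I) (j : I), R.ww l (R.simple j) = R.neg (R.simple (π j)) →
    ∀ x ∈ R.U (R.simple j), ∀ h ∈ R.H, ∃ y ∈ R.U (R.simple (π j)),
      (R.nw l)⁻¹ * y * R.nw l * x * (h * (θ y)⁻¹ * h⁻¹) * (R.n j)⁻¹ ∈ R.B

variable {θ : Γ → Γ} {π : I → I}

/-- Shortening. -/
theorem shorten (hθ : R.Sym θ π) (hπ : ∀ i, π (π i) = i) (hstep : R.RankOneStep θ π) :
    ∀ (q : ℕ) (l : List I), l.length = q → ∀ b ∈ R.B, R.nw l * b * θ (R.nw l * b) ∈ R.H →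
      (∀ g ∈ R.G, (g * (R.nw l * b) * (θ g)⁻¹) * θ (g * (R.nw l * b) * (θ g)⁻¹) ∈ R.H) →
      ∃ g ∈ R.G, g * (R.nw l * b) * (θ g)⁻¹ ∈ R.B := by
  intro q
  induction q using Nat.strong_induction_on with
  | _ q ih =>
  intro l hl b hb hinv hall
  have hlG : R.nw l ∈ R.G := R.N_le_G (R.nw_mem_N l)
  have hbG : b ∈ R.G := R.B_le_G hb
  by_cases hpos : ∀ j, R.pos (R.ww l (R.simple j))
  · refine ⟨1, one_mem _, ?_⟩
    rw [hθ.map_one, inv_one, mul_one, one_mul]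
    exact mul_mem (R.H_le_B (R.mem_H_of_simple hpos)) hb
  -- continue with a shorter word
  have next : ∀ (g b₁ b₂ : Γ) (l' : List I), g ∈ R.G → b₁ ∈ R.B → b₂ ∈ R.B → l'.length < q →
      g * (R.nw l * b) * (θ g)⁻¹ = b₁ * R.nw l' * b₂ → ∃ g ∈ R.G, g * (R.nw l * b) * (θ g)⁻¹ ∈ R.B := by
    intro g b₁ b₂ l' hg h1 h2 hlt e
    have h1G := R.B_le_G h1
    have e' : R.nw l' * (b₂ * θ b₁) = b₁⁻¹ * g * (R.nw l * b) * (θ (b₁⁻¹ * g))⁻¹ := by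
      rw [hθ.map_mul _ (inv_mem h1G) _ hg, hθ.map_inv h1G, mul_inv_rev, inv_inv,
        show b₁⁻¹ * g * (R.nw l * b) * ((θ g)⁻¹ * θ b₁) = b₁⁻¹ * (g * (R.nw l * b) * (θ g)⁻¹) * θ b₁ by group, e]
      group
    have hg' : b₁⁻¹ * g ∈ R.G := mul_mem (inv_mem h1G) hg
    obtain ⟨g₂, hg₂, hB⟩ := ih l'.length hlt l' rfl (b₂ * θ b₁) (mul_mem h2 (hθ.map_B h1))
      (by rw [e']; exact hall _ hg') fun g₂ hg₂ => by
        rw [e', show g₂ * (b₁⁻¹ * g * (R.nw l * b) * (θ (b₁⁻¹ * g))⁻¹) * (θ g₂)⁻¹ =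
          g₂ * (b₁⁻¹ * g) * (R.nw l * b) * (θ g₂ * θ (b₁⁻¹ * g))⁻¹ by group, ← hθ.map_mul _ hg₂ _ hg']
        exact hall _ (mul_mem hg₂ hg')
    refine ⟨g₂ * (b₁⁻¹ * g), mul_mem hg₂ hg', ?_⟩
    rw [hθ.map_mul _ hg₂ _ hg', show g₂ * (b₁⁻¹ * g) * (R.nw l * b) * (θ g₂ * θ (b₁⁻¹ * g))⁻¹ =
      g₂ * (b₁⁻¹ * g * (R.nw l * b) * (θ (b₁⁻¹ * g))⁻¹) * (θ g₂)⁻¹ by group, ← e']
    exact hB
  push Not at hpos
  obtain ⟨j, hj⟩ := hpos
  -- the twisted involution condition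
  obtain ⟨k, hk, ek⟩ := hθ.map_nw l
  have hj' : ¬ R.pos (R.ww l.reverse (R.simple (π j))) := by
    obtain ⟨k₁, hk₁, e₁⟩ := R.exists_nw_inv l
    rw [hθ.map_mul _ hlG _ hbG] at hinv
    set h₀ := R.nw l * b * (θ (R.nw l) * θ b) with hh₀
    have e2 : b * (k * R.nw (l.map π)) * 1 =
        1 * ((R.nw l)⁻¹ * h₀) * (θ b)⁻¹ := by rw [hh₀, ek]; group
    have hclass := R.mem_H_of_eq (mul_mem (R.H_le_N hk) (R.nw_mem_N _))
      (mul_mem (inv_mem (R.nw_mem_N l)) (R.H_le_N hinv)) hb (one_mem _) (one_mem _)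
      (inv_mem (hθ.map_B hb)) e2
    set z := (k * R.nw (l.map π))⁻¹ * ((R.nw l)⁻¹ * h₀)
    intro hpos'
    obtain ⟨x, hx, hx1⟩ := (Subgroup.bot_or_exists_ne_one (R.U (R.simple j))).resolve_left (R.U_ne_bot _)
    have hxG : x ∈ R.G := R.B_le_G (R.Upos_le_B (R.U_le_Upos (R.pos_simple j) hx))
    have hV : R.nw l * x * (R.nw l)⁻¹ ∈ R.Vneg := R.U_le_Vneg hj (R.conj_U_mem (R.map_conj_U l _) hx)
    have hV' : θ (R.nw l * x * (R.nw l)⁻¹) ∈ R.Vneg :=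
      hθ.map_Vneg _ hV (mul_mem (mul_mem hlG hxG) (inv_mem hlG))
    rw [hθ.map_mul _ (mul_mem hlG hxG) _ (inv_mem hlG), hθ.map_mul _ hlG _ hxG, hθ.map_inv hlG, ek] at hV'
    have hU' : k * R.nw (l.map π) * θ x * (k * R.nw (l.map π))⁻¹ ∈ R.Upos := by
      have h5 : R.U (R.ww (l.map π) (R.simple (π j))) = R.U (R.ww l.reverse (R.simple (π j))) := by
        rw [← R.map_conj_U, ← R.map_conj_U l.reverse]
        have e4 : R.nw l.reverse = (k₁⁻¹ * k * (R.nw (l.map π) * (z * h₀⁻¹) * (R.nw (l.map π))⁻¹)) *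
            R.nw (l.map π) := by
          simp only [z]
          rw [show R.nw l.reverse = k₁⁻¹ * (R.nw l)⁻¹ by rw [e₁]; group]
          group
        rw [e4, R.map_conj_H_nw]
        · exact R.map_conj_U _ _
        · exact mul_mem (mul_mem (inv_mem hk₁) hk) (R.nw_conj_H _ (mul_mem hclass (inv_mem hinv)))
      refine R.U_le_Upos hpos' ?_
      rw [← h5]
      exact R.conj_U_mem (R.map_conj_H_nw hk _ _) (hθ.map_simple j x hx)
    have h1 : k * R.nw (l.map π) * θ x * (k * R.nw (l.map π))⁻¹ = 1 :=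
      R.eq_one_of_B_Vneg (R.Upos_le_B hU') hV'
    exact hx1 (hθ.inj x hxG (conj_eq_one_iff.1 h1))
  obtain ⟨m₀, hm₀, k₂, hk₂, e₂⟩ := R.exists_shorter hj'
  rw [R.nw_append, R.nw_cons, R.nw_nil, mul_one] at e₂
  obtain ⟨k₁, hk₁, e₁⟩ := R.exists_nw_inv l
  obtain ⟨k₃, hk₃, e₃⟩ := R.exists_nw_inv m₀
  -- `n i * nw l = c * nw m`
  set m := m₀.reverse with hm
  obtain ⟨c, hc, ec⟩ : ∃ c ∈ R.H, R.n (π j) * R.nw l = c * R.nw m := by
    refine ⟨(R.n (π j) * R.n (π j)) * (k₃ * (R.nw m * (k₂⁻¹ * k₁⁻¹) * (R.nw m)⁻¹)),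
      mul_mem (R.n_sq _) (mul_mem hk₃ (R.nw_conj_H m (mul_mem (inv_mem hk₂) (inv_mem hk₁)))), ?_⟩
    have e4 : R.nw l = (R.nw l.reverse)⁻¹ * k₁⁻¹ := by
      rw [← inv_inj, mul_inv_rev, inv_inv, inv_inv, e₁]
    have e5 : (R.nw l.reverse)⁻¹ = R.n (π j) * (R.nw m₀)⁻¹ * k₂⁻¹ := by
      rw [show R.nw l.reverse = k₂ * R.nw m₀ * (R.n (π j))⁻¹ by rw [← e₂]; group]
      group
    rw [e4, e5, e₃]
    group
  have hmlen : m.length + 1 = l.length := by rw [hm, List.length_reverse, hm₀, List.length_reverse]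
  have hnG : R.n (π j) ∈ R.G := R.N_le_G (R.n_mem_N _)
  obtain ⟨k₄, hk₄, e₄⟩ := hθ.map_n (π j)
  rw [hπ] at e₄
  have hcB : c ∈ R.B := R.H_le_B hc
  have hend : k₄⁻¹ ∈ R.B := inv_mem (R.H_le_B hk₄)
  by_cases hmj : R.pos (R.ww m (R.simple j))
  · -- the word does not change
    have hwl : R.ww l (R.simple j) = R.neg (R.simple (π j)) := by
      by_contra hne
      have h1 : R.pos (R.neg (R.ww l (R.simple j))) := (R.pos_neg _).2 hj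
      have h2 := R.w_pos (π j) _ h1 fun e => hne (by rw [← e, R.neg_neg])
      rw [R.w_neg, R.pos_neg] at h2
      refine h2 ((R.pos_ww_congr (l := π j :: l) (l' := m) hc (by rw [R.nw_cons]; exact ec) _).2 hmj)
    obtain ⟨kk, hkk, x, hx, h, hh, rfl⟩ := R.exists_B' j hb
    obtain ⟨y, hy, hyB⟩ := hstep l j hwl x hx h hh
    have hyG : y ∈ R.G := R.B_le_G (R.Upos_le_B (R.U_le_Upos (R.pos_simple _) hy))
    set z := (R.nw l)⁻¹ * y * R.nw l with hz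
    have hzV : z ∈ R.U (R.neg (R.simple j)) := by
      rw [hz, ← mem_map_conj, R.map_conj_U, R.ww_neg, hwl, R.neg_neg]
      exact hy
    have hkk' : z * kk * z⁻¹ ∈ R.Udel j := by
      obtain ⟨c', hc', ec'⟩ : ∃ c' ∈ R.U (R.simple j), z = R.n j * c' * (R.n j)⁻¹ := by
        refine ⟨(R.n j)⁻¹ * z * R.n j, ?_, by group⟩
        have h5 := R.n_conj_U j _ z hzV
        rw [R.w_neg, R.w_simple, R.neg_neg] at h5
        simpa [mul_assoc] using R.H_conj_U _ (inv_mem (R.n_sq j)) _ _ h5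
      rw [ec', show R.n j * c' * (R.n j)⁻¹ * kk * (R.n j * c' * (R.n j)⁻¹)⁻¹ =
        R.n j * (c' * ((R.n j)⁻¹ * kk * R.n j) * c'⁻¹) * (R.n j)⁻¹ by group]
      exact R.n_conj_Udel j _ (R.U_conj_Udel j hc' _ (R.Udel_conj_n' j hkk))
    refine next (R.n (π j) * y) c ((z * kk * z⁻¹) * (z * x * (h * (θ y)⁻¹ * h⁻¹) * (R.n j)⁻¹) *
        (R.n j * h * (R.n j)⁻¹) * k₄⁻¹) m (mul_mem hnG hyG) hcB
      (mul_mem (mul_mem (mul_mem (R.Udel_le_B j hkk') hyB) (R.H_le_B (R.n_conj_H j h hh))) hend)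
      (by omega) ?_
    rw [hθ.map_mul _ hnG _ hyG, e₄, show c * R.nw m = R.n (π j) * R.nw l from ec.symm, hz]
    group
  · -- the word becomes shorter
    obtain ⟨b₁, hb₁, b₂, hb₂, hor⟩ := R.mul_mem_union j (b := b⁻¹) (inv_mem hb) (inv_mem (R.nw_mem_N m))
    have heq : R.n (π j) * (R.nw l * b) * (θ (R.n (π j)))⁻¹ =
        c * (R.n j * b⁻¹ * (R.nw m)⁻¹)⁻¹ * k₄⁻¹ := by
      rw [e₄, ← mul_assoc, ec]
      group
    rcases hor with e | e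
    · obtain ⟨m', hm', k₅, hk₅, e₅⟩ := R.exists_shorter hmj
      rw [R.nw_append, R.nw_cons, R.nw_nil, mul_one] at e₅
      refine next (R.n (π j)) (c * b₂⁻¹ * k₅) ((R.n j * R.n j)⁻¹ * b₁⁻¹ * k₄⁻¹) m'
        hnG (mul_mem (mul_mem hcB (inv_mem hb₂)) (R.H_le_B hk₅)) ?_ (by omega) ?_
      · exact mul_mem (mul_mem (R.H_le_B (inv_mem (R.n_sq j))) (inv_mem hb₁)) hend
      · rw [heq, e, show R.nw m' = k₅⁻¹ * (R.nw m * R.n j) by rw [e₅]; group]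
        group
    · refine next (R.n (π j)) (c * b₂⁻¹) (b₁⁻¹ * k₄⁻¹) m hnG (mul_mem hcB (inv_mem hb₂))
        (mul_mem (inv_mem hb₁) hend) (by omega) ?_
      rw [heq, e]
      group

/-- The torus form. -/
theorem exists_torus_form (hθ : R.Sym θ π) (hπ : ∀ i, π (π i) = i) (hstep : R.RankOneStep θ π)
    (hodd : ∀ v ∈ R.Upos, ∃ n, Odd n ∧ v ^ n = 1) {a : Γ} (ha : a ∈ R.G)
    (hall : ∀ g ∈ R.G, (g * a * (θ g)⁻¹) * θ (g * a * (θ g)⁻¹) ∈ R.H) :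
    ∃ g ∈ R.G, g * a * (θ g)⁻¹ ∈ R.H := by
  obtain ⟨b, hb, l, u, hu, rfl⟩ := R.exists_normalForm ha
  have hbG : b ∈ R.G := R.B_le_G hb
  have huB : u ∈ R.B := R.Upos_le_B (R.Uminus_le_Upos l hu)
  -- move the left factor across
  have e0 : b⁻¹ * (b * R.nw l * u) * (θ b⁻¹)⁻¹ = R.nw l * (u * θ b) := by
    rw [hθ.map_inv hbG, inv_inv]; group
  have hall' : ∀ g ∈ R.G, (g * (R.nw l * (u * θ b)) * (θ g)⁻¹) * θ (g * (R.nw l * (u * θ b)) * (θ g)⁻¹) ∈ R.H :=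
    fun g hg => by
      rw [← e0, show g * (b⁻¹ * (b * R.nw l * u) * (θ b⁻¹)⁻¹) * (θ g)⁻¹ =
        g * b⁻¹ * (b * R.nw l * u) * (θ g * θ b⁻¹)⁻¹ by group, ← hθ.map_mul _ hg _ (inv_mem hbG)]
      exact hall _ (mul_mem hg (inv_mem hbG))
  have hinv := hall' 1 (one_mem _)
  rw [hθ.map_one, inv_one, mul_one, one_mul] at hinv
  obtain ⟨g, hg, hgB⟩ := R.shorten hθ hπ hstep _ l rfl _ (mul_mem huB (hθ.map_B hb)) hinv hall'
  obtain ⟨v, hv, h, hh, evh⟩ := R.exists_B hgB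
  have hg' : g * b⁻¹ ∈ R.G := mul_mem hg (inv_mem hbG)
  have e1 : g * b⁻¹ * (b * R.nw l * u) * (θ (g * b⁻¹))⁻¹ = v * h := by
    rw [← evh, hθ.map_mul _ hg _ (inv_mem hbG), ← e0]; group
  have hvG : v ∈ R.G := R.B_le_G (R.Upos_le_B hv)
  have hhG : h ∈ R.G := R.B_le_G (R.H_le_B hh)
  -- `θ' v = v⁻¹` for `θ' = conj h ∘ θ`
  have h1 : v * (h * θ v * h⁻¹) = 1 := by
    have h2 := hall _ hg'
    rw [e1, hθ.map_mul _ hvG _ hhG] at h2
    rw [← Subgroup.mem_bot, ← R.U_inf_H]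
    refine ⟨(mul_mem hv (R.H_conj_span _ hh _ (hθ.map_Upos _ hv)) : _ ∈ R.Upos), (?_ : _ ∈ R.H)⟩
    rw [show v * (h * θ v * h⁻¹) = v * h * (θ v * θ h) * ((θ h)⁻¹ * h⁻¹) by group]
    exact mul_mem h2 (mul_mem (inv_mem (hθ.map_H _ hh)) (inv_mem hh))
  obtain ⟨n, ⟨s, rfl⟩, hvn⟩ := hodd v hv
  set z := v ^ (s + 1) with hz
  have hzG : z ∈ R.G := pow_mem hvG _
  have hzz : z * z = v := by
    rw [hz, ← pow_add, show s + 1 + (s + 1) = 2 * s + 1 + 1 by omega, pow_succ, hvn, one_mul]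
  have hθpow : ∀ k : ℕ, h * θ (v ^ k) * h⁻¹ = (v⁻¹) ^ k := by
    intro k
    induction k with
    | zero => simp [hθ.map_one]
    | succ k ih =>
      rw [pow_succ, pow_succ, hθ.map_mul _ (pow_mem hvG k) _ hvG,
        show h * (θ (v ^ k) * θ v) * h⁻¹ = (h * θ (v ^ k) * h⁻¹) * (h * θ v * h⁻¹) by group, ih,
        eq_inv_of_mul_eq_one_right h1]
  refine ⟨z⁻¹ * (g * b⁻¹), mul_mem (inv_mem hzG) hg', ?_⟩
  rw [hθ.map_mul _ (inv_mem hzG) _ hg', hθ.map_inv hzG,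
    show z⁻¹ * (g * b⁻¹) * (b * R.nw l * u) * ((θ z)⁻¹ * θ (g * b⁻¹))⁻¹ =
      z⁻¹ * (g * b⁻¹ * (b * R.nw l * u) * (θ (g * b⁻¹))⁻¹) * θ z by group, e1,
    show z⁻¹ * (v * h) * θ z = z⁻¹ * v * (h * θ z * h⁻¹) * h by group, hz, hθpow, inv_pow, ← hz,
    show z⁻¹ * v * z⁻¹ = 1 by rw [← hzz]; group, one_mul]
  exact hh

end Cfsg.Agent.RGD.RootData
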