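import Cfsg.Agent.Lib.ChevBalance.E6Twist
import Cfsg.Agent.Lib.ChevBalance.Shorten
import Cfsg.Agent.Lib.ChevTorus.Regular

/-!
# E₆: twisted involutions over an algebraically closed field

* `exists_pow_char_eq_one` : unitriangular elements have a power of the characteristic as exponent;
* `rankOneStep_graph` : the rank one steps can be made;
* `exists_standard_form` : an element `a` with `a θ(a) = 1` is equivalent to one of the two standard elements.
-/

set_option autoImplicit false
set_option linter.style.haveILetI false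
set_option linter.unusedSectionVars false

namespace Cfsg.Agent.ChevBalance.E6

open Cfsg Cfsg.Lie Cfsg.Lie.ChevalleyDatum Cfsg.Agent.Chev Cfsg.Agent.ChevBN Cfsg.Agent.ChevSt Cfsg.Agent.ChevAut
open Cfsg.Agent.TwistE6D4 (e6Twist e6Twist_ok e6Root_ok)
open Cfsg.Agent.ChevFoldF4 (R6 rhoF e6n e6Good)

/-- An element of `U` has a power of the characteristic as exponent. -/
theorem exists_pow_char_eq_one {D : ChevalleyDatum} {M : List (List ℤ)} {d : ℤ} (hD : Good D) (hR : Roots D M d)
    {K : Type*} [Field K] {r : ℕ} [hr : Fact r.Prime] [CharP K r] {v : GL D.Idx K} (hv : v ∈ D.posUnipotent K) :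
    ∃ k : ℕ, v ^ r ^ k = 1 := by
  classical
  obtain ⟨hT, hd⟩ := uTri_pos hD hR hv
  set f := ht D M
  set N : Matrix D.Idx D.Idx K := (v : Matrix D.Idx D.Idx K) - 1 with hN
  let cnt : D.Idx → ℕ := fun a => (Finset.univ.filter fun c => wt D f c < wt D f a).card
  have hN1 : ∀ a b, N a b ≠ 0 → wt D f b < wt D f a := by
    intro a b h
    have hab : a ≠ b := fun e => h (by rw [hN, e, Matrix.sub_apply, hd, Matrix.one_apply_eq, sub_self])
    rw [hN, Matrix.sub_apply, Matrix.one_apply_ne hab, sub_zero] at h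
    exact (hT a b h).resolve_left hab
  have hlt : ∀ a b, wt D f b < wt D f a → cnt b < cnt a := by
    intro a b h
    refine Finset.card_lt_card ((Finset.ssubset_iff_of_subset fun c hc => ?_).2 ⟨b, ?_, ?_⟩)
    · simp only [Finset.mem_filter, Finset.mem_univ, true_and] at hc ⊢; omega
    · simpa using h
    · simp
  have hpow : ∀ (k : ℕ) (a b : D.Idx), (N ^ k) a b ≠ 0 → cnt b + k ≤ cnt a := by
    intro k
    induction k with
    | zero =>
      intro a b h
      rw [pow_zero] at h
      obtain rfl : a = b := by by_contra e; exact h (Matrix.one_apply_ne e)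
      omega
    | succ k ih =>
      intro a b h
      rw [pow_succ, Matrix.mul_apply] at h
      obtain ⟨c, -, hc⟩ := Finset.exists_ne_zero_of_sum_ne_zero h
      have := ih a c (left_ne_zero_of_mul hc)
      have := hlt c b (hN1 c b (right_ne_zero_of_mul hc))
      omega
  set n := Fintype.card D.Idx
  have hzero : N ^ (r ^ (n + 1)) = 0 := by
    ext a b
    by_contra h
    have h1 := hpow _ a b h
    have h2 : cnt a ≤ n := Finset.card_le_univ _
    have h3 := Nat.lt_pow_self (n := n + 1) hr.out.one_lt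
    omega
  refine ⟨n + 1, Units.ext ?_⟩
  rcases isEmpty_or_nonempty D.Idx with he | he
  · ext a; exact (he.false a).elim
  haveI : CharP (Matrix D.Idx D.Idx K) r :=
    charP_of_injective_ringHom (f := Matrix.scalar D.Idx) (fun a b h => Matrix.scalar_inj.1 h) r
  rw [Units.val_pow_eq_pow_val, Units.val_one, show (v : Matrix D.Idx D.Idx K) = N + 1 by rw [hN, sub_add_cancel],
    add_pow_char_pow_of_commute (p := r) (n := n + 1) (Commute.one_right N), hzero, one_pow, zero_add]

/-- Reflections at the two fixed nodes. -/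
theorem fixed_node_facts :
    (∀ i : Fin chevE6.rank, (coef2 (chevE6.simple i.val) % 2 != 0) = decide (i.val = 1)) ∧
    (∀ i : Fin chevE6.rank, i.val = 1 ∨ i.val = 3 →
      e6Twist.pi i = i ∧ e6Twist.rho (chevE6.simple i.val) = chevE6.simple i.val ∧
      wN chevE6 i.val (chevE6.simple i.val) = chevE6.neg (chevE6.simple i.val) ∧
      ∀ k : Fin chevE6.rank, wN chevE6 i.val (wN chevE6 i.val (chevE6.simple k.val)) = chevE6.simple k.val) ∧
    (∀ k : Fin chevE6.rank, k.val ≠ 1 → k.val ≠ 3 → wN chevE6 1 (chevE6.simple k.val) = chevE6.simple k.val) ∧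
    chevE6.chainRoot (chevE6.simple 1) (chevE6.simple 3) 1 = some (wN chevE6 1 (chevE6.simple 3)) ∧
    chevE6.chainRoot (chevE6.simple 3) (chevE6.simple 1) 1 = some (wN chevE6 3 (chevE6.simple 1)) ∧
    (∀ k : Fin chevE6.rank, k.val = 0 ∨ k.val = 2 ∨ k.val = 4 ∨ k.val = 5 ∨ e6Twist.pi k = k) ∧
    (e6Twist.pi (e6n 0)).val = 5 ∧ (e6Twist.pi (e6n 5)).val = 0 ∧
    (e6Twist.pi (e6n 2)).val = 4 ∧ (e6Twist.pi (e6n 4)).val = 2 := by
  decide +kernel

variable {K : Type*} [Field K]

theorem char_eq_of_charUnit {χ ψ : ℕ → Kˣ} (h : charUnit chevE6 χ = (charUnit chevE6 ψ : GL chevE6.Idx K)) {q : ℕ}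
    (hq : q < chevE6.nroots) : χ q = ψ q := by
  have e := congrArg (fun g : GL chevE6.Idx K => (g : Matrix chevE6.Idx chevE6.Idx K) (Sum.inr ⟨q, hq⟩)
    (Sum.inr ⟨q, hq⟩)) h
  exact Units.ext (by simpa [charUnit, ChevalleyDatum.charDiag] using e)

theorem theta_refl_charUnit (χ : ℕ → Kˣ) :
    theta (RingEquiv.refl K) false (charUnit chevE6 χ) = charUnit chevE6 fun r => χ (e6Twist.rho r) := by
  rw [theta_false, sigma_charUnit]
  rfl

variable [IsAlgClosed K]

/-- The rank one steps over an algebraically closed field. -/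
theorem rankOneStep_graph (h2 : (2 : K) ≠ 0) :
    (R6 K).RankOneStep (theta (RingEquiv.refl K) false) e6Twist.pi := by
  intro l j hw x hx h hh
  have hi := e6Good.simple_lt _ j.isLt
  obtain ⟨t, rfl⟩ := (mem_rootSubgroup e6Good _).1 hx
  obtain ⟨c, hc, hl⟩ := ChevTorus.nw_conj_xg e6Good rootsE6 (F := K) l ((R6 K).neg ((R6 K).simple j))
  rw [show (chevRGD e6Good rootsE6 K).ww l ((R6 K).neg ((R6 K).simple j)) = (R6 K).simple (e6Twist.pi j) by
    rw [show (chevRGD e6Good rootsE6 K).ww l ((R6 K).neg ((R6 K).simple j)) =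
      (R6 K).neg ((R6 K).ww l ((R6 K).simple j)) from (R6 K).ww_neg l _, hw, (R6 K).neg_neg]] at hl
  obtain ⟨e, he, hhx⟩ := ChevOrder.diag_conj_x e6Good hh _ hi
  obtain ⟨w, hw2⟩ := IsAlgClosed.exists_pow_nat_eq (t ^ 2 + 4 * (e * c)) (n := 2) two_pos
  set u : K := (t + w) / (2 * (e * c)) with hu
  set v : K := t - e * (c * u) with hv
  have huv : u * v = -1 := by
    have h4 : (2 : K) * (e * c) ≠ 0 := mul_ne_zero h2 (mul_ne_zero he hc)
    rw [hv, hu]
    field_simp
    linear_combination -hw2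
  have hu0 : u ≠ 0 := fun h0 => by rw [h0, zero_mul] at huv; exact one_ne_zero (neg_eq_zero.1 huv.symm)
  have hv0 : v ≠ 0 := fun h0 => by rw [h0, mul_zero] at huv; exact one_ne_zero (neg_eq_zero.1 huv.symm)
  refine ⟨xg e6Good K ((R6 K).simple (e6Twist.pi j)).val (c * u), xg_mem_rootSubgroup e6Good _ _, ?_⟩
  have e1 : ((R6 K).nw l)⁻¹ * xg e6Good K ((R6 K).simple (e6Twist.pi j)).val (c * u) * (R6 K).nw l =
      xg e6Good K (chevE6.neg (chevE6.simple j.val)) u := by
    rw [mul_assoc, ← hl, ← mul_assoc, inv_mul_cancel, one_mul]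
    rfl
  have e2 : theta (RingEquiv.refl K) false (xg e6Good K ((R6 K).simple (e6Twist.pi j)).val (c * u)) =
      xg e6Good K (chevE6.simple j.val) (c * u) := by
    show theta (RingEquiv.refl K) false (xg e6Good K (chevE6.simple (e6Twist.pi j).val) (c * u)) = _
    rw [theta_xg _ _ (e6Good.simple_lt _ (e6Twist.pi j).isLt), (sg_simple _).2, Int.cast_one, one_mul,
      e6Root_ok.simple_pi, show e6Twist.pi (e6Twist.pi j) = j from pi_pi j]
    rfl
  have e3 : h * (xg e6Good K (chevE6.simple j.val) (c * u))⁻¹ * h⁻¹ =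
      xg e6Good K (chevE6.simple j.val) (-(e * (c * u))) := by
    rw [xg_inv, mul_inv_eq_iff_eq_mul, ← mul_neg]
    refine Units.ext ?_
    rw [Units.val_mul, Units.val_mul, coe_xg, coe_xg, hhx, mul_neg, mul_neg]
  rw [e1, e2, e3, show ((R6 K).simple j).val = chevE6.simple j.val from rfl,
    mul_assoc (xg e6Good K (chevE6.neg (chevE6.simple j.val)) u), xg_add e6Good hi, ← sub_eq_add_neg, ← hv]
  have hu' : u = -v⁻¹ := by
    rw [eq_neg_iff_add_eq_zero]
    field_simp
    linear_combination huv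
  have e4 : xg e6Good K (chevE6.neg (chevE6.simple j.val)) u * xg e6Good K (chevE6.simple j.val) v =
      xg e6Good K (chevE6.simple j.val) (-v) * ng e6Good K (chevE6.simple j.val) v := by
    rw [ng, ← xg_inv, hu']
    group
  rw [e4, RankOne.ng_eq_hg_mul e6Good,
    show (R6 K).n j = ng e6Good K (chevE6.simple j.val) 1 from rfl, mul_assoc (xg e6Good K _ _),
    mul_inv_cancel_right]
  refine mul_mem ((R6 K).Upos_le_B ((R6 K).U_le_Upos ((R6 K).pos_simple j) ?_)) ((R6 K).H_le_B ?_)
  · exact xg_mem_rootSubgroup e6Good ((R6 K).simple j).val _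
  · exact Subgroup.subset_closure ⟨_, _, hi, hv0, coe_hg e6Good _ _⟩

/-- The equivalence class of `a`. -/
def Reach (a : GL chevE6.Idx K) (χ : ℕ → Kˣ) : Prop :=
  chevE6.IsRootCharacter χ ∧ ∃ g ∈ chevE6.group K,
    g * a * (theta (RingEquiv.refl K) false g)⁻¹ = charUnit chevE6 χ

variable {a : GL chevE6.Idx K}

theorem Reach.step {χ χ' : ℕ → Kˣ} (h : Reach a χ) (hχ' : chevE6.IsRootCharacter χ') {g : GL chevE6.Idx K}
    (hg : g ∈ chevE6.group K)
    (e : g * charUnit chevE6 χ * (theta (RingEquiv.refl K) false g)⁻¹ = charUnit chevE6 χ') : Reach a χ' := by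
  obtain ⟨-, g₀, hg₀, e₀⟩ := h
  refine ⟨hχ', g * g₀, mul_mem hg hg₀, ?_⟩
  rw [map_mul, ← e, ← e₀]
  group

/-- The values at two exchanged nodes are inverse. -/
theorem Reach.pair (haa : a * theta (RingEquiv.refl K) false a = 1) {χ : ℕ → Kˣ} (h : Reach a χ)
    (k : Fin chevE6.rank) : χ (chevE6.simple k.val) * χ (chevE6.simple (e6Twist.pi k).val) = 1 := by
  obtain ⟨-, g, hg, e⟩ := h
  have h1 : charUnit chevE6 χ * theta (RingEquiv.refl K) false (charUnit chevE6 χ) = 1 := by
    rw [← e, map_mul, map_mul, map_inv, theta_theta _ _ (fun _ => rfl) hg,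
      show g * a * (theta (RingEquiv.refl K) false g)⁻¹ * (theta (RingEquiv.refl K) false g *
        theta (RingEquiv.refl K) false a * g⁻¹) = g * (a * theta (RingEquiv.refl K) false a) * g⁻¹ by group,
      haa, mul_one, mul_inv_cancel]
  rw [theta_refl_charUnit, charUnit_mul, ← charUnit_one] at h1
  have h2 := char_eq_of_charUnit h1 (e6Good.simple_lt _ k.isLt)
  rwa [e6Root_ok.simple_pi] at h2

/-- Twisting clears the exchanged nodes. -/
theorem Reach.clear (haa : a * theta (RingEquiv.refl K) false a = 1) {χ : ℕ → Kˣ} (h : Reach a χ) :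
    ∃ χ', Reach a χ' ∧ ∀ k : Fin chevE6.rank,
      χ' (chevE6.simple k.val) = if e6Twist.pi k = k then χ (chevE6.simple k.val) else 1 := by
  obtain ⟨-, -, -, -, -, hcases, p0, p5, p2, p4⟩ := fixed_node_facts
  let c0 : Fin chevE6.rank → Kˣ := fun i => if i.val = 0 ∨ i.val = 2 then (χ (chevE6.simple i.val))⁻¹ else 1
  set ψ := chiOf chevE6 adjE6 3 c0
  have hψ := chiOf_isRootCharacter e6Good rootsE6 c0
  have hψs : ∀ i : Fin chevE6.rank, ψ (chevE6.simple i.val) = c0 i := chiOf_simple e6Good rootsE6 c0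
  have hψρ : chevE6.IsRootCharacter fun r => ψ (e6Twist.rho r) := by
    have := rho_char (RingHom.id K) hψ
    exact this
  set χ' : ℕ → Kˣ := fun r => ψ r * χ r * (ψ (e6Twist.rho r))⁻¹
  have hχ' : chevE6.IsRootCharacter χ' :=
    isRootCharacter_mul (isRootCharacter_mul hψ h.1) (ChevAut.isRootCharacter_inv hψρ)
  refine ⟨χ', h.step hχ' (charUnit_mem_group e6Good rootsE6 hψ) ?_, fun k => ?_⟩
  · rw [theta_refl_charUnit, mul_inv_eq_iff_eq_mul, charUnit_mul, charUnit_mul]
    congr 1
    funext r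
    show ψ r * χ r = χ' r * ψ (e6Twist.rho r)
    simp [χ']
  · have hp := h.pair haa k
    simp only [χ', hψs, e6Root_ok.simple_pi, c0]
    by_cases hk : e6Twist.pi k = k
    · rw [if_pos hk, hk, mul_right_comm, mul_inv_cancel, one_mul]
    rw [if_neg hk]
    rcases hcases k with h0 | h0 | h0 | h0 | h0
    · obtain rfl : k = e6n 0 := Fin.ext h0
      simp [p0, h0]
    · obtain rfl : k = e6n 2 := Fin.ext h0
      simp [p2, h0]
    · obtain rfl : k = e6n 4 := Fin.ext h0
      rw [p4] at hp ⊢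
      rw [h0] at hp
      simp [hp, h0]
    · obtain rfl : k = e6n 5 := Fin.ext h0
      rw [p5] at hp ⊢
      rw [h0] at hp
      simp [hp, h0]
    · exact absurd h0 hk

/-- A fixed node moves the class. -/
theorem Reach.move {χ : ℕ → Kˣ} (h : Reach a χ) (i : Fin chevE6.rank) (hi : i.val = 1 ∨ i.val = 3) :
    ∃ χ', Reach a χ' ∧ ∀ k : Fin chevE6.rank,
      χ' (chevE6.simple k.val) = χ (wN chevE6 i.val (chevE6.simple k.val)) := by
  obtain ⟨hpi, hρ, -, hinv⟩ := fixed_node_facts.2.1 i hi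
  set n := ng e6Good K (chevE6.simple i.val) 1 with hn
  have hnG : n ∈ chevE6.group K := chev_G (F := K) e6Good rootsE6 ▸ (R6 K).N_le_G ((R6 K).n_mem_N i)
  have hθn : theta (RingEquiv.refl K) false n = n := by
    rw [hn, theta_ng _ _ (e6Good.simple_lt _ i.isLt), hρ, (sg_simple i).2, Int.cast_one, one_mul]
    rfl
  obtain ⟨c', hc'⟩ := (ChevOrder.torusHom_range (F := K) e6Good).ge
    ((R6 K).n_conj_H i _ (charUnit_mem_of_root e6Good rootsE6 h.1))
  rw [torusHom_eq_charUnit] at hc'
  replace hc' : charUnit chevE6 (ChevOrder.chi c') = n * charUnit chevE6 χ * n⁻¹ := hc'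
  refine ⟨ChevOrder.chi c', h.step (chi_isRootCharacter e6Good c') hnG (by rw [hθn, hc']), fun k => ?_⟩
  set q := wN chevE6 i.val (chevE6.simple k.val) with hq
  have hql : q < chevE6.nroots := refl_lt e6Good (e6Good.simple_lt _ i.isLt) (e6Good.simple_lt _ k.isLt)
  have e1 := ng_conj_xg e6Good (F := K) i.isLt hql 1
  have e2 := ng_conj_xg e6Good (F := K) i.isLt hql ((χ q : K) * 1)
  rw [hinv k] at e1 e2
  have e3 := charUnit_conj e6Good (chi_isRootCharacter e6Good c') (e6Good.simple_lt _ k.isLt)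
    ((nSign chevE6 (chevE6.simple i.val) q : K) * 1)
  rw [← e1, hc', show n * charUnit chevE6 χ * n⁻¹ * (n * xg e6Good K q 1 * n⁻¹) * (n * charUnit chevE6 χ * n⁻¹)⁻¹ =
    n * (charUnit chevE6 χ * xg e6Good K q 1 * (charUnit chevE6 χ)⁻¹) * n⁻¹ by group,
    charUnit_conj e6Good h.1 hql, e2] at e3
  have e4 := xg_inj e6Good (e6Good.simple_lt _ k.isLt) e3
  have hs : (nSign chevE6 (chevE6.simple i.val) q : K) ≠ 0 := by
    rcases (nSign_cases e6Good (e6Good.simple_lt _ i.isLt) hql).1 with e | e <;> simp [e]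
  refine Units.ext (mul_right_cancel₀ hs ?_)
  rw [mul_comm _ (nSign chevE6 (chevE6.simple i.val) q : K)]
  linear_combination -e4

/-- An element with `a θ(a) = 1` is equivalent to a standard one. -/
theorem exists_standard_form {r : ℕ} [Fact r.Prime] [CharP K r] (h2 : r ≠ 2) (ha : a ∈ chevE6.group K)
    (haa : a * theta (RingEquiv.refl K) false a = 1) :
    ∃ g ∈ chevE6.group K, ∃ c : Bool,
      g * a * (theta (RingEquiv.refl K) false g)⁻¹ = charUnit chevE6 (chiU K c) := by
  have hG : (R6 K).G = chevE6.group K := chev_G e6Good rootsE6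
  have h2K : (2 : K) ≠ 0 := fun h0 => h2 ((Nat.prime_dvd_prime_iff_eq Fact.out Nat.prime_two).1
    ((CharP.cast_eq_zero_iff K r 2).1 (by exact_mod_cast h0)))
  obtain ⟨g₀, hg₀, hH⟩ := RGD.RootData.exists_torus_form (R6 K) (sym_theta (RingEquiv.refl K) false fun _ => rfl)
    pi_pi (rankOneStep_graph h2K) (fun v hv => by
      rw [show (R6 K).Upos = chevE6.posUnipotent K from chev_Upos e6Good rootsE6] at hv
      obtain ⟨k, hk⟩ := exists_pow_char_eq_one e6Good rootsE6 (r := r) hv
      exact ⟨_, ((Fact.out : r.Prime).odd_of_ne_two h2).pow, hk⟩)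
    (hG ▸ ha) fun g hg => by
      rw [hG] at hg
      rw [map_mul, map_mul, map_inv, theta_theta _ _ (fun _ => rfl) hg,
        show g * a * (theta (RingEquiv.refl K) false g)⁻¹ * (theta (RingEquiv.refl K) false g *
          theta (RingEquiv.refl K) false a * g⁻¹) = g * (a * theta (RingEquiv.refl K) false a) * g⁻¹ by group,
        haa, mul_one, mul_inv_cancel]
      exact one_mem _
  rw [hG] at hg₀
  obtain ⟨c₀, hc₀⟩ := (ChevOrder.torusHom_range (F := K) e6Good).ge hH
  rw [torusHom_eq_charUnit] at hc₀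
  have hR0 : Reach a (ChevOrder.chi c₀) := ⟨chi_isRootCharacter e6Good c₀, g₀, hg₀, hc₀.symm⟩
  obtain ⟨hcoef, hfix, hw1, hch13, hch31, -, -⟩ := fixed_node_facts
  -- the goal for given values at the fixed nodes
  have fin : ∀ χ, Reach a χ → χ (chevE6.simple 3) = 1 →
      ∃ g ∈ chevE6.group K, ∃ c : Bool,
        g * a * (theta (RingEquiv.refl K) false g)⁻¹ = charUnit chevE6 (chiU K c) := by
    intro χ hχ h3
    obtain ⟨χ', hχ', hv⟩ := hχ.clear haa
    obtain ⟨hroot, g, hg, e⟩ := hχ'
    have hsq : (χ (chevE6.simple 1) : K) * χ (chevE6.simple 1) = 1 := by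
      have := hχ.pair haa (e6n 1)
      rw [(hfix (e6n 1) (Or.inl rfl)).1] at this
      exact congrArg Units.val this
    have hval : ∀ (c : Bool), χ (chevE6.simple 1) = (if c then -1 else 1) →
        ∃ g ∈ chevE6.group K, ∃ c : Bool,
          g * a * (theta (RingEquiv.refl K) false g)⁻¹ = charUnit chevE6 (chiU K c) := by
      intro c hc
      refine ⟨g, hg, c, e.trans (charUnit_simple_ext rootsE6 hroot (chiU_root c) (fun k => ?_) e6Good)⟩
      rw [hv, chiU, hcoef k]
      by_cases h1 : k.val = 1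
      · obtain rfl : k = e6n 1 := Fin.ext h1
        rw [if_pos (hfix (e6n 1) (Or.inl rfl)).1]
        exact hc.trans (by cases c <;> rfl)
      · rw [decide_eq_false h1, Bool.and_false, if_neg (Bool.false_ne_true)]
        by_cases hk : e6Twist.pi k = k
        · rw [if_pos hk]
          by_cases h3' : k.val = 3
          · rw [h3']; exact h3
          · exact absurd hk (by revert h1 h3' ; revert k; decide +kernel)
        · rw [if_neg hk]
    rcases mul_self_eq_one_iff.1 hsq with h1 | h1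
    · exact hval false (Units.ext h1)
    · exact hval true (Units.ext (by simpa using h1))
  -- values after a move
  have hsq3 : ∀ χ, Reach a χ → χ (chevE6.simple 3) ≠ 1 → (χ (chevE6.simple 3) : K) = -1 := fun χ hχ hne => by
    have := hχ.pair haa (e6n 3)
    rw [(hfix (e6n 3) (Or.inr rfl)).1] at this
    rcases mul_self_eq_one_iff.1 (congrArg Units.val this) with h1 | h1
    · exact absurd (Units.ext h1) hne
    · exact h1
  -- the case of value `-1` at both nodes
  have minus : ∀ χ, Reach a χ → χ (chevE6.simple 3) ≠ 1 → (χ (chevE6.simple 1) : K) = -1 →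
      ∃ g ∈ chevE6.group K, ∃ c : Bool,
        g * a * (theta (RingEquiv.refl K) false g)⁻¹ = charUnit chevE6 (chiU K c) := by
    intro χ hχ h3 h1
    obtain ⟨χ', hχ', hv⟩ := hχ.move (e6n 1) (Or.inl rfl)
    refine fin χ' hχ' ?_
    have := hv (e6n 3)
    rw [show (e6n 3).val = 3 from rfl, show (e6n 1).val = 1 from rfl] at this
    rw [this, hχ.1.2 _ _ _ (e6Good.simple_lt 1 (e6n 1).isLt) (e6Good.simple_lt 3 (e6n 3).isLt) hch13]
    exact Units.ext (by rw [Units.val_mul, h1, hsq3 χ hχ h3, neg_mul_neg, mul_one, Units.val_one])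
  by_cases h3 : ChevOrder.chi c₀ (chevE6.simple 3) = 1
  · exact fin _ hR0 h3
  by_cases h1 : (ChevOrder.chi c₀ (chevE6.simple 1) : K) = -1
  · exact minus _ hR0 h3 h1
  have h1' : (ChevOrder.chi c₀ (chevE6.simple 1) : K) = 1 := by
    have := hR0.pair haa (e6n 1)
    rw [(hfix (e6n 1) (Or.inl rfl)).1] at this
    exact (mul_self_eq_one_iff.1 (congrArg Units.val this)).resolve_right h1
  obtain ⟨χ', hχ', hv⟩ := hR0.move (e6n 3) (Or.inr rfl)
  have v3 := hv (e6n 3)
  have v1 := hv (e6n 1)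
  rw [show (e6n 3).val = 3 from rfl] at v3 v1
  rw [show (e6n 1).val = 1 from rfl] at v1
  have hne1 : (-1 : K) ≠ 1 := fun e => h2K (by linear_combination -e)
  refine minus χ' hχ' (fun e => ?_) ?_
  · rw [v3, show wN chevE6 3 (chevE6.simple 3) = chevE6.neg (chevE6.simple 3) from
      (hfix (e6n 3) (Or.inr rfl)).2.2.1, hR0.1.1 _ (e6Good.simple_lt 3 (e6n 3).isLt), inv_eq_one] at e
    exact h3 e
  · rw [v1, hR0.1.2 _ _ _ (e6Good.simple_lt 3 (e6n 3).isLt) (e6Good.simple_lt 1 (e6n 1).isLt) hch31,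
      Units.val_mul, h1', mul_one, hsq3 _ hR0 h3]

end Cfsg.Agent.ChevBalance.E6
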