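import Cfsg.Agent.Lib.ChevBalance.E6Graph
import Cfsg.Agent.Lib.ChevBalance.E6Torus
import Cfsg.Agent.Lib.ChevBalance.E6Cent
import Cfsg.Agent.Lib.ChevOrder.Final

/-!
# E₆: descent of the standard form, and the criterion

* `graph_conj` : a twisted form without field part is conjugate to one of the standard involutions;
* `e6_crit` : the criterion for involutions moving the diagram.
-/

set_option autoImplicit false
set_option linter.style.haveILetI false
set_option linter.unusedSectionVars false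

namespace Cfsg.Agent.ChevBalance.E6

open Cfsg Cfsg.Lie Cfsg.Lie.ChevalleyDatum Cfsg.Agent.Chev Cfsg.Agent.ChevBN Cfsg.Agent.ChevSt Cfsg.Agent.ChevAut
open Cfsg.Agent.TwistE6D4 (e6Twist e6Twist_ok)
open Cfsg.Agent.ChevFoldF4 (R6 rhoF e6n e6Good)
open Cfsg.Agent.ChevFixed Cfsg.Agent.LocalBalance

universe u

variable {K : Type*} [Field K] [IsAlgClosed K]

/-- The Lang–Steinberg theorem for the fixed group of an involution. -/
theorem exists_fixed_lang {r q e : ℕ} [Fact r.Prime] [CharP K r] (he : 1 ≤ e) (hq : q = r ^ e) (φ : K →+* K)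
    (hφ : ∀ z, φ z = z ^ q) (c : Bool) {n : GL chevE6.Idx K}
    (hn : n ∈ Subgroup.closure {x | ∃ j : Fin chevE6.nroots, ∃ t : K,
      bad c j = false ∧ x = oel (RingEquiv.refl K) c j.val t}) :
    ∃ k ∈ chevE6.group K, theta (RingEquiv.refl K) c k = k ∧ mapG chevE6 φ k = k * n := by
  let J := {j : Fin chevE6.nroots // bad c j = false}
  let f : J → K → GL chevE6.Idx K := fun j t => oel (RingEquiv.refl K) c j.1.val t
  have hset : {x | ∃ j : Fin chevE6.nroots, ∃ t : K, bad c j = false ∧ x = oel (RingEquiv.refl K) c j.val t} =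
      {g | ∃ j t, g = f j t} := by
    ext x
    exact ⟨fun ⟨j, t, h, e⟩ => ⟨⟨j, h⟩, t, e⟩, fun ⟨⟨j, h⟩, t, e⟩ => ⟨j, t, h, e⟩⟩
  rw [hset] at hn
  let P : J → Matrix chevE6.Idx chevE6.Idx (Polynomial K) := fun j =>
    if e6Twist.rho j.1.val = j.1.val then xR chevE6 (Polynomial K) j.1.val Polynomial.X
    else xR chevE6 (Polynomial K) j.1.val Polynomial.X *
      xR chevE6 (Polynomial K) (e6Twist.rho j.1.val) (Polynomial.C (sg c j.1.val : K) * Polynomial.X)
  have hev : ∀ (s : ℕ) (p : Polynomial K) (t : K), s < chevE6.nroots →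
      (xR chevE6 (Polynomial K) s p).map (Polynomial.evalRingHom t) =
        (xg e6Good K s (p.eval t) : Matrix chevE6.Idx chevE6.Idx K) := fun s p t hs => by
    rw [coe_xg, x_eq_xR chevE6 hs]
    exact xR_map chevE6 (Polynomial.evalRingHom t) s p
  have hP : ∀ j t, (f j t : Matrix chevE6.Idx chevE6.Idx K) = Lang.gval P j t := fun j t => by
    show _ = (P j).map (Polynomial.evalRingHom t)
    simp only [f, P, oel]
    split_ifs with h
    · rw [hev _ _ _ j.1.isLt, Polynomial.eval_X]
    · rw [Matrix.map_mul, hev _ _ _ j.1.isLt, hev _ _ _ (e6Twist_ok.rho_lt _ j.1.isLt), Units.val_mul]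
      simp
  have hcomm : ∀ (j : J) (t u : K), f j t * f j u = f j (t + u) := fun j t u => by
    simp only [f, oel]
    split_ifs with h
    · rw [xg_add e6Good j.1.isLt]
    · rw [← xg_add e6Good j.1.isLt, map_add, mul_add, ← xg_add e6Good (e6Twist_ok.rho_lt _ j.1.isLt)]
      have hc := (commute_orbit j.1.isLt h u ((sg c j.1.val : K) * RingEquiv.refl K t)).1.eq
      simp only [mul_assoc]
      rw [← mul_assoc (xg e6Good K (e6Twist.rho j.1.val) _), ← hc, mul_assoc]
  have h0 : ∀ j, f j 0 = 1 := fun j => by simp only [f, oel]; split_ifs <;> simp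
  obtain ⟨k, hk, ek⟩ := lang_closure f P hP h0
    (fun j t => ⟨-t, inv_eq_of_mul_eq_one_right (by rw [hcomm, add_neg_cancel, h0])⟩) he hq φ hφ
    (fun j t => ⟨f j (φ t), Subgroup.subset_closure ⟨j, φ t, rfl⟩, by
      show (oel (RingEquiv.refl K) c j.1.val (φ t) : Matrix chevE6.Idx chevE6.Idx K) =
        ((mapG chevE6 φ (oel (RingEquiv.refl K) c j.1.val t) : GL chevE6.Idx K) : Matrix chevE6.Idx chevE6.Idx K)
      simp only [oel]
      split_ifs
      · rw [mapG_xg]
      · rw [map_mul, mapG_xg, mapG_xg, map_mul, map_intCast, RingEquiv.refl_apply, RingEquiv.refl_apply]⟩) hn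
  refine ⟨k, ?_, ?_, Units.ext (by rw [coe_mapG, Units.val_mul]; exact ek)⟩
  · exact (Subgroup.closure_le _).2 (by rintro _ ⟨j, t, rfl⟩; exact oel_mem_group _ _ _ _) hk
  · exact (Subgroup.closure_le ((theta (RingEquiv.refl K) c).eqLocus (MonoidHom.id _))).2
      (by rintro _ ⟨j, t, rfl⟩; exact oel_fix _ _ (fun _ => rfl) j.1.isLt (par_good _ _ j.1.isLt j.2 rfl)) hk

variable {F : Type u} [Field F] [Fintype F]
  (hlist : chevE6 ∈ [chevG2, chevB2, chevD4, chevF4, chevE6, chevE7, chevE8])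
include hlist

omit [IsAlgClosed K] in
/-- A twisted form without field part is standard. -/
theorem graph_conj {r : ℕ} [Fact r.Prime] [CharP F r] (h2 : r ≠ 2) {β : MulAut (chevE6.group F)}
    {x : chevE6.group F} {χ : ℕ → Fˣ} (hχ : chevE6.IsRootCharacter χ)
    (hβ : ∀ k : chevE6.group F, ((β k : chevE6.group F) : GL chevE6.Idx F) =
      (x : GL chevE6.Idx F) * charUnit chevE6 χ * theta (RingEquiv.refl F) false k *
        ((x : GL chevE6.Idx F) * charUnit chevE6 χ)⁻¹)
    (haa : (x : GL chevE6.Idx F) * charUnit chevE6 χ *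
      theta (RingEquiv.refl F) false ((x : GL chevE6.Idx F) * charUnit chevE6 χ) = 1) :
    ∃ (c : Bool) (α : MulAut (chevE6.group F)),
      α * β * α⁻¹ = thetaAut (RingEquiv.refl F) c (fun _ => rfl) := by
  obtain ⟨n, -, hn⟩ := FiniteField.card F r
  let L := AlgebraicClosure F
  haveI : CharP L r := charP_of_injective_algebraMap (algebraMap F L).injective r
  let ι := algebraMap F L
  let φ : L →+* L := iterateFrobenius L r n
  have hφ : ∀ z, φ z = z ^ Fintype.card F := fun z => by rw [hn]; exact iterateFrobenius_def ..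
  have h2L : (2 : L) ≠ 0 := fun h0 => h2 ((Nat.prime_dvd_prime_iff_eq Fact.out Nat.prime_two).1
    ((CharP.cast_eq_zero_iff L r 2).1 (by exact_mod_cast h0)))
  set a := (x : GL chevE6.Idx F) * charUnit chevE6 χ with ha
  have hθι : ∀ g, mapG chevE6 ι (theta (RingEquiv.refl F) false g) =
      theta (RingEquiv.refl L) false (mapG chevE6 ι g) := fun g => by
    rw [theta_false, theta_false]
    exact mapG_sigma ι _ _ (RingHom.ext fun _ => rfl) g
  have hθφ : ∀ g, mapG chevE6 φ (theta (RingEquiv.refl L) false g) =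
      theta (RingEquiv.refl L) false (mapG chevE6 φ g) := fun g => by
    rw [theta_false, theta_false]
    exact mapG_sigma φ (RingEquiv.refl L : L →+* L) (RingEquiv.refl L : L →+* L) (RingHom.ext fun t => by simp) g
  have hφι : φ.comp ι = ι := RingHom.ext fun t => by
    rw [RingHom.comp_apply, hφ, ← map_pow, FiniteField.pow_card]
  have haL : mapG chevE6 ι a ∈ chevE6.group L := by
    rw [ha, map_mul, mapG_charUnit]
    exact mul_mem (mapG_group_le e6Good ι ⟨_, x.2, rfl⟩)
      (charUnit_mem_group e6Good rootsE6 (isRootCharacter_map' hχ _))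
  obtain ⟨g, hg, c, eg⟩ := exists_standard_form (r := r) h2 haL (by rw [← hθι, ← map_mul, haa, map_one])
  set ε : GL chevE6.Idx L := charUnit chevE6 (chiU L c)
  have hθc : ∀ y, theta (RingEquiv.refl L) c y = ε * theta (RingEquiv.refl L) false y * ε⁻¹ := fun y => by
    rw [theta_false]; rfl
  have hchi : ∀ (ι' : F →+* L), mapG chevE6 ι' (charUnit chevE6 (chiU F c)) = ε := fun ι' => by
    rw [mapG_charUnit]
    refine congrArg (charUnit chevE6) (funext fun q => Units.ext ?_)
    rw [Units.coe_map, coe_chiU, MonoidHom.coe_coe, coe_chiU, map_intCast]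
  -- the Frobenius twist of the conjugating element is fixed
  have hΦε : mapG chevE6 φ ε = ε := by
    rw [← hchi ι, ChevLang.mapG_comp, hφι]
  have hΦg : mapG chevE6 φ g ∈ chevE6.group L := mapG_group_le e6Good φ ⟨g, hg, rfl⟩
  set h := mapG chevE6 φ g * g⁻¹ with hh
  have eΦ : mapG chevE6 φ g * mapG chevE6 ι a * (theta (RingEquiv.refl L) false (mapG chevE6 φ g))⁻¹ = ε := by
    have h1 := congrArg (mapG chevE6 φ) eg
    rw [map_mul, map_mul, map_inv, hθφ, hΦε, ChevLang.mapG_comp, hφι] at h1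
    exact h1
  have hfix : theta (RingEquiv.refl L) c h⁻¹ = h⁻¹ := by
    rw [map_inv, inv_inj, hθc, mul_inv_eq_iff_eq_mul, hh, map_mul, map_inv]
    conv_rhs => rw [← eg]
    rw [← eΦ]
    group
  obtain ⟨k, hk, hkfix, ek⟩ := exists_fixed_lang (r := r) n.pos hn φ hφ c
    (fixed_le_closure c h2L (inv_mem (mul_mem hΦg (inv_mem hg))) hfix)
  have hrat : mapG chevE6 φ (k * g) = k * g := by
    rw [map_mul, ek]; group
  have eg' : k * g * mapG chevE6 ι a * (theta (RingEquiv.refl L) false (k * g))⁻¹ = ε := by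
    rw [hθc, mul_inv_eq_iff_eq_mul] at hkfix
    rw [map_mul (theta (RingEquiv.refl L) false), show k * g * mapG chevE6 ι a *
      (theta (RingEquiv.refl L) false k * theta (RingEquiv.refl L) false g)⁻¹ =
      k * (g * mapG chevE6 ι a * (theta (RingEquiv.refl L) false g)⁻¹) *
        (theta (RingEquiv.refl L) false k)⁻¹ by group, eg, ← hkfix]
    group
  obtain ⟨y, χ', hχ', e'⟩ := exists_rational_split e6Good rootsE6 φ hφ (mul_mem hk hg) hrat
  rw [e', ← hθι, ← map_mul, ← map_inv, ← map_mul, ← hchi ι] at eg'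
  exact ⟨c, conj_of_twisted hlist (fun _ => rfl) hβ y hχ' (mapG_injective ι eg')⟩

omit [IsAlgClosed K] in
/-- The criterion for E₆. -/
theorem e6_crit {r : ℕ} [Fact r.Prime] [CharP F r] {p : ℕ} [Fact p.Prime] (hp : p = 2) (hpr : p ≠ r)
    {β : MulAut (chevE6.group F)} (hβ : β ^ p = 1) (h : permHom e6Good rootsE6 hlist β ≠ 1) :
    Crit p β ∧ p ∣ Nat.card (fixK β) := by
  subst hp
  obtain ⟨x, χ, σ, hχ, hσ, hβk, haa⟩ := exists_twisted hlist hβ h
  refine ⟨?_, fix_dvd hβ ?_⟩
  · by_cases hσ1 : σ = 1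
    · subst hσ1
      obtain ⟨c, α, e⟩ := graph_conj hlist (Ne.symm hpr) hχ hβk haa
      exact Crit.of_conj (α := α) (e ▸ crit_theta (RingEquiv.refl F) c hlist (fun _ => rfl)
        (fun _ _ => rfl) (Ne.symm hpr))
    · obtain ⟨α, e⟩ := graph_field_conj hlist (Ne.symm hpr) hσ hσ1 hχ hβk haa
      exact Crit.of_conj (α := α) (e ▸ crit_theta σ false hlist hσ
        (fun h => absurd h Bool.false_ne_true) (Ne.symm hpr))
  · obtain ⟨f, hr, hf⟩ := FiniteField.card F r
    have hodd : Odd (Fintype.card F) := hf ▸ (hr.odd_of_ne_two (Ne.symm hpr)).pow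
    have hcop : Nat.Coprime 2 (Nat.gcd 3 (Fintype.card F - 1)) :=
      Nat.Coprime.coprime_dvd_right (Nat.gcd_dvd_left _ _) (by norm_num)
    refine hcop.dvd_of_dvd_mul_left ?_
    rw [ChevOrder.card_E6 (F := F) (q := Fintype.card F) rfl e6Good]
    obtain ⟨u, hu⟩ := hodd.pow (n := 2)
    have h2 : 2 ∣ Fintype.card F ^ 2 - 1 := by omega
    exact Dvd.dvd.mul_right (Dvd.dvd.mul_right (Dvd.dvd.mul_right (Dvd.dvd.mul_right
      (Dvd.dvd.mul_right (dvd_mul_of_dvd_right h2 _) _) _) _) _) _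

end Cfsg.Agent.ChevBalance.E6
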