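import Cfsg.Agent.EqLemmas
import Cfsg.Agent.Lib.ChevBN.Simple
import Cfsg.Agent.Lib.ChevBN.Data
import Cfsg.Agent.Lib.Golay.UThree.GTwo
import Cfsg.Agent.Lib.Golay.B2Two
import Cfsg.Agent.S1059
import Cfsg.Agent.Lib.Chev.All
import Mathlib.GroupTheory.SpecificGroups.Alternating.Simple

/-!
# Normal subgroups of the Chevalley groups of the seven types over any finite field

* `le_center_or` : a normal subgroup is central or contains the simple derived subgroup;
* `chev_simple_or_small` : the group is simple, or it is one of `G₂(2)`, `B₂(2)`;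
* `normal_central` : a normal subgroup of order prime to an odd prime divisor of the order is central.
-/

set_option autoImplicit false

namespace Cfsg.Agent.ChevBalance

open Cfsg Cfsg.Lie Cfsg.Lie.ChevalleyDatum Cfsg.Agent.Chev Cfsg.Agent.ChevBN

theorem le_center_or {G : Type*} [Group G] (S : Subgroup G) [S.Normal] [IsSimpleGroup S]
    (hcomm : commutator G ≤ S) (N : Subgroup G) [hN : N.Normal] : N ≤ Subgroup.center G ∨ S ≤ N := by
  rcases Subgroup.Normal.eq_bot_or_eq_top (H := N.subgroupOf S) inferInstance with h | h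
  · refine Or.inl fun n hn => Subgroup.mem_center_iff.2 fun g => ?_
    have h1 : g * n * g⁻¹ * n⁻¹ ∈ S := hcomm (Subgroup.commutator_mem_commutator (Subgroup.mem_top g) (Subgroup.mem_top n))
    have h2 : g * n * g⁻¹ * n⁻¹ ∈ N := mul_mem (hN.conj_mem n hn g) (inv_mem hn)
    have h3 : (⟨_, h1⟩ : S) ∈ N.subgroupOf S := h2
    rw [h, Subgroup.mem_bot] at h3
    have h4 : g * n * g⁻¹ * n⁻¹ = 1 := congrArg Subtype.val h3
    rw [mul_inv_eq_one, mul_inv_eq_iff_eq_mul] at h4
    exact h4
  · exact Or.inr (Subgroup.subgroupOf_eq_top.1 h)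

theorem derived_isSimple_B2 {F : Type*} [Field F] [Fintype F] (h : Fintype.card F = 2) :
    IsSimpleGroup ↥(commutator ↥(chevB2.group F)) ∧
      Nat.card ↥(chevB2.group F) = 2 * Nat.card ↥(commutator ↥(chevB2.group F)) := by
  obtain ⟨e⟩ := Golay.B2Two.main h
  have hc : commutator (Equiv.Perm (Fin 6)) = alternatingGroup (Fin 6) :=
    alternatingGroup.commutator_perm_eq (by simp)
  have hmap : (commutator ↥(chevB2.group F)).map e.toMonoidHom = alternatingGroup (Fin 6) := by
    rw [← hc, map_commutator_eq, MonoidHom.range_eq_top.2 e.surjective]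
    rfl
  have e' : ↥(commutator ↥(chevB2.group F)) ≃* ↥(alternatingGroup (Fin 6)) :=
    (e.subgroupMap _).trans (MulEquiv.subgroupCongr hmap)
  have := alternatingGroup.isSimpleGroup (α := Fin 6) (by simp)
  have : Nontrivial ↥(commutator ↥(chevB2.group F)) := e'.toEquiv.nontrivial
  refine ⟨IsSimpleGroup.isSimpleGroup_of_surjective e'.symm.toMonoidHom e'.symm.surjective, ?_⟩
  rw [Nat.card_congr e.toEquiv, Nat.card_congr e'.toEquiv, two_mul_nat_card_alternatingGroup]

theorem derived_isSimple_G2 {F : Type*} [Field F] [Fintype F] (h : Fintype.card F = 2) :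
    IsSimpleGroup ↥(commutator ↥(chevG2.group F)) ∧
      Nat.card ↥(chevG2.group F) = 2 * Nat.card ↥(commutator ↥(chevG2.group F)) := by
  obtain ⟨φ⟩ := Cfsg.Agent.Golay.UThree.chev_group_map chevG2 (ZMod.ringEquivOfPrime F Nat.prime_two h).symm
  obtain ⟨e⟩ := Cfsg.Agent.Golay.UThree.g2_main
  have hmap : (commutator ↥(chevG2.group F)).map φ.toMonoidHom = commutator ↥(chevG2.group (ZMod 2)) := by
    rw [map_commutator_eq, MonoidHom.range_eq_top.2 φ.surjective]
    rfl
  have e' : ↥(commutator ↥(chevG2.group F)) ≃* Cfsg.Agent.Golay.UThree.SU3 :=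
    ((φ.subgroupMap _).trans (MulEquiv.subgroupCongr hmap)).trans e
  have := Cfsg.Agent.Golay.UThree.isSimple_SU3.1
  have : Nontrivial ↥(commutator ↥(chevG2.group F)) := e'.toEquiv.nontrivial
  refine ⟨IsSimpleGroup.isSimpleGroup_of_surjective e'.symm.toMonoidHom e'.symm.surjective, ?_⟩
  rw [Nat.card_congr e'.toEquiv, Cfsg.Agent.Golay.UThree.card_SU3,
    Cfsg.Agent.S1059.result (F := F) (q := 2) h]
  norm_num

variable {D : ChevalleyDatum}

theorem chev_simple_or_small (hlist : D ∈ [chevG2, chevB2, chevD4, chevF4, chevE6, chevE7, chevE8])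
    (F : Type*) [Field F] [Fintype F] :
    IsSimpleGroup ↥(D.group F) ∨ (Fintype.card F = 2 ∧ IsSimpleGroup ↥(commutator ↥(D.group F)) ∧
      Nat.card ↥(D.group F) = 2 * Nat.card ↥(commutator ↥(D.group F))) := by
  obtain ⟨M, d, hR⟩ := exists_roots D hlist
  obtain ⟨hr, ord, ho⟩ := conn_of_mem hlist
  have hD := good_of_mem hlist
  by_cases hsmall : D = chevG2 ∨ D = chevB2
  · by_cases hF : ∃ a : F, a ≠ 0 ∧ a ≠ 1
    · exact Or.inl (group_isSimple hD hR ho hr (commutator_group_eq_top hD (Or.inr hF) (smallOK_of_mem hlist)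
        hD.pairing_self)).1
    · have h2 : Fintype.card F = 2 := by
        classical
        refine le_antisymm ?_ Fintype.one_lt_card
        refine le_trans (Finset.card_le_card (s := Finset.univ) (t := {(0 : F), 1}) fun a _ => ?_) Finset.card_le_two
        push Not at hF
        by_cases ha : a = 0
        · simp [ha]
        · simp [hF a ha]
      refine Or.inr ⟨h2, ?_⟩
      rcases hsmall with rfl | rfl
      exacts [derived_isSimple_G2 h2, derived_isSimple_B2 h2]
  · push Not at hsmall
    exact Or.inl (group_isSimple hD hR ho hr (commutator_group_eq_top hD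
      (Or.inl (twoOK_of_mem hlist hsmall.1 hsmall.2)) (smallOK_of_mem hlist) hD.pairing_self)).1

/-- A normal subgroup of order prime to a prime divisor of the order is central. -/
theorem normal_central (hlist : D ∈ [chevG2, chevB2, chevD4, chevF4, chevE6, chevE7, chevE8])
    {F : Type*} [Field F] [Fintype F] {p : ℕ} (hp : p.Prime) (h2 : Fintype.card F = 2 → p ≠ 2)
    (hd : p ∣ Nat.card ↥(D.group F)) (N : Subgroup ↥(D.group F)) [N.Normal] (hc : (Nat.card N).Coprime p) :
    N ≤ Subgroup.center _ := by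
  rcases chev_simple_or_small hlist F with hs | ⟨hF, hs, hcard⟩
  · rcases Subgroup.Normal.eq_bot_or_eq_top (H := N) inferInstance with rfl | rfl
    · exact bot_le
    · rw [Subgroup.card_top] at hc
      exact absurd (hc.symm.eq_one_of_dvd hd) hp.one_lt.ne'
  · rcases le_center_or (commutator ↥(D.group F)) le_rfl N with h | h
    · exact h
    · rw [hcard] at hd
      have hd' := (hp.dvd_mul.1 hd).resolve_left fun h => h2 hF ((Nat.prime_dvd_prime_iff_eq hp Nat.prime_two).1 h)
      exact absurd ((Nat.Coprime.coprime_dvd_left (Subgroup.card_dvd_of_le h) hc).symm.eq_one_of_dvd hd')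
        hp.one_lt.ne'

end Cfsg.Agent.ChevBalance
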