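import Cfsg.Agent.Lib.ChevBalance.Rigid
import Cfsg.Agent.Lib.ChevBalance.Small
import Cfsg.Agent.Lib.ChevBN.Subfield
import Cfsg.Agent.Lib.ChevLang.Lang
import Cfsg.Agent.Lib.LocalBalance.Abstract

/-!
# Automorphisms of prime order with a non-trivial field part

* `exists_conj_field` : such an automorphism is conjugate to a field automorphism (Lang's theorem);
* `crit_fieldHom` : the criterion of local balance for a field automorphism.
-/

set_option autoImplicit false
set_option linter.style.haveILetI false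

namespace Cfsg.Agent.ChevBalance

open Cfsg Cfsg.Lie Cfsg.Lie.ChevalleyDatum Cfsg.Agent.Chev Cfsg.Agent.ChevBN Cfsg.Agent.ChevSt
  Cfsg.Agent.ChevAut Cfsg.Agent.ChevFixed Cfsg.Agent.LocalBalance

universe u

variable {D : ChevalleyDatum} {M : List (List ℤ)} {d : ℤ} (hD : Good D) (hR : Roots D M d)

theorem mapG_charUnit {F K : Type*} [Field F] [Field K] (f : F →+* K) (χ : ℕ → Fˣ) :
    mapG D f (charUnit D χ) = charUnit D fun q => Units.map (f : F →* K) (χ q) := by
  apply Units.ext
  rw [coe_mapG]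
  simp only [charUnit, ChevalleyDatum.charDiag]
  rw [Matrix.diagonal_map (map_zero _)]
  congr 1
  ext x
  rcases x with i | q <;> simp

include hD hR

theorem conj_injective (F : Type*) [Field F] : Function.Injective (MulAut.conj : D.group F →* MulAut (D.group F)) := by
  rw [injective_iff_map_eq_one]
  intro g hg
  refine Subtype.ext (centralizer_eq_one hD hR g.2 fun r => ?_)
  have := DFunLike.congr_fun hg (⟨xg hD F r 1, xg_mem_group hD r 1⟩ : D.group F)
  rw [MulAut.conj_apply, MulAut.one_apply, mul_inv_eq_iff_eq_mul] at this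
  exact congrArg Subtype.val this

section Conj

variable {F : Type u} [Field F] [Fintype F] {r p e : ℕ} [Fact r.Prime] [CharP F r]

theorem exists_conj_field (he : 1 ≤ e) (hcard : Fintype.card F = r ^ (e * p)) {σ : F ≃+* F}
    (hσ : ∀ t, σ t = t ^ r ^ e) {β : MulAut (D.group F)} (hβ : β ^ p = 1) (x : D.group F)
    (c : Fin D.rank → Fˣ) (e' : β = MulAut.conj x * diagHom hD hR c * fieldHom hD hR σ) :
    ∃ α : MulAut (D.group F), α * β * α⁻¹ = fieldHom hD hR σ := by
  let K := AlgebraicClosure F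
  haveI : CharP K r := charP_of_injective_algebraMap (algebraMap F K).injective r
  let ι := algebraMap F K
  let φ : K →+* K := iterateFrobenius K r e
  have hφ : ∀ z, φ z = z ^ r ^ e := fun z => iterateFrobenius_def ..
  set χ := chiOf D M d c
  have hχ := chiOf_isRootCharacter hD hR c
  set a := mapG D ι ((x : GL D.Idx F) * charUnit D χ) with ha
  have haG : a ∈ D.group K := by
    rw [ha, map_mul, mapG_charUnit]
    exact mul_mem (mapG_group_le hD ι ⟨_, x.2, rfl⟩) (charUnit_mem_group hD hR (isRootCharacter_map' hχ _))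
  obtain ⟨g, hg, eg⟩ := ChevLang.exists_lang hD he (rfl : r ^ e = r ^ e) φ hφ haG
  let j : D.group F →* GL D.Idx K := (mapG D ι).comp (D.group F).subtype
  have hjinj : Function.Injective j := (mapG_injective ι).comp Subtype.val_injective
  have hjσ : ∀ t, j (fieldHom hD hR σ t) = mapG D φ (j t) := fun t => by
    show mapG D ι (fieldHom hD hR σ t : GL D.Idx F) = _
    rw [coe_fieldHom]
    apply Units.ext
    ext a b
    show ι (σ _) = φ (ι _)
    rw [hσ, map_pow, hφ]
    rfl
  have hstep : ∀ t, j (β t) = g⁻¹ * mapG D φ (g * j t * g⁻¹) * g := fun t => by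
    have h1 : j (β t) = a * j (fieldHom hD hR σ t) * a⁻¹ := by
      show mapG D ι (β t : GL D.Idx F) = a * mapG D ι (fieldHom hD hR σ t : GL D.Idx F) * a⁻¹
      rw [ha, ← map_inv, ← map_mul, ← map_mul, e', MulAut.mul_apply, MulAut.mul_apply, MulAut.conj_apply,
        Subgroup.coe_mul, Subgroup.coe_mul, InvMemClass.coe_inv, coe_diagHom]
      congr 1
      simp only [χ]
      group
    rw [h1, hjσ, map_mul, map_mul, map_inv, eg]
    group
  have hpow : ∀ (k : ℕ) (t : D.group F),
      j ((β ^ k) t) = g⁻¹ * (⇑(mapG D φ))^[k] (g * j t * g⁻¹) * g := by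
    intro k
    induction k with
    | zero => intro t; simp [mul_assoc]
    | succ k ih =>
      intro t
      rw [pow_succ', MulAut.mul_apply, hstep, ih, Function.iterate_succ_apply']
      simp [mul_assoc]
  have hiter : ∀ (k : ℕ) (z : K), (⇑φ)^[k] z = z ^ r ^ (e * k) := by
    intro k
    induction k with
    | zero => intro z; simp
    | succ k ih =>
      intro z
      rw [Function.iterate_succ_apply', ih, hφ, ← pow_mul, Nat.mul_succ, pow_add]
  let Φ : K →+* K := iterateFrobenius K r (e * p)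
  have hΦ : ∀ z, Φ z = z ^ Fintype.card F := fun z => by rw [hcard]; exact iterateFrobenius_def ..
  have hGiter : ∀ (k : ℕ) (h : GL D.Idx K) (i i' : D.Idx),
      (((⇑(mapG D φ))^[k] h : GL D.Idx K) : Matrix D.Idx D.Idx K) i i' =
        (⇑φ)^[k] ((h : Matrix D.Idx D.Idx K) i i') := by
    intro k
    induction k with
    | zero => intros; rfl
    | succ k ih =>
      intro h i i'
      rw [Function.iterate_succ_apply', Function.iterate_succ_apply', ← ih]
      rfl
  have hΦG : ∀ h : GL D.Idx K, (⇑(mapG D φ))^[p] h = mapG D Φ h := fun h => by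
    apply Units.ext
    ext i i'
    rw [hGiter, hiter, coe_mapG, Matrix.map_apply, hΦ, hcard]
  have hjfix : ∀ t, mapG D Φ (j t) = j t := fun t => by
    apply Units.ext
    ext i i'
    show Φ (ι _) = ι _
    rw [hΦ, ← map_pow, FiniteField.pow_card]
  have hcom : ∀ t, (g⁻¹ * mapG D Φ g) * j t * (g⁻¹ * mapG D Φ g)⁻¹ = j t := fun t => by
    have h1 := hpow p t
    rw [hβ, MulAut.one_apply, hΦG, map_mul, map_mul, map_inv, hjfix] at h1
    conv_rhs => rw [h1]
    group
  have hfix : mapG D Φ g = g := by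
    have h1 : g⁻¹ * mapG D Φ g = 1 := by
      refine centralizer_eq_one hD hR (mul_mem (inv_mem hg) (mapG_group_le hD Φ ⟨g, hg, rfl⟩)) fun q => ?_
      have h2 := hcom ⟨xg hD F q 1, xg_mem_group hD q 1⟩
      rw [mul_inv_eq_iff_eq_mul, show j ⟨xg hD F q 1, xg_mem_group hD q 1⟩ = xg hD K q 1 by
        show mapG D ι (xg hD F q 1) = _
        rw [mapG_xg hD, map_one]] at h2
      exact h2
    exact (inv_mul_eq_one.1 h1).symm
  obtain ⟨y, χ', hχ', eg'⟩ := exists_rational_split hD hR Φ hΦ hg hfix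
  obtain ⟨α, hα⟩ : ∃ α : MulAut (D.group F), ∀ t, j (α t) = g * j t * g⁻¹ := by
    refine ⟨MulAut.conj y * diagHom hD hR fun i => χ' (D.simple i), fun t => ?_⟩
    show mapG D ι (_ : GL D.Idx F) = g * mapG D ι (t : GL D.Idx F) * g⁻¹
    rw [eg', ← map_inv, ← map_mul, ← map_mul, MulAut.mul_apply, MulAut.conj_apply, Subgroup.subtype_apply, Subgroup.coe_mul,
      Subgroup.coe_mul, InvMemClass.coe_inv, coe_diagHom,
      charUnit_simple_ext hR (chiOf_isRootCharacter hD hR _) hχ' (chiOf_simple hD hR _) hD]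
    congr 1
    group
  refine ⟨α, MulEquiv.ext fun t => hjinj ?_⟩
  rw [mul_assoc, MulAut.mul_apply, MulAut.mul_apply, hα, hstep, ← hα, MulAut.apply_inv_self, hjσ]
  group

end Conj

section Crit

variable {F : Type u} [Field F] [Fintype F] {σ : F ≃+* F}

/-- The rational points of the fixed field. -/
noncomputable def fixedPoints (σ : F ≃+* F) : Subgroup (D.group F) :=
  (fixedGen hD (σ : F →+* F)).subgroupOf (D.group F)

omit [Fintype F] hR in
theorem fixedGen_le_group : fixedGen hD (σ : F →+* F) ≤ D.group F := by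
  refine (Subgroup.closure_le _).2 ?_
  rintro _ ⟨q, t, -, rfl⟩
  exact xg_mem_group hD q t

omit [Fintype F] hR in
theorem mapG_fixedGen {g : GL D.Idx F} (hg : g ∈ fixedGen hD (σ : F →+* F)) :
    mapG D (σ : F →+* F) g = g := by
  induction hg using Subgroup.closure_induction with
  | mem x hx => obtain ⟨q, t, ht, rfl⟩ := hx; rw [mapG_xg hD, ht]
  | one => exact map_one _
  | mul a b _ _ ha hb => rw [map_mul, ha, hb]
  | inv a _ ha => rw [map_inv, ha]

omit [Fintype F] in
theorem mem_fix_iff (g : D.group F) :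
    g ∈ fixK (fieldHom hD hR σ) ↔ mapG D (σ : F →+* F) (g : GL D.Idx F) = g := by
  rw [mem_fixK, ← coe_fieldHom hD hR]
  exact Subtype.ext_iff

omit [Fintype F] in
theorem fixedPoints_le_fix : fixedPoints hD σ ≤ fixK (fieldHom hD hR σ) := fun g hg =>
  (mem_fix_iff hD hR g).2 (mapG_fixedGen hD hg)

omit [Fintype F] in
theorem fix_normalises {g : D.group F} (hg : g ∈ fixK (fieldHom hD hR σ)) {s : D.group F}
    (hs : s ∈ fixedPoints hD σ) : g * s * g⁻¹ ∈ fixedPoints hD σ := by
  have h1 := fixed_normalizes hD (σ : F →+* F) hR (fixedGen_le_group hD) le_rfl (fun x hx => mapG_fixedGen hD hx)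
    g.2 ((mem_fix_iff hD hR g).1 hg)
  show ((g * s * g⁻¹ : D.group F) : GL D.Idx F) ∈ fixedGen hD (σ : F →+* F)
  rw [Subgroup.coe_mul, Subgroup.coe_mul, InvMemClass.coe_inv]
  exact (Subgroup.mem_normalizer_iff.1 h1 _).1 hs

omit [Fintype F] in
theorem two_dvd_fixedPoints (hrank : 0 < D.rank) : 2 ∣ Nat.card (fixedPoints hD σ) := by
  let R := chevRGD hD hR F
  let i : Fin D.rank := ⟨0, hrank⟩
  let n : D.group F := ⟨R.n i, by rw [← chev_G hD hR]; exact R.N_le_G (R.n_mem_N i)⟩
  by_contra h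
  have hn : n ∈ fixedPoints hD σ := ng_mem_fixedGen hD (σ : F →+* F) _
  have hodd : Odd (orderOf n) := by
    rw [← Nat.not_even_iff_odd, even_iff_two_dvd]
    exact fun h2 => h (h2.trans (Subgroup.orderOf_dvd_natCard _ hn))
  obtain ⟨k, hk⟩ := hodd
  have h2 : n = (n * n) ^ (k + 1) := by
    rw [← pow_two, ← pow_mul, show 2 * (k + 1) = orderOf n + 1 by omega, pow_succ, pow_orderOf_eq_one, one_mul]
  have h3 : R.n i ∈ R.H := by
    have h4 := congrArg Subtype.val h2
    rw [Subgroup.coe_pow, Subgroup.coe_mul] at h4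
    rw [show R.n i = (R.n i * R.n i) ^ (k + 1) from h4]
    exact pow_mem (R.n_sq _) _
  exact n_not_mem_B R i (R.H_le_B h3)

omit [Fintype F] hR in
/-- The rational points of the fixed field are the image of the group over that field. -/
theorem fixedGen_eq_map {K : Type*} [Field K] (ι : K →+* F) (hι : ∀ t, σ (ι t) = ι t)
    (hfix : ∀ t, σ t = t → ∃ t₀, ι t₀ = t) :
    (D.group K).map (mapG D ι) = fixedGen hD (σ : F →+* F) := by
  refine le_antisymm ?_ ((Subgroup.closure_le _).2 ?_)
  · rw [ChevalleyDatum.group, MonoidHom.map_closure]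
    refine (Subgroup.closure_le _).2 ?_
    rintro _ ⟨z, ⟨q, t, e⟩, rfl⟩
    obtain rfl : z = xg hD K q.val t := Units.ext (by rw [e]; simp [ChevalleyDatum.x])
    show mapG D ι (xg hD K q.val t) ∈ _
    rw [mapG_xg hD]
    exact xg_mem_fixedGen hD (σ : F →+* F) _ (hι t)
  · rintro _ ⟨q, t, ht, rfl⟩
    obtain ⟨t₀, rfl⟩ := hfix t ht
    exact ⟨xg hD K q t₀, xg_mem_group hD q t₀, mapG_xg hD ι q t₀⟩

omit [Fintype F] hR in
theorem gx_mem_fixedPoints (q : ℕ) {t : F} (ht : σ t = t) : gx hD q t ∈ fixedPoints hD σ :=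
  xg_mem_fixedGen hD (σ : F →+* F) q ht

variable {p : ℕ} [hp : Fact p.Prime]

omit [Fintype F] in
/-- A prime dividing the order of the fixed points divides that of the rational points of the fixed field. -/
theorem dvd_fixedPoints [Finite F] (hrank : 0 < D.rank) (hd : p ∣ Nat.card (fixK (fieldHom hD hR σ))) :
    p ∣ Nat.card (fixedPoints hD σ) := by
  by_cases hp2 : p = 2
  · exact hp2 ▸ two_dvd_fixedPoints hD hR hrank
  by_contra hnd
  obtain ⟨g, hgo⟩ := exists_prime_orderOf_dvd_card' (G := fixK (fieldHom hD hR σ)) p hd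
  have hgf : mapG D (σ : F →+* F) ((g.1 : D.group F) : GL D.Idx F) = _ := (mem_fix_iff hD hR g.1).1 g.2
  obtain ⟨e₁, h1, h, hh, hhf, e₂, h2, e⟩ := fixed_decomp hD (σ : F →+* F) hR g.1.2 hgf
  set Gn := fixedGen hD (σ : F →+* F)
  have hnorm : ∀ k : ℕ, ∀ x ∈ Gn, h ^ k * x * (h ^ k)⁻¹ ∈ Gn := fun k x hx =>
    diag_normalizes_fixedGen hD (σ : F →+* F) (pow_mem hh k) (by rw [map_pow, hhf]) x hx
  have hpow : ∀ k : ℕ, ∃ x ∈ Gn, ((g.1 : D.group F) : GL D.Idx F) ^ k = x * h ^ k := by
    intro k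
    induction k with
    | zero => exact ⟨1, one_mem _, by simp⟩
    | succ k ih =>
      obtain ⟨x, hx, ex⟩ := ih
      refine ⟨x * (h ^ k * e₁ * (h ^ k)⁻¹) * (h ^ (k + 1) * e₂ * (h ^ (k + 1))⁻¹),
        mul_mem (mul_mem hx (hnorm _ _ h1)) (hnorm _ _ h2), ?_⟩
      rw [pow_succ, ex, e, pow_succ h k]
      group
  set N := orderOf h
  have hN : ((g.1 : D.group F) : GL D.Idx F) ^ N ∈ Gn := by
    obtain ⟨x, hx, ex⟩ := hpow N
    rwa [ex, pow_orderOf_eq_one, mul_one]
  have hgN : g.1 ^ N ∈ fixedPoints hD σ := by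
    show ((g.1 ^ N : D.group F) : GL D.Idx F) ∈ Gn
    rwa [Subgroup.coe_pow]
  have hog : orderOf g.1 = p := by rw [← hgo, Subgroup.orderOf_coe]
  have hgord : (g.1 ^ N) = 1 := by
    by_contra hne
    refine hnd ((orderOf_eq_prime (p := p) ?_ hne) ▸ Subgroup.orderOf_dvd_natCard _ hgN)
    rw [← pow_mul, mul_comm, pow_mul, ← hog, pow_orderOf_eq_one, one_pow]
  have hpN : p ∣ N := hog ▸ orderOf_dvd_of_pow_eq_one hgord
  -- a fixed unit of order `p`
  have hhne : h ^ (N / p) ≠ 1 := by
    intro h0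
    have hN0 : 0 < N := orderOf_pos h
    have h5 := Nat.le_of_dvd (Nat.div_pos (Nat.le_of_dvd hN0 hpN) hp.out.pos) (orderOf_dvd_of_pow_eq_one h0)
    exact absurd h5 (not_le.2 (Nat.div_lt_self hN0 hp.out.one_lt))
  set m := h ^ (N / p)
  have hm1 : m ^ p = 1 := by
    rw [← pow_mul, Nat.div_mul_cancel hpN, pow_orderOf_eq_one]
  have hmf : mapG D (σ : F →+* F) m = m := by rw [map_pow, hhf]
  obtain ⟨χ, hχ, -⟩ := isToral_of_mem hD (show m ∈ D.diagonalSubgroup F from pow_mem hh (N / p))
  have hex : ∃ q : Fin D.nroots, χ q.val ≠ 1 := by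
    by_contra hall
    push Not at hall
    refine hhne (Units.ext ?_)
    rw [hχ, dg, Units.val_one, ← Matrix.diagonal_one]
    congr 1
    ext a
    rcases a with i | q
    · simp
    · simp [hall q]
  obtain ⟨q, hq⟩ := hex
  set t : Fˣ := χ q.val
  have htf : σ (t : F) = t := by
    have h3 := congrArg (fun M : GL D.Idx F => (M : Matrix D.Idx D.Idx F) (Sum.inr q) (Sum.inr q)) hmf
    simpa [coe_mapG, hχ, dg] using h3
  have htp : (t : F) ^ p = 1 := by
    have h3 := congrArg (fun M : GL D.Idx F => (M : Matrix D.Idx D.Idx F) (Sum.inr q) (Sum.inr q)) hm1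
    simpa [Units.val_pow_eq_pow_val, hχ, dg, Matrix.diagonal_pow] using h3
  -- the corresponding element of the fundamental rank one torus
  have hs := hD.simple_lt 0 hrank
  set z := hg hD F (D.simple 0) (t : F)
  have hzG : z ∈ Gn := by
    have hng : ∀ u : F, σ u = u → ng hD F (D.simple 0) u ∈ Gn := fun u hu =>
      mul_mem (mul_mem (xg_mem_fixedGen hD (σ : F →+* F) _ hu)
        (xg_mem_fixedGen hD (σ : F →+* F) _ (by simp [hu]))) (xg_mem_fixedGen hD (σ : F →+* F) _ hu)
    exact mul_mem (hng _ htf) (hng _ (by simp))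
  have hzd : (z : Matrix D.Idx D.Idx F) = dg fun s => t ^ D.pairing (D.simple 0) s := by
    show (hg hD F (D.simple 0) (t : F) : Matrix D.Idx D.Idx F) = _
    rw [coe_hg, hMat_eq_diag hD hs t.ne_zero]
    congr 1
    funext s
    simp
  have ht1 : t ^ p = 1 := Units.ext (by simpa using htp)
  have hz1 : z ^ p = 1 := by
    apply Units.ext
    rw [Units.val_pow_eq_pow_val, hzd, dg, Matrix.diagonal_pow, Units.val_one, ← Matrix.diagonal_one]
    congr 1
    ext a
    rcases a with i | s
    · simp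
    · simp only [Pi.pow_apply, Sum.elim_inr]
      rw [← Units.val_pow_eq_pow_val, ← zpow_natCast, ← zpow_mul, mul_comm, zpow_mul, zpow_natCast, ht1,
        one_zpow, Units.val_one]
  have hz : z ≠ 1 := fun h0 => by
    have h3 := congrArg (fun M : GL D.Idx F => (M : Matrix D.Idx D.Idx F) (Sum.inr ⟨_, hs⟩) (Sum.inr ⟨_, hs⟩)) h0
    simp only [hzd, dg, Matrix.diagonal_apply_eq, Sum.elim_inr, hD.pairing_self _ hs, Units.val_one,
      Matrix.one_apply_eq] at h3
    have h4 : t ^ 2 = 1 := Units.ext (by simpa using h3)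
    have := pow_gcd_eq_one.2 ⟨h4, ht1⟩
    rw [show Nat.gcd 2 p = 1 from (Nat.coprime_primes Nat.prime_two hp.out).2 (Ne.symm hp2), pow_one] at this
    exact hq this
  refine hnd ?_
  have hzG' : (⟨z, fixedGen_le_group hD hzG⟩ : D.group F) ∈ fixedPoints hD σ := hzG
  rw [← orderOf_eq_prime hz1 hz, ← Subgroup.orderOf_mk z (fixedGen_le_group hD hzG)]
  exact Subgroup.orderOf_dvd_natCard _ hzG'

omit [Fintype F] in
theorem fieldHom_rigid [Finite F] (hlist : D ∈ [chevG2, chevB2, chevD4, chevF4, chevE6, chevE7, chevE8])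
    {y : MulAut (D.group F)} (hy : ∀ k ∈ fixedPoints hD σ, y k = k) :
    ∃ τ ∈ Subgroup.zpowers σ, y = fieldHom hD hR τ := by
  let R := chevRGD hD hR F
  obtain ⟨l, hl⟩ := exists_long hD hR (F := F)
  have hxS : ∀ (q : ℕ) (t : F), σ t = t → gx hD q t ∈ fixedPoints hD σ :=
    fun q t ht => gx_mem_fixedPoints hD q ht
  let X : Fin D.rank → D.group F := fun i => gx hD (D.simple i.val) 1
  let u : D.group F := ((List.finRange D.rank).map X).prod
  have hXU : ∀ i, (X i : GL D.Idx F) ∈ R.U (R.simple i) := fun i => xg_mem_rootSubgroup hD _ _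
  have hu : (u : GL D.Idx F) ∈ R.Upos := by
    rw [Subgroup.val_list_prod]
    refine list_prod_mem fun g hg => ?_
    simp only [List.mem_map] at hg
    obtain ⟨_, ⟨i, -, rfl⟩, rfl⟩ := hg
    exact R.U_le_Upos (R.pos_simple i) (hXU i)
  have huS : u ∈ fixedPoints hD σ := list_prod_mem fun g hg => by
    obtain ⟨i, -, rfl⟩ := List.mem_map.1 hg
    exact hxS _ 1 (map_one σ)
  have hreg : ∀ i, (u : GL D.Idx F) ∉ R.Udel i := by
    intro i hdel
    obtain ⟨L₁, L₂, hL⟩ := List.append_of_mem (List.mem_finRange i)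
    have hnd := List.nodup_finRange D.rank
    rw [hL] at hnd
    have hpart : ∀ L : List (Fin D.rank), i ∉ L → (((L.map X).prod : D.group F) : GL D.Idx F) ∈ R.Udel i := by
      intro L hL'
      rw [Subgroup.val_list_prod]
      refine list_prod_mem fun g hg => ?_
      simp only [List.mem_map] at hg
      obtain ⟨_, ⟨k, hk, rfl⟩, rfl⟩ := hg
      exact R.U_le_span (A := {s | R.pos s ∧ s ≠ R.simple i})
        ⟨R.pos_simple k, fun e => hL' (R.simple_inj e ▸ hk)⟩ (hXU k)
    have h1 := hpart L₁ fun h => by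
      exact (List.nodup_append.1 hnd).2.2 i h i (List.mem_cons_self ..) rfl
    have h2 := hpart L₂ ((List.nodup_cons.1 (List.nodup_append.1 hnd).2.1).1)
    simp only [u, hL, List.map_append, List.map_cons, List.prod_append, List.prod_cons, Subgroup.coe_mul] at hdel
    have h3 := (Subgroup.mul_mem_cancel_left _ h1).1 hdel
    have h4 := (Subgroup.mul_mem_cancel_right _ h2).1 h3
    have h5 := R.U_inf_Udel i (hXU i) h4
    exact x_one_ne_one hD (hD.simple_lt _ i.isLt) h5
  have hnG : R.nw l ∈ D.group F := by rw [← chev_G hD hR]; exact R.N_le_G (R.nw_mem_N l)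
  have hnS : (⟨R.nw l, hnG⟩ : D.group F) ∈ fixedPoints hD σ := by
    show R.nw l ∈ fixedGen hD (σ : F →+* F)
    refine list_prod_mem fun g hg => ?_
    obtain ⟨i, -, rfl⟩ := List.mem_map.1 hg
    exact ng_mem_fixedGen hD (σ : F →+* F) _
  have hU := maps_of_regular hD hR hu hreg (hy u huS)
  have hV := maps_neg_of_conj hD hR (n := ⟨R.nw l, hnG⟩) (conj_long_iff R hl) (hy _ hnS) hU
  obtain ⟨π, hπ⟩ := fix_of_maps hD hR hlist hU hV
  obtain ⟨c, τ, hτ⟩ := apply_of_fix hD hR hlist hπ
  have hone : ∀ i, π i = i ∧ c i = 1 := by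
    intro i
    have h1 := (hτ i 1).1
    rw [hy _ (hxS _ 1 (map_one σ)), map_one, one_pow, mul_one] at h1
    have hs := hD.simple_lt _ i.isLt
    have hs' := hD.simple_lt _ (π i).isLt
    have e := congrArg Subtype.val h1
    have hii : i = π i := Fin.ext (hR.simple_inj hD i.isLt (π i).isLt
      (ChevOrder.xg_eq_xg hD hs hs' one_ne_zero e))
    refine ⟨hii.symm, ?_⟩
    rw [← hii] at h1
    exact Units.ext (gx_inj hD hs h1).symm
  have hyfield : y = fieldHom hD hR τ := aut_ext hD hR fun i t => by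
    have he : D.graphExp (ringChar F) i.val i.val = 1 := by simp [ChevalleyDatum.graphExp]
    rw [(hτ i t).1, (hτ i t).2, (hone i).1, (hone i).2, he, pow_one, inv_one, Units.val_one, one_mul,
      fieldHom_apply hD hR τ (hD.simple_lt _ i.isLt), fieldHom_apply hD hR τ (hD.neg_lt _ (hD.simple_lt _ i.isLt))]
    exact ⟨rfl, rfl⟩
  refine ⟨τ, mem_zpowers_of_fix fun a ha => ?_, hyfield⟩
  have hrank : 0 < D.rank := (conn_of_mem hlist).1
  have h1 := hy _ (hxS (D.simple 0) a ha)
  rw [hyfield, fieldHom_apply hD hR τ (hD.simple_lt 0 hrank)] at h1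
  exact gx_inj hD (hD.simple_lt 0 hrank) h1

/-- The criterion for a field automorphism. -/
theorem crit_fieldHom (hlist : D ∈ [chevG2, chevB2, chevD4, chevF4, chevE6, chevE7, chevE8])
    {r : ℕ} [Fact r.Prime] [CharP F r] (hpr : p ≠ r) (hord : σ ^ p = 1) : Crit p (fieldHom hD hR σ) := by
  classical
  have hrank : 0 < D.rank := (conn_of_mem hlist).1
  have hle := fixedPoints_le_fix hD hR (σ := σ)
  refine ⟨fun h => ?_, conj_injective hD hR F, fun hd N hN hn hc => ?_, fun _ y _ hk => ?_⟩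
  · have h1 : gx hD (D.simple 0) (1 : F) ∈ fixK (fieldHom hD hR σ) := hle (gx_mem_fixedPoints hD _ (map_one σ))
    rw [h, Subgroup.mem_bot] at h1
    exact x_one_ne_one hD (hD.simple_lt 0 hrank) (congrArg Subtype.val h1)
  · set S := fixedPoints hD σ
    let G := Subgroup.zpowers σ
    let F₀ := FixedPoints.subfield G F
    have hF₀ : ∀ t : F, t ∈ F₀ ↔ σ t = t := by
      intro t
      refine ⟨fun h => h ⟨σ, Subgroup.mem_zpowers σ⟩, fun h g => ?_⟩
      obtain ⟨g, hg⟩ := g
      have h1 : G ≤ MulAction.stabilizer (F ≃+* F) t := Subgroup.zpowers_le.2 h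
      exact h1 hg
    letI : Fintype F₀ := Fintype.ofFinite _
    have hmap := fixedGen_eq_map hD F₀.subtype (σ := σ) (fun t => (hF₀ _).1 t.2)
      (fun t ht => ⟨⟨t, (hF₀ t).2 ht⟩, rfl⟩)
    let e : D.group F₀ ≃* S :=
      (((D.group F₀).equivMapOfInjective _ (mapG_injective F₀.subtype)).trans (MulEquiv.subgroupCongr hmap)).trans
        (Subgroup.subgroupOfEquivOfLe (fixedGen_le_group hD)).symm
    let N₀ : Subgroup (D.group F₀) := (N.subgroupOf S).comap e.toMonoidHom
    haveI : (N.subgroupOf S).Normal := ⟨fun n hn' g => hn g.1 (hle g.2) _ hn'⟩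
    haveI : N₀.Normal := inferInstanceAs (Subgroup.comap e.toMonoidHom _).Normal
    have hdS : p ∣ Nat.card (D.group F₀) := by
      rw [Nat.card_congr e.toEquiv]; exact dvd_fixedPoints hD hR hrank hd
    have hcN : (Nat.card N₀).Coprime p := by
      refine Nat.Coprime.coprime_dvd_left ?_ hc
      have h1 : Nat.card (N.subgroupOf S) ∣ Nat.card N := by
        exact Subgroup.card_comap_dvd_of_injective N S.subtype S.subtype_injective
      exact (Subgroup.card_comap_dvd_of_injective _ _ e.injective).trans h1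
    have h2 : Fintype.card F₀ = 2 → p ≠ 2 := by
      intro h0 h2
      haveI : Fact (Nat.Prime 2) := ⟨Nat.prime_two⟩
      have hch : CharP F₀ r := RingHom.charP F₀.subtype F₀.subtype.injective r
      exact hpr (h2.trans (CharP.eq F₀ (charP_of_card_eq_prime h0) hch))
    have hcen := normal_central hlist hp.out h2 hdS N₀ hcN
    refine (Subgroup.eq_bot_iff_forall _).2 fun n hn' => ?_
    have hcomS : ∀ s ∈ S, n * s * n⁻¹ = s := by
      intro s hs
      have h1 : n * s * n⁻¹ * s⁻¹ ∈ S := mul_mem (fix_normalises hD hR (hN hn') hs) (inv_mem hs)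
      have h3 : n * s * n⁻¹ * s⁻¹ ∈ N := by
        rw [show n * s * n⁻¹ * s⁻¹ = n * (s * n⁻¹ * s⁻¹) by group]
        exact mul_mem hn' (hn s (hle hs) _ (inv_mem hn'))
      -- a central commutator
      have hcz : ∀ z ∈ S, z ∈ N → z = 1 := by
        intro z hz hzN
        have h4 : e.symm ⟨z, hz⟩ ∈ N₀ := by
          show e (e.symm ⟨z, hz⟩) ∈ N.subgroupOf S
          rw [MulEquiv.apply_symm_apply]; exact hzN
        obtain ⟨z₀, ez⟩ : ∃ z₀, z₀ = e.symm ⟨z, hz⟩ := ⟨_, rfl⟩
        have hz₀ : z₀ = 1 := by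
          refine Subtype.ext (centralizer_eq_one hD hR z₀.2 fun q => ?_)
          have h5 := Subgroup.mem_center_iff.1 (hcen h4) ⟨xg hD F₀ q 1, xg_mem_group hD q 1⟩
          rw [ez]
          exact (congrArg Subtype.val h5).symm
        rw [ez, MulEquiv.map_eq_one_iff] at hz₀
        exact congrArg Subtype.val hz₀
      exact mul_inv_eq_one.1 (hcz _ h1 h3)
    refine Subtype.ext (centralizer_eq_one hD hR n.2 fun q => ?_)
    have h1 := hcomS _ (gx_mem_fixedPoints hD q (map_one σ))
    rw [mul_inv_eq_iff_eq_mul] at h1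
    exact congrArg Subtype.val h1
  · obtain ⟨τ, hτ, rfl⟩ := fieldHom_rigid hD hR hlist (fun k hk' => hk k (hle hk'))
    obtain ⟨k, rfl⟩ := Subgroup.mem_zpowers_iff.1 hτ
    rw [← map_pow, ← zpow_natCast, ← zpow_mul, mul_comm, zpow_mul, zpow_natCast, hord, one_zpow, map_one]

end Crit

end Cfsg.Agent.ChevBalance
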