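import Cfsg.Agent.Lib.ChevBalance.E6Twist
import Cfsg.Agent.Lib.ChevBalance.Field

/-!
# E₆: involutions with a nontrivial field part

`exists_twisted_lang` : the Lang–Steinberg theorem for the twisted Frobenius map, by conjugating it to a plain one;
`graph_field_conj` : a twisted form with nontrivial field part is conjugate to the standard involution.
-/

set_option autoImplicit false
set_option linter.style.haveILetI false
set_option linter.unusedSectionVars false

namespace Cfsg.Agent.ChevBalance.E6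

open Cfsg Cfsg.Lie Cfsg.Lie.ChevalleyDatum Cfsg.Agent.Chev Cfsg.Agent.ChevBN Cfsg.Agent.ChevSt Cfsg.Agent.ChevAut
open Cfsg.Agent.TwistE6D4 (e6Twist e6Twist_ok)
open Cfsg.Agent.ChevFoldF4 (R6 e6Good)
open Cfsg.Agent.ChevFixed

theorem pMat_sq : TwistE6D4.pMat e6Twist_ok * TwistE6D4.pMat e6Twist_ok = 1 := by
  have hinv : ∀ b : chevE6.Idx, TwistE6D4.iota e6Twist_ok (TwistE6D4.iota e6Twist_ok b) = b ∧
      TwistE6D4.sgn e6Twist (TwistE6D4.iota e6Twist_ok b) * TwistE6D4.sgn e6Twist b = 1 := by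
    rintro (j | q)
    · exact ⟨congrArg Sum.inl (pi_pi j), rfl⟩
    · refine ⟨congrArg Sum.inr (Fin.ext (rho_rho q.isLt)), ?_⟩
      have h := (sg_facts false q).2.1
      rwa [sg, sg, chiC_false, chiC_false, mul_one, mul_one] at h
  ext a b
  obtain ⟨c, rfl⟩ := (TwistE6D4.iota_bijective e6Twist_ok).2 a
  rw [TwistE6D4.pMat_mul, TwistE6D4.pMat, Matrix.of_apply, Matrix.one_apply]
  by_cases h : c = TwistE6D4.iota e6Twist_ok b
  · subst h
    rw [if_pos rfl, if_pos (hinv b).1, (hinv b).2]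
  · rw [if_neg h, if_neg fun e => h (by rw [← e, (hinv c).1]), mul_zero]

variable {K : Type*} [Field K]

theorem sigma_sigma (φ : K →+* K) {g : GL chevE6.Idx K} (hg : g ∈ chevE6.group K) :
    TwistE6D4.sigma e6Twist_ok φ (TwistE6D4.sigma e6Twist_ok φ g) = mapG chevE6 (φ.comp φ) g := by
  induction hg using Subgroup.closure_induction with
  | mem x hx =>
    obtain ⟨r, t, e⟩ := hx
    obtain rfl : x = xg e6Good K r.val t := Units.ext (by rw [e]; simp [ChevalleyDatum.x])
    rw [TwistE6D4.xg_eq, TwistE6D4.sigma_gx e6Twist_ok e6Good φ r.isLt,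
      TwistE6D4.sigma_gx e6Twist_ok e6Good φ (e6Twist_ok.rho_lt _ r.isLt), rho_rho r.isLt, map_mul, map_intCast,
      ← mul_assoc]
    have h : (e6Twist.eps (e6Twist.rho r.val) : K) * (e6Twist.eps r.val : K) = 1 := by
      have h := sg_rho (K := K) false r.isLt
      simpa only [sg, chiC_false, mul_one] using h
    rw [h, one_mul, ← TwistE6D4.xg_eq, ← TwistE6D4.xg_eq, mapG_xg]
    rfl
  | one => simp
  | mul a b _ _ ha hb => simp only [map_mul, ha, hb]
  | inv a _ ha => simp only [map_inv, ha]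

/-- The Lang–Steinberg theorem for the twisted map. -/
theorem exists_twisted_lang [IsAlgClosed K] {p e : ℕ} [Fact p.Prime] [CharP K p] (h2 : (2 : K) ≠ 0) (he : 1 ≤ e)
    (φ : K →+* K) (hφ : ∀ z, φ z = z ^ p ^ e) {n : GL chevE6.Idx K} (hn : n ∈ chevE6.group K) :
    ∃ g ∈ chevE6.group K, TwistE6D4.sigma e6Twist_ok φ g = g * n := by
  have hQ : 0 < p ^ e - 1 := by
    have := Nat.one_lt_pow (by omega : e ≠ 0) (Fact.out : p.Prime).one_lt
    omega
  obtain ⟨μ, hμ⟩ := IsAlgClosed.exists_pow_nat_eq (-1 : K) hQ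
  have hμ0 : μ ≠ 0 := fun h => by rw [h, zero_pow hQ.ne'] at hμ; exact one_ne_zero (neg_eq_zero.1 hμ.symm)
  have hφμ : φ μ = -μ := by
    rw [hφ, show p ^ e = p ^ e - 1 + 1 by omega, pow_succ, hμ, neg_one_mul]
  set P : Matrix chevE6.Idx chevE6.Idx K := (TwistE6D4.pMat e6Twist_ok).map (Int.cast : ℤ → K) with hPdef
  have hPP : P * P = 1 := by
    rw [hPdef, ← Matrix.map_mul_intCast, pMat_sq, Matrix.map_one _ Int.cast_zero Int.cast_one]
  let Z : K → Matrix chevE6.Idx chevE6.Idx K := fun ν => (2 : K)⁻¹ • ((1 + P) + ν • (1 - P))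
  have hZmul : ∀ a b : K, a * b = 1 → Z a * Z b = 1 := by
    intro a b hab
    have e1 : (1 + P) * (1 + P) = (2 : K) • (1 + P) := by
      rw [mul_add, add_mul, add_mul, one_mul, one_mul, mul_one, hPP, two_smul]; abel
    have e2 : (1 - P) * (1 - P) = (2 : K) • (1 - P) := by
      rw [mul_sub, sub_mul, sub_mul, one_mul, one_mul, mul_one, hPP, two_smul]; abel
    have e3 : (1 + P) * (1 - P) = 0 ∧ (1 - P) * (1 + P) = 0 := by
      constructor
      · rw [mul_sub, add_mul, add_mul, one_mul, one_mul, mul_one, hPP]; abel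
      · rw [mul_add, sub_mul, sub_mul, one_mul, one_mul, mul_one, hPP]; abel
    simp only [Z, smul_mul_assoc, mul_smul_comm]
    rw [add_mul (1 + P) (a • (1 - P)), mul_add (1 + P), mul_add (a • (1 - P))]
    simp only [smul_mul_assoc, mul_smul_comm, e1, e2, e3.1, e3.2, smul_zero, add_zero, zero_add, smul_smul, smul_add]
    rw [show (2 : K)⁻¹ * ((2 : K)⁻¹ * (b * (a * 2))) = (2 : K)⁻¹ by field_simp; linear_combination hab,
      show (2 : K)⁻¹ * ((2 : K)⁻¹ * 2) = (2 : K)⁻¹ by field_simp, ← smul_add, ← smul_add,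
      show 1 + P + (1 - P) = (2 : K) • (1 : Matrix chevE6.Idx chevE6.Idx K) by rw [two_smul]; abel, smul_smul,
      inv_mul_cancel₀ h2, one_smul]
  let Y : GL chevE6.Idx K := ⟨Z μ, Z μ⁻¹, hZmul _ _ (mul_inv_cancel₀ hμ0), hZmul _ _ (inv_mul_cancel₀ hμ0)⟩
  have hY : mapG chevE6 φ Y = Y * TwistE6D4.pUnit e6Twist_ok K := by
    refine Units.ext ?_
    show (Z μ).map φ = Z μ * P
    have hP : P.map φ = P := by ext a b; simp [P]
    have hm : (Z μ).map φ = Z (-μ) := by
      show φ.mapMatrix (Z μ) = _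
      have hs : ∀ (c : K) (A : Matrix chevE6.Idx chevE6.Idx K), φ.mapMatrix (c • A) = φ c • φ.mapMatrix A :=
        fun c A => by ext a b; simp
      simp only [Z, hs, map_add, map_sub, map_one, map_inv₀, map_ofNat, hφμ]
      rw [show φ.mapMatrix P = P from hP]
    rw [hm]
    simp only [Z, smul_mul_assoc, add_mul, sub_mul, one_mul, hPP, neg_smul]
    congr 1
    simp only [smul_sub]
    abel
  let f : Fin chevE6.nroots → K → GL chevE6.Idx K := fun r t => Y * xg e6Good K r.val t * Y⁻¹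
  have hf : ∀ x ∈ chevE6.group K, Y * x * Y⁻¹ ∈ Subgroup.closure {g | ∃ r t, g = f r t} := by
    intro x hx
    have hle : chevE6.group K ≤
        (Subgroup.closure {g | ∃ r t, g = f r t}).comap (MulAut.conj Y).toMonoidHom :=
      (Subgroup.closure_le _).2 (by
        rintro z ⟨r, t, e⟩
        obtain rfl : z = xg e6Good K r.val t := Units.ext (by rw [e]; simp [ChevalleyDatum.x])
        exact Subgroup.subset_closure ⟨r, t, rfl⟩)
    exact hle hx
  have hstab0 : ∀ x : GL chevE6.Idx K,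
      mapG chevE6 φ (Y * x * Y⁻¹) = Y * TwistE6D4.sigma e6Twist_ok φ x * Y⁻¹ := fun x => by
    rw [map_mul, map_mul, map_inv, hY]
    show Y * TwistE6D4.pUnit e6Twist_ok K * mapG chevE6 φ x * (Y * TwistE6D4.pUnit e6Twist_ok K)⁻¹ =
      Y * (TwistE6D4.pUnit e6Twist_ok K * mapG chevE6 φ x * (TwistE6D4.pUnit e6Twist_ok K)⁻¹) * Y⁻¹
    group
  obtain ⟨g', hg', eg⟩ := lang_closure f
    (fun r => (Y : Matrix chevE6.Idx chevE6.Idx K).map Polynomial.C * ChevLang.rootPoly chevE6 K r *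
      ((Y⁻¹ : GL chevE6.Idx K) : Matrix chevE6.Idx chevE6.Idx K).map Polynomial.C)
    (fun r t => by
      simp only [f, Units.val_mul, Lang.gval]
      have hC : ∀ A : Matrix chevE6.Idx chevE6.Idx K,
          (A.map Polynomial.C).map (Polynomial.evalRingHom t) = A := fun A => by ext; simp
      show _ = ((_ * _ * _ : Matrix chevE6.Idx chevE6.Idx (Polynomial K))).map (Polynomial.evalRingHom t)
      rw [Matrix.map_mul, Matrix.map_mul, hC, hC, ← ChevLang.gval_rootPoly e6Good]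
      rfl)
    (fun r => by simp [f])
    (fun r t => ⟨-t, by simp [f, ← xg_inv, mul_assoc]⟩)
    he rfl φ hφ
    (fun r t => ⟨_, hf (TwistE6D4.sigma e6Twist_ok φ (xg e6Good K r.val t)) (by
        rw [TwistE6D4.xg_eq, TwistE6D4.sigma_gx e6Twist_ok e6Good φ r.isLt, ← TwistE6D4.xg_eq]
        exact xg_mem_group e6Good _ _),
      (congrArg Units.val (hstab0 (xg e6Good K r.val t))).symm⟩)
    (hf n hn)
  have hle : Subgroup.closure {g | ∃ r t, g = f r t} ≤ (chevE6.group K).map (MulAut.conj Y).toMonoidHom :=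
    (Subgroup.closure_le _).2 (by
      rintro _ ⟨r, t, rfl⟩
      exact ⟨xg e6Good K r.val t, xg_mem_group e6Good _ _, rfl⟩)
  obtain ⟨g, hg, rfl⟩ := hle hg'
  refine ⟨g, hg, ?_⟩
  have h1 : mapG chevE6 φ (Y * g * Y⁻¹) = Y * g * Y⁻¹ * (Y * n * Y⁻¹) := Units.ext eg
  rw [hstab0, show Y * g * Y⁻¹ * (Y * n * Y⁻¹) = Y * (g * n) * Y⁻¹ by group] at h1
  exact mul_left_cancel (mul_right_cancel h1)

variable {F : Type*} [Field F] [Fintype F]
  (hlist : chevE6 ∈ [chevG2, chevB2, chevD4, chevF4, chevE6, chevE7, chevE8])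
include hlist

/-- An involutory field automorphism as a power of the characteristic. -/
theorem exists_frobenius {r : ℕ} [Fact r.Prime] [CharP F r] {σ : F ≃+* F} (hσ : ∀ t, σ (σ t) = t)
    (hσ1 : σ ≠ 1) : ∃ e, 1 ≤ e ∧ Fintype.card F = r ^ (e * 2) ∧ ∀ t, σ t = t ^ r ^ e := by
  obtain ⟨f, -, hf⟩ := FiniteField.card F r
  haveI : PerfectRing F r := PerfectRing.ofFiniteOfIsReduced r F
  let ρ₀ : F ≃+* F := frobeniusEquiv F r
  have hρ₀ : ∀ (k : ℕ) (t : F), (ρ₀ ^ k) t = t ^ r ^ k := by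
    intro k
    induction k with
    | zero => intro t; simp
    | succ k ih =>
      intro t
      rw [pow_succ, RingAut.mul_apply, ih, pow_succ' r k, pow_mul]
      rfl
  haveI : Finite (F ≃+* F) := Finite.of_injective (fun a : F ≃+* F => (a : F → F)) DFunLike.coe_injective
  obtain ⟨hcyc, hcardA⟩ := AutPSL.fieldAut_facts (F := F) r f f.pos hf
  have hgen : σ ∈ Subgroup.zpowers ρ₀ :=
    LocalBalance.mem_zpowers_of_fix fun a ha => by
      have h1 : a ^ r = a := ha
      have h3 : a ∈ (⊥ : Subfield F) := (Subfield.mem_bot_iff_pow_eq_self F r).2 h1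
      rw [← ZMod.fieldRange_castHom_eq_bot r] at h3
      obtain ⟨i, rfl⟩ := h3
      obtain ⟨m, rfl⟩ := ZMod.intCast_surjective i
      simp
  obtain ⟨k, hk⟩ : ∃ k : ℕ, ρ₀ ^ k = σ :=
    Submonoid.mem_powers_iff _ _ |>.1 (mem_powers_iff_mem_zpowers.2 hgen)
  have hρf : ρ₀ ^ (f : ℕ) = 1 := RingEquiv.ext fun t => by
    rw [hρ₀, ← hf, FiniteField.pow_card]; rfl
  have hord : orderOf ρ₀ ∣ f := orderOf_dvd_of_pow_eq_one hρf
  have hσ2 : σ ^ 2 = 1 := RingEquiv.ext fun t => by rw [sq, RingAut.mul_apply]; exact hσ t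
  have hfull : orderOf ρ₀ = f := by
    refine Nat.le_antisymm (Nat.le_of_dvd f.pos hord) ?_
    by_contra hlt
    have hall : ∀ t : F, t ^ r ^ orderOf ρ₀ = t := fun t => by
      rw [← hρ₀, pow_orderOf_eq_one]; rfl
    have hr1 : 1 < r ^ orderOf ρ₀ := Nat.one_lt_pow (orderOf_pos ρ₀).ne' (Fact.out : r.Prime).one_lt
    have hP : (Polynomial.X ^ (r ^ orderOf ρ₀) - Polynomial.X : Polynomial F) ≠ 0 :=
      FiniteField.X_pow_card_sub_X_ne_zero F hr1
    have h1 := Polynomial.card_le_degree_of_subset_roots (Z := Finset.univ)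
      (p := (Polynomial.X ^ (r ^ orderOf ρ₀) - Polynomial.X : Polynomial F)) fun t _ => by
        rw [Polynomial.mem_roots hP]
        simp [hall t]
    rw [FiniteField.X_pow_card_sub_X_natDegree_eq F hr1, Finset.card_univ, hf] at h1
    exact absurd ((Nat.pow_le_pow_iff_right (Fact.out : r.Prime).one_lt).1 h1) hlt
  have h2k : (f : ℕ) ∣ k * 2 := by
    rw [← hfull]
    exact orderOf_dvd_of_pow_eq_one (by rw [pow_mul, hk, hσ2])
  have hnk : ¬ (f : ℕ) ∣ k := fun h => hσ1 (by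
    rw [← hk]; exact orderOf_dvd_iff_pow_eq_one.1 (hfull ▸ h))
  obtain ⟨j, hj⟩ := h2k
  obtain ⟨e, he⟩ : 2 ∣ (f : ℕ) := by
    by_contra hodd
    refine hnk ((Nat.Coprime.dvd_of_dvd_mul_right ?_) ⟨j, hj⟩)
    exact ((Nat.prime_two.coprime_iff_not_dvd).2 hodd).symm
  have he1 : 1 ≤ e := by have := f.pos; omega
  refine ⟨e, he1, by rw [hf, he, mul_comm], fun t => ?_⟩
  have hjk : k = e * j := by
    rw [he, mul_assoc] at hj
    omega
  obtain ⟨i, rfl⟩ : ∃ i, j = 2 * i + 1 := by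
    rcases Nat.even_or_odd j with ⟨i, rfl⟩ | ⟨i, rfl⟩
    · exact absurd ⟨i, by rw [hjk, he]; ring⟩ hnk
    · exact ⟨i, rfl⟩
  rw [← hρ₀ e, ← hk, hjk, show e * (2 * i + 1) = (f : ℕ) * i + e by rw [he]; ring, pow_add, pow_mul, hρf, one_pow,
    one_mul]

/-- A twisted form with nontrivial field part is standard. -/
theorem graph_field_conj {r : ℕ} [Fact r.Prime] [CharP F r] (h2 : r ≠ 2) {β : MulAut (chevE6.group F)}
    {σ : F ≃+* F} (hσ : ∀ t, σ (σ t) = t) (hσ1 : σ ≠ 1) {x : chevE6.group F} {χ : ℕ → Fˣ}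
    (hχ : chevE6.IsRootCharacter χ)
    (hβ : ∀ k : chevE6.group F, ((β k : chevE6.group F) : GL chevE6.Idx F) =
      (x : GL chevE6.Idx F) * charUnit chevE6 χ * theta σ false k * ((x : GL chevE6.Idx F) * charUnit chevE6 χ)⁻¹)
    (haa : (x : GL chevE6.Idx F) * charUnit chevE6 χ *
      theta σ false ((x : GL chevE6.Idx F) * charUnit chevE6 χ) = 1) :
    ∃ α : MulAut (chevE6.group F), α * β * α⁻¹ = thetaAut σ false hσ := by
  obtain ⟨e, he, hcard, hσe⟩ := exists_frobenius hlist hσ hσ1 (r := r)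
  let K := AlgebraicClosure F
  haveI : CharP K r := charP_of_injective_algebraMap (algebraMap F K).injective r
  let ι := algebraMap F K
  let φ : K →+* K := iterateFrobenius K r e
  have hφ : ∀ z, φ z = z ^ r ^ e := fun z => iterateFrobenius_def ..
  have h2K : (2 : K) ≠ 0 := fun h0 => h2 ((Nat.prime_dvd_prime_iff_eq Fact.out Nat.prime_two).1
    ((CharP.cast_eq_zero_iff K r 2).1 (by exact_mod_cast h0)))
  set a := (x : GL chevE6.Idx F) * charUnit chevE6 χ with ha
  have hcomp : φ.comp ι = ι.comp (σ : F →+* F) := RingHom.ext fun t => by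
    show φ (ι t) = ι (σ t)
    rw [hφ, hσe, map_pow]
  have haG : mapG chevE6 ι a ∈ chevE6.group K := by
    rw [ha, map_mul, mapG_charUnit]
    exact mul_mem (mapG_group_le e6Good ι ⟨_, x.2, rfl⟩)
      (charUnit_mem_group e6Good rootsE6 (isRootCharacter_map' hχ _))
  obtain ⟨g, hg, eg⟩ := exists_twisted_lang h2K he φ hφ haG
  have hfix : mapG chevE6 (φ.comp φ) g = g := by
    rw [← sigma_sigma φ hg, eg, map_mul, eg, ← mapG_sigma ι (σ : F →+* F) φ hcomp, ← theta_false, mul_assoc,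
      ← map_mul, haa, map_one, mul_one]
  obtain ⟨y, χ', hχ', rfl⟩ := exists_rational_split e6Good rootsE6 (φ.comp φ) (fun z => by
    rw [RingHom.comp_apply, hφ, hφ, ← pow_mul, ← pow_add, hcard]; congr 2; ring) hg hfix
  rw [← mapG_sigma ι (σ : F →+* F) φ hcomp, ← map_mul, ← theta_false] at eg
  refine conj_of_twisted hlist hσ (c := false) hβ y hχ' ?_
  rw [mapG_injective ι eg, show chiU F false = fun _ => (1 : Fˣ) from funext chiU_false, charUnit_one]
  exact mul_inv_cancel _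

end Cfsg.Agent.ChevBalance.E6
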