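import Cfsg.Agent.Lib.ChevBalance.CaseA
import Cfsg.Agent.Lib.ChevAut.OutGroups

/-!
# Automorphisms of prime order moving the diagram

`moving_cases` : the type is G₂ or E₆ with `p = 2`, or D₄ with `p ∈ {2, 3}`.
-/

set_option autoImplicit false
set_option linter.style.haveILetI false

namespace Cfsg.Agent.ChevBalance

open Cfsg Cfsg.Lie Cfsg.Lie.ChevalleyDatum Cfsg.Agent.Chev Cfsg.Agent.ChevBN Cfsg.Agent.ChevSt
  Cfsg.Agent.ChevAut Cfsg.Agent.ChevFixed

universe u

variable {F : Type u} [Field F] [Fintype F]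

theorem fin_two_eq {n : ℕ} (hn : n = 2) {π : Equiv.Perm (Fin n)} (hπ : π ≠ 1) (i : Fin n) :
    (π i).val = 1 - i.val := by
  subst hn
  revert i hπ π
  decide

theorem range_one_F4 {r : ℕ} [Fact r.Prime] [CharP F r] (h2 : r ≠ 2) {M : List (List ℤ)} {d : ℤ} (hD : Good chevF4)
    (hR : Roots chevF4 M d) (hlist : chevF4 ∈ [chevG2, chevB2, chevD4, chevF4, chevE6, chevE7, chevE8])
    {π : Equiv.Perm (Fin chevF4.rank)} (hπ : π ∈ (permOut (F := F) hD hR hlist).range) : π = 1 := by
  obtain ⟨hr, hb, hl1, hl2⟩ := f4_data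
  by_contra hne
  have hl := mem_symList (range_symmetry hD hR hlist hπ)
  rw [symF4] at hl
  simp only [List.mem_cons, List.not_mem_nil, or_false] at hl
  have hval : ∀ (L : List ℕ), List.ofFn (fun i => (π i).val) = L → ∀ i : Fin chevF4.rank,
      (π i).val = L.getD i.val 0 := by
    intro L hL i
    rw [← hL, List.getD_eq_getElem _ _ (by simp)]
    simp
  rcases hl with h | h
  · apply hne
    refine Equiv.ext fun i => Fin.ext ?_
    rw [hval _ h i]
    have key : ∀ k, k < 4 → ([0, 1, 2, 3] : List ℕ).getD k 0 = k := by decide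
    exact key i.val (hr ▸ i.isLt)
  · let i : Fin chevF4.rank := ⟨1, by omega⟩
    let j : Fin chevF4.rank := ⟨2, by omega⟩
    have hi : (π i).val = 2 := by rw [hval _ h i]; rfl
    have hj : (π j).val = 1 := by rw [hval _ h j]; rfl
    have := char_of_swap_mem hD hR hlist diagF4 hπ (i := i) (j := j)
      (fun e => absurd (congrArg Fin.val e) (by simp [i, j]))
      (by show (2 : ℤ) ≤ chevF4.bonds 1 2; rw [hb]) hl1 hl2
      (by rw [hi]; exact hl2) (by rw [hj]; exact hl1)
    rw [ringChar.eq F r, show chevF4.bonds i j = 2 from hb] at this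
    exact h2 (by exact_mod_cast this)

theorem b2_data : chevB2.rank = 2 ∧ chevB2.bonds 0 1 = 2 ∧ chevB2.bonds 1 0 = 2 ∧
    chevB2.isLong (chevB2.simple 0) ≠ chevB2.isLong (chevB2.simple 1) := by decide +kernel

theorem range_one_B2 {r : ℕ} [Fact r.Prime] [CharP F r] (h2 : r ≠ 2) {M : List (List ℤ)} {d : ℤ} (hD : Good chevB2)
    (hR : Roots chevB2 M d) (hlist : chevB2 ∈ [chevG2, chevB2, chevD4, chevF4, chevE6, chevE7, chevE8])
    {π : Equiv.Perm (Fin chevB2.rank)} (hπ : π ∈ (permOut (F := F) hD hR hlist).range) : π = 1 := by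
  obtain ⟨hr, hb, hb', hl⟩ := b2_data
  by_contra hne
  have hv := fin_two_eq hr hne
  let i : Fin chevB2.rank := ⟨0, by omega⟩
  let j : Fin chevB2.rank := ⟨1, by omega⟩
  have hπi : π i = j := Fin.ext (hv i)
  have hπj : π j = i := Fin.ext (hv j)
  have hij : i ≠ j := fun e => absurd (congrArg Fin.val e) (by simp [i, j])
  rcases hc : chevB2.isLong (chevB2.simple i) with _ | _
  · have hlj : chevB2.isLong (chevB2.simple j) = true := by
      have h := hl
      rw [show chevB2.isLong (chevB2.simple 0) = false from hc] at h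
      simpa using h
    have := char_of_swap_mem hD hR hlist diagB2 hπ (i := i) (j := j) hij
      (by show (2 : ℤ) ≤ chevB2.bonds 0 1; rw [hb]) hc hlj (by rw [hπi]; exact hlj) (by rw [hπj]; exact hc)
    rw [ringChar.eq F r, show chevB2.bonds i j = 2 from hb] at this
    exact h2 (by exact_mod_cast this)
  · have hlj : chevB2.isLong (chevB2.simple j) = false := by
      have h := hl
      rw [show chevB2.isLong (chevB2.simple 0) = true from hc] at h
      simpa using h
    have := char_of_swap_mem hD hR hlist diagB2 hπ (i := j) (j := i) (Ne.symm hij)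
      (by show (2 : ℤ) ≤ chevB2.bonds 1 0; rw [hb']) hlj hc (by rw [hπj]; exact hc) (by rw [hπi]; exact hlj)
    rw [ringChar.eq F r, show chevB2.bonds j i = 2 from hb'] at this
    exact h2 (by exact_mod_cast this)

theorem orderOf_perm {D : ChevalleyDatum} {M : List (List ℤ)} {d : ℤ} (hD : Good D) (hR : Roots D M d)
    (hlist : D ∈ [chevG2, chevB2, chevD4, chevF4, chevE6, chevE7, chevE8]) {p : ℕ} [Fact p.Prime]
    {β : MulAut (D.group F)} (hβ : β ^ p = 1) (h : permHom hD hR hlist β ≠ 1) :
    orderOf (permHom hD hR hlist β) = p ∧ p ∣ Nat.card (permOut (F := F) hD hR hlist).range ∧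
      permHom hD hR hlist β ∈ (permOut (F := F) hD hR hlist).range := by
  have hmem : permHom hD hR hlist β ∈ (permOut (F := F) hD hR hlist).range := ⟨QuotientGroup.mk β, rfl⟩
  have ho : orderOf (permHom hD hR hlist β) = p := orderOf_eq_prime (by rw [← map_pow, hβ, map_one]) h
  exact ⟨ho, ho ▸ Subgroup.orderOf_dvd_natCard _ hmem, hmem⟩

/-- The types with an automorphism of prime order, not the characteristic, moving the diagram. -/
theorem moving_cases {D : ChevalleyDatum} {M : List (List ℤ)} {d : ℤ} (hD : Good D) (hR : Roots D M d)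
    (hlist : D ∈ [chevG2, chevB2, chevD4, chevF4, chevE6, chevE7, chevE8]) {r : ℕ} [Fact r.Prime] [CharP F r]
    {p : ℕ} [Fact p.Prime] (hpr : p ≠ r) {β : MulAut (D.group F)} (hβ : β ^ p = 1)
    (h : permHom hD hR hlist β ≠ 1) :
    (D = chevG2 ∧ p = 2) ∨ (D = chevE6 ∧ p = 2) ∨ (D = chevD4 ∧ (p = 2 ∨ p = 3)) := by
  obtain ⟨-, hd, hmem⟩ := orderOf_perm hD hR hlist hβ h
  have hp : p.Prime := Fact.out
  have hle := card_range_le (F := F) hD hR hlist
  have hpos : 0 < Nat.card (permOut (F := F) hD hR hlist).range := Nat.card_pos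
  have hp2 : (symList D D.rank).length ≤ 2 → p = 2 := fun hl => by
    have h1 := Nat.le_of_dvd hpos hd
    have h2 := hp.two_le
    omega
  have hcases := hlist
  simp only [List.mem_cons, List.not_mem_nil, or_false] at hcases
  rcases hcases with rfl | rfl | rfl | rfl | rfl | rfl | rfl
  · exact .inl ⟨rfl, hp2 (by rw [symG2]; rfl)⟩
  · have e := hp2 (by rw [symB2])
    exact absurd (range_one_B2 (r := r) (fun hr => hpr (e.trans hr.symm)) hD hR hlist hmem) h
  · refine .inr (.inr ⟨rfl, ?_⟩)
    have h1 : p ∣ Nat.card (Equiv.Perm (Fin chevD4.rank)) := hd.trans (Subgroup.card_subgroup_dvd_card _)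
    have hr4 : chevD4.rank = 4 := by decide +kernel
    rw [Nat.card_perm, Nat.card_fin, hr4] at h1
    have h3 : p ≤ 4 := hp.dvd_factorial.1 h1
    have h4 := hp.two_le
    interval_cases p <;> first | exact .inl rfl | exact .inr rfl | exact absurd hp (by norm_num)
  · have e := hp2 (by rw [symF4]; rfl)
    exact absurd (range_one_F4 (r := r) (fun hr => hpr (e.trans hr.symm)) hD hR hlist hmem) h
  · exact .inr (.inl ⟨rfl, hp2 (by rw [symE6])⟩)
  · rw [card_range_eq_one hD hR hlist symE7, Nat.dvd_one] at hd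
    exact absurd hd hp.ne_one
  · rw [card_range_eq_one hD hR hlist symE8, Nat.dvd_one] at hd
    exact absurd hd hp.ne_one

end Cfsg.Agent.ChevBalance
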