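import Cfsg.Agent.Lib.ChevBalance.Rigid
import Cfsg.Agent.Lib.ChevBalance.Shorten
import Cfsg.Agent.Lib.ChevBalance.Perm
import Cfsg.Agent.Lib.Chev.SylowU

/-!
# Automorphisms permuting the fundamental root subgroups, seen in the matrix group

* `extGL`, `sym_extGL` : such an automorphism is a symmetry of the root group data;
* `map_Udel` : it permutes the subgroups `Udel`;
* `odd_Upos` : in odd characteristic `U` has odd order;
* `exists_standard_involution` : an automorphism of order two is conjugate to one permuting the fundamental root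
  subgroups, provided the rank one steps can be made.
-/

set_option autoImplicit false
set_option linter.style.haveILetI false

namespace Cfsg.Agent.RGD.RootData

variable {Γ : Type*} [Group Γ] {Φ I : Type*} (R : RootData Γ Φ I)

/-- `Udel` is the part of `U` staying positive under the fundamental reflection. -/
theorem mem_Udel_iff (i : I) {z : Γ} : z ∈ R.Udel i ↔ z ∈ R.Upos ∧ R.n i * z * (R.n i)⁻¹ ∈ R.Upos := by
  refine ⟨fun h => ⟨R.Udel_le_Upos i h, R.Udel_le_Upos i (R.n_conj_Udel i _ h)⟩, fun ⟨h1, h2⟩ => ?_⟩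
  obtain ⟨k, hk, a, ha, rfl⟩ := R.exists_Upos (i := i) h1
  have h3 : R.n i * a * (R.n i)⁻¹ ∈ R.Upos := by
    have e : R.n i * a * (R.n i)⁻¹ = (R.n i * k * (R.n i)⁻¹)⁻¹ * (R.n i * (k * a) * (R.n i)⁻¹) := by group
    rw [e]
    exact mul_mem (inv_mem (R.Udel_le_Upos i (R.n_conj_Udel i _ hk))) h2
  have h4 : R.n i * a * (R.n i)⁻¹ ∈ R.Vneg := by
    refine R.U_le_Vneg ?_ (R.n_conj_U i _ a ha)
    rw [R.w_simple, R.pos_neg]
    exact not_not_intro (R.pos_simple i)
  rw [conj_eq_one_iff.1 (R.eq_one_of_B_Vneg (R.Upos_le_B h3) h4), mul_one]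
  exact hk

variable {R}

theorem Sym.map_Udel {θ : Γ → Γ} {π : I → I} (hθ : R.Sym θ π) (i : I) {z : Γ} (hz : z ∈ R.Udel i) :
    θ z ∈ R.Udel (π i) := by
  have hzU := R.Udel_le_Upos i hz
  have hzG : z ∈ R.G := R.B_le_G (R.Upos_le_B hzU)
  have hnG : R.n i ∈ R.G := R.N_le_G (R.n_mem_N i)
  rw [R.mem_Udel_iff]
  refine ⟨hθ.map_Upos _ hzU, ?_⟩
  have h1 := hθ.map_Upos _ ((R.mem_Udel_iff i).1 hz).2
  obtain ⟨k, hk, e⟩ := hθ.map_n i
  rw [hθ.map_mul _ (mul_mem hnG hzG) _ (inv_mem hnG), hθ.map_mul _ hnG _ hzG, hθ.map_inv hnG, e] at h1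
  rw [show R.n (π i) * θ z * (R.n (π i))⁻¹ = k⁻¹ * (k * R.n (π i) * θ z * (k * R.n (π i))⁻¹) * k⁻¹⁻¹ by group]
  exact R.H_conj_span _ (inv_mem hk) _ h1

end Cfsg.Agent.RGD.RootData

namespace Cfsg.Agent.ChevBalance

open Cfsg Cfsg.Lie Cfsg.Lie.ChevalleyDatum Cfsg.Agent.Chev Cfsg.Agent.ChevBN Cfsg.Agent.ChevSt
  Cfsg.Agent.ChevAut Cfsg.Agent.ChevFixed Cfsg.Agent.LocalBalance

variable {D : ChevalleyDatum} {F : Type*} [Field F]

open Classical in
/-- An automorphism of the group as a map of matrices. -/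
noncomputable def extGL (θ : MulAut (D.group F)) (g : GL D.Idx F) : GL D.Idx F :=
  if h : g ∈ D.group F then ((θ ⟨g, h⟩ : D.group F) : GL D.Idx F) else g

theorem extGL_of_mem (θ : MulAut (D.group F)) {g : GL D.Idx F} (h : g ∈ D.group F) :
    extGL θ g = ((θ ⟨g, h⟩ : D.group F) : GL D.Idx F) := dif_pos h

theorem extGL_coe (θ : MulAut (D.group F)) (y : D.group F) :
    extGL θ (y : GL D.Idx F) = ((θ y : D.group F) : GL D.Idx F) := extGL_of_mem θ y.2

variable {M : List (List ℤ)} {d : ℤ} (hD : Good D) (hR : Roots D M d) [Finite F]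

include hD hR

local notation "RR" => chevRGD hD hR F

theorem sym_extGL {θ : MulAut (D.group F)} {π : Equiv.Perm (Fin D.rank)} (h : Fix θ π) :
    (RR).Sym (extGL θ) π := by
  have hG : (RR).G = D.group F := chev_G hD hR
  obtain ⟨hU, hV⟩ := h.maps_pair hD hR
  constructor
  · intro x hx
    rw [hG] at hx ⊢
    rw [extGL_of_mem θ hx]
    exact SetLike.coe_mem _
  · intro x hx y hy
    rw [hG] at hx hy
    rw [extGL_of_mem θ (mul_mem hx hy), extGL_of_mem θ hx, extGL_of_mem θ hy,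
      show (⟨x * y, mul_mem hx hy⟩ : D.group F) = ⟨x, hx⟩ * ⟨y, hy⟩ from rfl, map_mul, Subgroup.coe_mul]
  · intro x hx e
    rw [hG] at hx
    rw [extGL_of_mem θ hx] at e
    have h1 : θ ⟨x, hx⟩ = θ 1 := by rw [map_one]; exact Subtype.ext e
    exact congrArg Subtype.val (θ.injective h1)
  · intro x hx
    have hxG : x ∈ D.group F := hG ▸ (RR).B_le_G ((RR).H_le_B hx)
    rw [extGL_of_mem θ hxG]
    exact h.maps_H hD hR hx
  · intro x hx
    have hxG : x ∈ D.group F := hG ▸ (RR).B_le_G ((RR).Upos_le_B hx)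
    rw [extGL_of_mem θ hxG]
    exact (hU _).1 hx
  · intro x hx hxG
    rw [hG] at hxG
    rw [extGL_of_mem θ hxG]
    exact (hV _).1 hx
  · intro i x hx
    have hxG : x ∈ D.group F := rootSubgroup_le_group hD _ hx
    rw [extGL_of_mem θ hxG]
    exact ((h i).1 _).1 hx
  · intro i
    obtain ⟨b, hb, hn⟩ := h.n_image hD hR i (one_ne_zero : (1 : F) ≠ 0)
    have hnG : (RR).n i ∈ D.group F := hG ▸ (RR).N_le_G ((RR).n_mem_N i)
    refine ⟨hg hD F (D.simple (π i).val) b,
      Subgroup.subset_closure ⟨_, _, hD.simple_lt _ (π i).isLt, hb, coe_hg hD _ _⟩, ?_⟩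
    rw [extGL_of_mem θ hnG, hn ⟨(RR).n i, hnG⟩ rfl, RankOne.ng_eq_hg_mul hD]
    rfl

/-- In odd characteristic the elements of `U` have odd order. -/
theorem odd_Upos {r : ℕ} [Fact r.Prime] [CharP F r] (h2 : r ≠ 2) :
    Odd (Nat.card (RR).Upos) := by
  haveI := Fintype.ofFinite F
  obtain ⟨k, hk⟩ := IsPGroup.iff_card.1 ((chev_Upos hD hR (F := F)).symm ▸ BT.isPGroup_pos r hD :
    IsPGroup r (RR).Upos)
  rw [hk]
  exact ((Fact.out : r.Prime).odd_of_ne_two h2).pow

omit hD hR [Finite F] in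
theorem exists_odd_pow {G : Type*} [Group G] {S : Subgroup G} (h : Odd (Nat.card S)) {v : G} (hv : v ∈ S) :
    ∃ n, Odd n ∧ v ^ n = 1 :=
  ⟨_, h, congrArg Subtype.val (pow_card_eq_one' (x := (⟨v, hv⟩ : S)))⟩

variable (hlist : D ∈ [chevG2, chevB2, chevD4, chevF4, chevE6, chevE7, chevE8])
include hlist

/-- An automorphism of order two moving the diagram is conjugate to one permuting the fundamental root subgroups. -/
theorem exists_standard_involution {r : ℕ} [Fact r.Prime] [CharP F r] (h2 : r ≠ 2) {β : MulAut (D.group F)}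
    (hβ : β ^ 2 = 1) (hstep : ∀ θ : MulAut (D.group F), Fix θ (permHom hD hR hlist β) →
      (RR).RankOneStep (extGL θ) (permHom hD hR hlist β)) :
    ∃ α θ : MulAut (D.group F), Fix θ (permHom hD hR hlist β) ∧ θ ^ 2 = 1 ∧ α * β * α⁻¹ = θ := by
  have hG : (RR).G = D.group F := chev_G hD hR
  obtain ⟨π₁, -, x, hx⟩ := exists_fix hD hR hlist β
  obtain rfl : permHom hD hR hlist β = π₁ := permHom_eq hD hR hlist hx
  set π := permHom hD hR hlist β
  set θ : MulAut (D.group F) := MulAut.conj x * β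
  have hθ : Fix θ π := hx
  have hπ : π * π = 1 := by rw [← sq, ← map_pow, hβ, map_one]
  have hπi : ∀ i, π (π i) = i := fun i => Equiv.congr_fun hπ i
  have eβ : β = MulAut.conj x⁻¹ * θ := by
    simp only [θ, map_inv, inv_mul_cancel_left]
  have hθ2 : Fix (θ * θ) 1 := hπ ▸ hθ.trans hθ
  -- the conjugates
  have hkey : ∀ g : D.group F,
      MulAut.conj g * β * (MulAut.conj g)⁻¹ = MulAut.conj (g * x⁻¹ * (θ g)⁻¹) * θ := fun g => by
    rw [eβ, map_mul, map_mul, ← map_inv MulAut.conj g, ← map_inv θ, ← apply_conj θ g⁻¹]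
    group
  have hall : ∀ g : D.group F,
      (((g * x⁻¹ * (θ g)⁻¹) * θ (g * x⁻¹ * (θ g)⁻¹) : D.group F) : GL D.Idx F) ∈ D.diagonalSubgroup F := by
    intro g
    set a := g * x⁻¹ * (θ g)⁻¹
    have h1 : (MulAut.conj a * θ) * (MulAut.conj a * θ) = 1 := by
      rw [← hkey, ← sq, conj_pow, hβ, mul_one, mul_inv_cancel]
    have h3 : MulAut.conj (a * θ a) * (θ * θ) = 1 := by
      rw [map_mul, ← apply_conj θ a, ← h1]
      group
    have h4 : MulAut.conj (a * θ a) = (θ * θ)⁻¹ := eq_inv_of_mul_eq_one_left h3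
    have h5 : Fix (MulAut.conj (a * θ a)) 1 := by
      rw [h4, ← inv_one]; exact hθ2.symm
    exact (mem_H_of_fix hD hR h5).1
  have hodd := odd_Upos hD hR (F := F) h2
  obtain ⟨g, hg, hH⟩ := RGD.RootData.exists_torus_form (RR) (sym_extGL hD hR hθ) hπi (hstep θ hθ)
    (fun v hv => exists_odd_pow hodd hv) (a := ((x⁻¹ : D.group F) : GL D.Idx F))
    (by rw [hG]; exact SetLike.coe_mem _) fun g hg => by
      rw [hG] at hg
      lift g to D.group F using hg
      rw [extGL_coe, ← InvMemClass.coe_inv (θ g), ← Subgroup.coe_mul, ← Subgroup.coe_mul, extGL_coe,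
        ← Subgroup.coe_mul]
      exact hall g
  rw [hG] at hg
  lift g to D.group F using hg
  rw [extGL_coe, ← InvMemClass.coe_inv (θ g), ← Subgroup.coe_mul, ← Subgroup.coe_mul] at hH
  refine ⟨MulAut.conj g, MulAut.conj g * β * (MulAut.conj g)⁻¹, ?_, by rw [conj_pow, hβ, mul_one, mul_inv_cancel], rfl⟩
  rw [hkey]
  have h := hθ.trans (fix_conj_diag hD (x := g * x⁻¹ * (θ g)⁻¹) hH)
  rw [one_mul] at h
  exact h

end Cfsg.Agent.ChevBalance
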