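import Cfsg.Agent.Lib.ChevBalance.E6Data
import Cfsg.Agent.Lib.ChevBalance.Swap
import Cfsg.Agent.Lib.ChevOrder.Weyl

/-!
# E₆: the graph involutions

* `theta σ c`, `thetaAut` : the involutions, `sym_theta`;
* `oel`, `nel` : root and monomial elements of an orbit;
* `fixed_form`, `fixed_split` : normal forms of the fixed elements;
* `mem_H_of_keeps` : a fixed monomial element keeping the good positive roots positive is diagonal.
-/

set_option autoImplicit false
set_option linter.style.haveILetI false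
set_option linter.unusedSectionVars false

namespace Cfsg.Agent.ChevBalance.E6

open Cfsg.Lie Cfsg.Lie.ChevalleyDatum Cfsg.Agent.Chev Cfsg.Agent.ChevBN Cfsg.Agent.ChevSt Cfsg.Agent.ChevAut
open Cfsg.Agent.TwistE6D4 (e6Twist e6Twist_ok e6Root_ok)
open Cfsg.Agent.ChevFoldF4 (R6 rhoF rhoF_rhoF rhoF_pos e6n pos_iff ww_eq_of_mem_H ww_map_pi mem_H_of_ww e6Good)

variable {K : Type*} [Field K]

/-- The sign character as units. -/
def chiU (K : Type*) [Field K] (c : Bool) (r : ℕ) : Kˣ := if c && coef2 r % 2 != 0 then -1 else 1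

theorem coe_chiU (c : Bool) (r : ℕ) : (chiU K c r : K) = (chiC c r : K) := by
  rw [chiU, chiC]; split_ifs <;> simp

theorem chiU_root (c : Bool) : chevE6.IsRootCharacter (chiU K c) := by
  refine ⟨fun r hr => ?_, fun r s k hr hs hk => Units.ext ?_⟩
  · have e : chiU K c (chevE6.neg r) = chiU K c r :=
      Units.ext (by rw [coe_chiU, coe_chiU, (sg_facts c ⟨r, hr⟩).2.2.2.2.2.2.1])
    rw [e, chiU]
    split_ifs <;> simp
  · rw [Units.val_mul, coe_chiU, coe_chiU, coe_chiU, chiC_add c ⟨r, hr⟩ ⟨s, hs⟩ k hk, Int.cast_mul]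

/-- The involution. -/
def theta (σ : K ≃+* K) (c : Bool) : GL chevE6.Idx K →* GL chevE6.Idx K :=
  (MulAut.conj (charUnit chevE6 (chiU K c))).toMonoidHom.comp (TwistE6D4.sigma e6Twist_ok (σ : K →+* K))

variable (σ : K ≃+* K) (c : Bool)

theorem theta_xg {r : ℕ} (hr : r < chevE6.nroots) (t : K) :
    theta σ c (xg e6Good K r t) = xg e6Good K (e6Twist.rho r) ((sg c r : K) * σ t) := by
  have h := TwistE6D4.sigma_gx e6Twist_ok e6Good (σ : K →+* K) hr t
  rw [← TwistE6D4.xg_eq, ← TwistE6D4.xg_eq] at h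
  show charUnit chevE6 (chiU K c) * TwistE6D4.sigma e6Twist_ok (σ : K →+* K) (xg e6Good K r t) *
    (charUnit chevE6 (chiU K c))⁻¹ = _
  rw [h, charUnit_conj e6Good (chiU_root c) (e6Twist_ok.rho_lt r hr), coe_chiU,
    (sg_facts c ⟨r, hr⟩).2.2.2.2.2.2.2, sg, Int.cast_mul]
  congr 1
  rw [RingEquiv.coe_toRingHom]
  ring

theorem sg_sq {r : ℕ} (hr : r < chevE6.nroots) : (sg c r : K) * (sg c r : K) = 1 := by
  rw [← Int.cast_mul, (sg_facts c ⟨r, hr⟩).1, Int.cast_one]

theorem sg_ne {r : ℕ} (hr : r < chevE6.nroots) : (sg c r : K) ≠ 0 := fun h => by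
  have := sg_sq (K := K) c hr
  rw [h, zero_mul] at this
  exact zero_ne_one this

theorem sg_rho {r : ℕ} (hr : r < chevE6.nroots) : (sg c (e6Twist.rho r) : K) * (sg c r : K) = 1 := by
  rw [← Int.cast_mul, (sg_facts c ⟨r, hr⟩).2.1, Int.cast_one]

theorem sg_inv {r : ℕ} (hr : r < chevE6.nroots) : (sg c r : K)⁻¹ = (sg c r : K) :=
  inv_eq_of_mul_eq_one_right (sg_sq c hr)

theorem theta_ng {r : ℕ} (hr : r < chevE6.nroots) (t : K) :
    theta σ c (ng e6Good K r t) = ng e6Good K (e6Twist.rho r) ((sg c r : K) * σ t) := by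
  rw [ng, map_mul, map_mul, theta_xg σ c hr, theta_xg σ c (e6Good.neg_lt r hr), e6Twist_ok.rho_neg r hr,
    (sg_facts c ⟨r, hr⟩).2.2.1, ng, map_neg, map_inv₀, mul_inv, sg_inv c hr, mul_neg]

theorem theta_mem {g : GL chevE6.Idx K} (hg : g ∈ chevE6.group K) : theta σ c g ∈ chevE6.group K := by
  induction hg using Subgroup.closure_induction with
  | mem x hx =>
    obtain ⟨r, t, e⟩ := hx
    obtain rfl : x = xg e6Good K r.val t := Units.ext (by rw [e]; simp [ChevalleyDatum.x])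
    rw [theta_xg σ c r.isLt]
    exact xg_mem_group e6Good _ _
  | one => simp [one_mem]
  | mul a b _ _ ha hb => rw [map_mul]; exact mul_mem ha hb
  | inv a _ ha => rw [map_inv]; exact inv_mem ha

theorem theta_theta (hσ : ∀ t, σ (σ t) = t) {g : GL chevE6.Idx K} (hg : g ∈ chevE6.group K) :
    theta σ c (theta σ c g) = g := by
  induction hg using Subgroup.closure_induction with
  | mem x hx =>
    obtain ⟨r, t, e⟩ := hx
    obtain rfl : x = xg e6Good K r.val t := Units.ext (by rw [e]; simp [ChevalleyDatum.x])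
    rw [theta_xg σ c r.isLt, theta_xg σ c (e6Twist_ok.rho_lt _ r.isLt), e6Twist_ok.rho_pow r.val r.isLt |>
      (fun h => show e6Twist.rho (e6Twist.rho r.val) = r.val from h), map_mul, hσ, map_intCast, ← mul_assoc,
      sg_rho c r.isLt, one_mul]
  | one => simp
  | mul a b _ _ ha hb => rw [map_mul, map_mul, ha, hb]
  | inv a _ ha => rw [map_inv, map_inv, ha]

/-- The involution of the group. -/
def thetaAut (hσ : ∀ t, σ (σ t) = t) : MulAut (chevE6.group K) where
  toFun g := ⟨theta σ c g, theta_mem σ c g.2⟩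
  invFun g := ⟨theta σ c g, theta_mem σ c g.2⟩
  left_inv g := Subtype.ext (theta_theta σ c hσ g.2)
  right_inv g := Subtype.ext (theta_theta σ c hσ g.2)
  map_mul' a b := Subtype.ext (map_mul (theta σ c) a.1 b.1)

theorem coe_thetaAut (hσ : ∀ t, σ (σ t) = t) (g : chevE6.group K) :
    ((thetaAut σ c hσ g : chevE6.group K) : GL chevE6.Idx K) = theta σ c g := rfl

theorem thetaAut_sq (hσ : ∀ t, σ (σ t) = t) : thetaAut σ c hσ ^ 2 = 1 :=
  MulEquiv.ext fun g => by
    rw [sq, MulAut.mul_apply]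
    exact Subtype.ext (theta_theta σ c hσ g.2)

theorem theta_span {A : Set (Fin chevE6.nroots)} (hA : ∀ r ∈ A, rhoF r ∈ A) {x : GL chevE6.Idx K}
    (hx : x ∈ (R6 K).span A) : theta σ c x ∈ (R6 K).span A := by
  suffices h : (R6 K).span A ≤ ((R6 K).span A).comap (theta σ c) from h hx
  refine (R6 K).span_le fun r hr y hy => ?_
  obtain ⟨t, rfl⟩ := (mem_rootSubgroup e6Good _).1 hy
  rw [Subgroup.mem_comap, theta_xg σ c r.isLt]
  exact (R6 K).U_le_span (hA r hr) (xg_mem_rootSubgroup e6Good _ _)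

theorem theta_H {x : GL chevE6.Idx K} (hx : x ∈ chevE6.diagonalSubgroup K) :
    theta σ c x ∈ chevE6.diagonalSubgroup K := by
  induction hx using Subgroup.closure_induction with
  | mem x hx =>
    obtain ⟨r, t, hr, ht, e⟩ := hx
    obtain rfl : x = hg e6Good K r t := Units.ext (e.trans (coe_hg e6Good r t).symm)
    rw [hg, map_mul, theta_ng σ c hr, theta_ng σ c hr]
    exact ng_mul_mem e6Good _ (e6Twist_ok.rho_lt r hr) (mul_ne_zero (sg_ne c hr) (by simpa using ht))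
      (mul_ne_zero (sg_ne c hr) (by simp))
  | one => simp [one_mem]
  | mul a b _ _ ha hb => rw [map_mul]; exact mul_mem ha hb
  | inv a _ ha => rw [map_inv]; exact inv_mem ha

/-- The involution permutes the fundamental root subgroups by the symmetry. -/
theorem sym_theta (hσ : ∀ t, σ (σ t) = t) : (R6 K).Sym (theta σ c) e6Twist.pi := by
  have hG : (R6 K).G = chevE6.group K := chev_G e6Good rootsE6
  refine ⟨fun x hx => hG ▸ theta_mem σ c (hG ▸ hx), fun x _ y _ => map_mul _ x y, fun x hx e => ?_,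
    fun x hx => theta_H σ c hx, fun x hx => theta_span σ c (fun r hr => (rhoF_pos (K := K) r).2 hr) hx,
    fun x hx _ => theta_span σ c (fun r hr => mt (rhoF_pos (K := K) r).1 hr) hx, fun i x hx => ?_, fun i => ?_⟩
  · rw [hG] at hx
    rw [← theta_theta σ c hσ hx, e, map_one]
  · obtain ⟨t, rfl⟩ := (mem_rootSubgroup e6Good _).1 hx
    rw [show ((R6 K).simple i).val = chevE6.simple i.val from rfl, theta_xg σ c (e6Good.simple_lt _ i.isLt),
      e6Root_ok.simple_pi]
    exact xg_mem_rootSubgroup e6Good _ _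
  · have hi := e6Good.simple_lt _ i.isLt
    refine ⟨hg e6Good K (chevE6.simple (e6Twist.pi i).val) (sg c (chevE6.simple i.val) : K),
      Subgroup.subset_closure ⟨_, _, e6Good.simple_lt _ (e6Twist.pi i).isLt, sg_ne c hi, coe_hg e6Good _ _⟩, ?_⟩
    show theta σ c (ng e6Good K (chevE6.simple i.val) 1) = _ * ng e6Good K (chevE6.simple (e6Twist.pi i).val) 1
    rw [theta_ng σ c hi, map_one, mul_one, e6Root_ok.simple_pi, RankOne.ng_eq_hg_mul e6Good]

/-! ### Elements of an orbit -/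

/-- An element of the root subgroups of an orbit. -/
def oel (r : ℕ) (t : K) : GL chevE6.Idx K :=
  if e6Twist.rho r = r then xg e6Good K r t
  else xg e6Good K r t * xg e6Good K (e6Twist.rho r) ((sg c r : K) * σ t)

/-- A monomial element of an orbit. -/
def nel (r : ℕ) (t : K) : GL chevE6.Idx K :=
  if e6Twist.rho r = r then ng e6Good K r t
  else ng e6Good K r t * ng e6Good K (e6Twist.rho r) ((sg c r : K) * σ t)

/-- The parameters giving fixed elements. -/
def Par (r : ℕ) (t : K) : Prop := e6Twist.rho r = r → (sg c r : K) * σ t = t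

theorem par_good {r : ℕ} (hr : r < chevE6.nroots) (hb : bad c r = false) {t : K} (ht : σ t = t) :
    Par σ c r t := fun e => by
  rw [(sg_facts c ⟨r, hr⟩).2.2.2.1 e, hb, ht]
  simp

theorem par_neg {r : ℕ} (hr : r < chevE6.nroots) {t : K} (h : Par σ c r t) :
    Par σ c (chevE6.neg r) (-t⁻¹) := fun e => by
  have e' : e6Twist.rho r = r := by
    have h1 := e6Twist_ok.rho_neg r hr
    rw [e] at h1
    rw [← e6Good.neg_neg _ (e6Twist_ok.rho_lt r hr), ← h1, e6Good.neg_neg r hr]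
  rw [(sg_facts c ⟨r, hr⟩).2.2.1, map_neg, map_inv₀, mul_neg]
  conv_rhs => rw [← h e', mul_inv, sg_inv c hr]

theorem rho_neg_iff {r : ℕ} (hr : r < chevE6.nroots) :
    e6Twist.rho (chevE6.neg r) = chevE6.neg r ↔ e6Twist.rho r = r := by
  rw [e6Twist_ok.rho_neg r hr]
  exact ⟨fun e => by rw [← e6Good.neg_neg _ (e6Twist_ok.rho_lt r hr), e, e6Good.neg_neg r hr], fun e => by rw [e]⟩

theorem rho_rho {r : ℕ} (hr : r < chevE6.nroots) : e6Twist.rho (e6Twist.rho r) = r :=
  congrArg Fin.val (rhoF_rhoF ⟨r, hr⟩)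

theorem commute_orbit {r : ℕ} (hr : r < chevE6.nroots) (h : e6Twist.rho r ≠ r) (a b : K) :
    Commute (xg e6Good K r a) (xg e6Good K (e6Twist.rho r) b) ∧
      Commute (xg e6Good K r a) (xg e6Good K (chevE6.neg (e6Twist.rho r)) b) ∧
      Commute (xg e6Good K (e6Twist.rho r) a) (xg e6Good K (chevE6.neg r) b) := by
  obtain ⟨h1, h2, h3, h4, -, -⟩ := orth ⟨r, hr⟩ h
  have hρ := e6Twist_ok.rho_lt r hr
  simp only [TwistE6D4.xg_eq]
  refine ⟨TwistE6D4.commute_gx e6Good hr hρ h4 h1 a b,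
    TwistE6D4.commute_gx e6Good hr (e6Good.neg_lt _ hρ) (fun e => h ?_) h2 a b,
    TwistE6D4.commute_gx e6Good hρ (e6Good.neg_lt _ hr) (fun e => h ?_) h3 a b⟩
  · rw [← e6Good.neg_neg _ hρ, e, e6Good.neg_neg r hr]
  · exact (e6Good.neg_neg _ hρ).symm.trans ((congrArg chevE6.neg e.symm).trans (e6Good.neg_neg r hr))

theorem oel_fix (hσ : ∀ t, σ (σ t) = t) {r : ℕ} (hr : r < chevE6.nroots) {t : K} (h : Par σ c r t) :
    theta σ c (oel σ c r t) = oel σ c r t := by
  rw [oel]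
  split_ifs with e
  · rw [theta_xg σ c hr, e, h e]
  · rw [map_mul, theta_xg σ c hr, theta_xg σ c (e6Twist_ok.rho_lt r hr), rho_rho hr, map_mul, hσ,
      map_intCast, ← mul_assoc, sg_rho c hr, one_mul, ((commute_orbit hr e _ _).1).eq]

theorem oel_mem {r : Fin chevE6.nroots} {A : Set (Fin chevE6.nroots)} (h1 : r ∈ A) (h2 : rhoF r ∈ A) (t : K) :
    oel σ c r.val t ∈ (R6 K).span A := by
  rw [oel]
  split_ifs
  · exact (R6 K).U_le_span h1 (xg_mem_rootSubgroup e6Good _ _)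
  · exact mul_mem ((R6 K).U_le_span h1 (xg_mem_rootSubgroup e6Good _ _))
      ((R6 K).U_le_span h2 (xg_mem_rootSubgroup e6Good (rhoF r).val _))

theorem oel_mem_group (r : ℕ) (t : K) : oel σ c r t ∈ chevE6.group K := by
  rw [oel]
  split_ifs
  · exact xg_mem_group e6Good _ _
  · exact mul_mem (xg_mem_group e6Good _ _) (xg_mem_group e6Good _ _)

theorem nel_eq {r : ℕ} (hr : r < chevE6.nroots) (t : K) :
    nel σ c r t = oel σ c r t * oel σ c (chevE6.neg r) (-t⁻¹) * oel σ c r t := by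
  by_cases e : e6Twist.rho r = r
  · rw [nel, oel, oel, if_pos e, if_pos e, if_pos ((rho_neg_iff hr).2 e), ng]
  rw [nel, oel, oel, if_neg e, if_neg e, if_neg (mt (rho_neg_iff hr).1 e), e6Twist_ok.rho_neg r hr,
    (sg_facts c ⟨r, hr⟩).2.2.1]
  set s := (sg c r : K) * σ t
  have es : (sg c r : K) * σ (-t⁻¹) = -s⁻¹ := by
    simp only [s, map_neg, map_inv₀, mul_inv, sg_inv c hr, mul_neg]
  rw [es, ng, ng]
  set a := xg e6Good K r t
  set b := xg e6Good K (chevE6.neg r) (-t⁻¹)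
  set a' := xg e6Good K (e6Twist.rho r) s
  set b' := xg e6Good K (chevE6.neg (e6Twist.rho r)) (-s⁻¹)
  have c1 : a * a' = a' * a := (commute_orbit hr e _ _).1.eq
  have c2 : a * b' = b' * a := (commute_orbit hr e _ _).2.1.eq
  have c3 : a' * b = b * a' := (commute_orbit hr e _ _).2.2.eq
  calc a * b * a * (a' * b' * a') = a * b * (a * a') * b' * a' := by group
    _ = a * (b * a') * (a * b') * a' := by rw [c1]; group
    _ = a * a' * b * b' * (a * a') := by rw [← c3, c2]; group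
    _ = a * a' * (b * b') * (a * a') := by group

theorem nel_fix (hσ : ∀ t, σ (σ t) = t) {r : ℕ} (hr : r < chevE6.nroots) {t : K} (h : Par σ c r t) :
    theta σ c (nel σ c r t) = nel σ c r t := by
  rw [nel_eq σ c hr, map_mul, map_mul, oel_fix σ c hσ hr h, oel_fix σ c hσ (e6Good.neg_lt r hr) (par_neg σ c hr h)]

theorem nel_mem_group {r : ℕ} (hr : r < chevE6.nroots) (t : K) : nel σ c r t ∈ chevE6.group K := by
  rw [nel_eq σ c hr]
  exact mul_mem (mul_mem (oel_mem_group σ c _ _) (oel_mem_group σ c _ _)) (oel_mem_group σ c _ _)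

theorem ng_mem_N {r : ℕ} (hr : r < chevE6.nroots) {t : K} (ht : t ≠ 0) : ng e6Good K r t ∈ (R6 K).N := by
  rw [RankOne.ng_eq_hg_mul e6Good]
  exact mul_mem ((R6 K).H_le_N (Subgroup.subset_closure ⟨r, t, hr, ht, coe_hg e6Good _ _⟩))
    (ng_mem_monomial e6Good rootsE6 hr)

theorem nel_mem_N {r : ℕ} (hr : r < chevE6.nroots) {t : K} (ht : t ≠ 0) : nel σ c r t ∈ (R6 K).N := by
  rw [nel]
  split_ifs
  · exact ng_mem_N hr ht
  · exact mul_mem (ng_mem_N hr ht) (ng_mem_N (e6Twist_ok.rho_lt r hr) (mul_ne_zero (sg_ne c hr) (by simpa using ht)))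

theorem ng_conj {r s : ℕ} (hr : r < chevE6.nroots) (hs : s < chevE6.nroots) {t : K} (ht : t ≠ 0) (u : K) :
    ∃ v : K, ng e6Good K r t * xg e6Good K s u * (ng e6Good K r t)⁻¹ = xg e6Good K (Chev.refl chevE6 r s) v := by
  refine ⟨(nSign chevE6 r s : K) * t ^ (-chevE6.pairing r s) * u, ?_⟩
  rw [mul_inv_eq_iff_eq_mul]
  exact Units.ext (by rw [Units.val_mul, Units.val_mul, coe_ng, coe_xg, coe_xg, nMat_conj e6Good hr hs ht])

theorem nel_conj {r s : ℕ} (hr : r < chevE6.nroots) (hs : s < chevE6.nroots) {t : K} (ht : t ≠ 0) (u : K) :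
    ∃ v : K, nel σ c r t * xg e6Good K s u * (nel σ c r t)⁻¹ =
      xg e6Good K ((orbL r).foldr (Chev.refl chevE6) s) v := by
  rw [nel, orbL]
  split_ifs
  · exact ng_conj hr hs ht u
  · have hρ := e6Twist_ok.rho_lt r hr
    obtain ⟨v, hv⟩ := ng_conj hρ hs (mul_ne_zero (sg_ne c hr) (show σ t ≠ 0 by simpa using ht)) u
    obtain ⟨w, hw⟩ := ng_conj hr (refl_lt e6Good hρ hs) ht v
    refine ⟨w, ?_⟩
    rw [show ∀ a b x : GL chevE6.Idx K, a * b * x * (a * b)⁻¹ = a * (b * x * b⁻¹) * a⁻¹ from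
      fun a b x => by group, hv, hw]
    rfl

/-- Two root subgroups meet trivially. -/
theorem eq_of_mem {r s : Fin chevE6.nroots} {x : GL chevE6.Idx K} (hr : x ∈ (R6 K).U r) (hs : x ∈ (R6 K).U s)
    (hx : x ≠ 1) : r = s := by
  obtain ⟨a, rfl⟩ := (mem_rootSubgroup e6Good _).1 hr
  obtain ⟨b, hb⟩ := (mem_rootSubgroup e6Good _).1 hs
  have ha : a ≠ 0 := fun h => hx (by rw [h, xg_zero])
  exact Fin.ext (ChevOrder.xg_eq_xg e6Good r.isLt s.isLt ha hb)

theorem xg_ne_one {r : ℕ} (hr : r < chevE6.nroots) {t : K} (ht : t ≠ 0) : xg e6Good K r t ≠ 1 :=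
  fun h => ht (xg_eq_one e6Good hr h)

/-- The roots seen by a monomial element. -/
theorem ww_of_conj {n h : GL chevE6.Idx K} {l : List (Fin chevE6.rank)} (hh : h ∈ (R6 K).H)
    (e : n = h * (R6 K).nw l) {r s : Fin chevE6.nroots} (hc : n * xg e6Good K r.val 1 * n⁻¹ ∈ (R6 K).U s) :
    (R6 K).ww l r = s :=
  eq_of_mem ((R6 K).conj_U_mem ((R6 K).map_conj_H_nw hh l r) (xg_mem_rootSubgroup e6Good _ _))
    (e ▸ hc) fun h1 => xg_ne_one r.isLt one_ne_zero (conj_eq_one_iff.1 h1)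

/-! ### Fixed elements -/

/-- The normal form of an element fixed up to `B`. -/
theorem fixed_form (hσ : ∀ t, σ (σ t) = t) {g b0 : GL chevE6.Idx K} (hg : g ∈ chevE6.group K)
    (hb0 : b0 ∈ (R6 K).B) (e0 : theta σ c g = b0 * g) :
    ∃ b ∈ (R6 K).B, ∃ l, ∃ u ∈ (R6 K).Uminus l, g = b * (R6 K).nw l * u ∧ theta σ c u = u ∧ Comm K l := by
  have hS := sym_theta σ c hσ
  rw [← chev_G e6Good rootsE6] at hg
  obtain ⟨b, hb, l, u, hu, e⟩ := (R6 K).exists_normalForm hg
  obtain ⟨k, hk, ek⟩ := hS.map_nw l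
  have huB : u ∈ (R6 K).B := (R6 K).Upos_le_B ((R6 K).Uminus_le_Upos l hu)
  have eθ : theta σ c b * (k * (R6 K).nw (l.map e6Twist.pi)) * theta σ c u = b0 * b * (R6 K).nw l * u := by
    rw [← ek, ← map_mul, ← map_mul, ← e, e0, e]; group
  have hclass := (R6 K).mem_H_of_eq (mul_mem ((R6 K).H_le_N hk) ((R6 K).nw_mem_N _)) ((R6 K).nw_mem_N l)
    (hS.map_B hb) (hS.map_B huB) (mul_mem hb0 hb) huB eθ
  have h2 : ((R6 K).nw (l.map e6Twist.pi))⁻¹ * (R6 K).nw l ∈ (R6 K).H := by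
    have h1 := mul_mem ((R6 K).nw_conj_H' (l.map e6Twist.pi) hk) hclass
    rwa [show ((R6 K).nw (l.map e6Twist.pi))⁻¹ * k * (R6 K).nw (l.map e6Twist.pi) *
      ((k * (R6 K).nw (l.map e6Twist.pi))⁻¹ * (R6 K).nw l) =
      ((R6 K).nw (l.map e6Twist.pi))⁻¹ * (R6 K).nw l by group] at h1
  have hcomm : Comm K l := fun q => by rw [ww_eq_of_mem_H h2, ww_map_pi]
  refine ⟨b, hb, l, u, hu, e, ?_, hcomm⟩
  have hu' : theta σ c u ∈ (R6 K).Uminus l :=
    theta_span σ c (A := {r | (R6 K).pos r ∧ ¬ (R6 K).pos ((R6 K).ww l r)})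
      (fun r hr => ⟨(rhoF_pos r).2 hr.1, by rw [hcomm, rhoF_pos]; exact hr.2⟩) hu
  have hk' : k * ((R6 K).nw (l.map e6Twist.pi) * (((R6 K).nw (l.map e6Twist.pi))⁻¹ * (R6 K).nw l)⁻¹ *
      ((R6 K).nw (l.map e6Twist.pi))⁻¹) ∈ (R6 K).H := mul_mem hk ((R6 K).nw_conj_H _ (inv_mem h2))
  exact ((R6 K).normalForm_unique (k := 1) (l := l) (one_mem _) (one_mul _).symm
    (mul_mem (hS.map_B hb) ((R6 K).H_le_B hk')) (mul_mem hb0 hb) hu' hu (by rw [← eθ]; group)).2

/-- The factors of a fixed element are fixed. -/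
theorem fixed_split (hσ : ∀ t, σ (σ t) = t) {g : GL chevE6.Idx K} (hg : g ∈ chevE6.group K)
    (hfix : theta σ c g = g) :
    ∃ v ∈ (R6 K).Upos, ∃ h ∈ (R6 K).H, ∃ l, ∃ u ∈ (R6 K).Uminus l, g = v * (h * (R6 K).nw l) * u ∧
      theta σ c v = v ∧ theta σ c u = u ∧ theta σ c (h * (R6 K).nw l) = h * (R6 K).nw l ∧ Comm K l := by
  have hS := sym_theta σ c hσ
  obtain ⟨b, hb, l, u, hu, e, huf, hcomm⟩ :=
    fixed_form σ c hσ hg (one_mem _) (show theta σ c g = 1 * g by rw [one_mul, hfix])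
  obtain ⟨v, hv, h, hh, rfl⟩ := (R6 K).exists_B hb
  obtain ⟨k, hk, ek⟩ := hS.map_nw l
  have e1 : theta σ c v * (theta σ c h * k) * (R6 K).nw (l.map e6Twist.pi) = v * h * (R6 K).nw l := by
    have h0 := hfix
    rw [e, map_mul, huf] at h0
    have h1 := mul_right_cancel h0
    rw [map_mul, map_mul, ek] at h1
    rw [← h1]; group
  have hH : (R6 K).nw l * ((R6 K).nw (l.map e6Twist.pi))⁻¹ ∈ (R6 K).H := by
    have h2 := mem_H_of_ww (K := K) (l := l.map e6Twist.pi) (l' := l) fun r => by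
      have := hcomm (rhoF r)
      rw [rhoF_rhoF] at this
      rw [this]
      conv_rhs => rw [← rhoF_rhoF r, ww_map_pi]
    have h3 := (R6 K).nw_conj_H (l.map e6Twist.pi) h2
    rwa [show (R6 K).nw (l.map e6Twist.pi) * (((R6 K).nw (l.map e6Twist.pi))⁻¹ * (R6 K).nw l) *
      ((R6 K).nw (l.map e6Twist.pi))⁻¹ = (R6 K).nw l * ((R6 K).nw (l.map e6Twist.pi))⁻¹ by group] at h3
  have hv1 : v⁻¹ * theta σ c v = 1 := by
    rw [← Subgroup.mem_bot, ← (R6 K).U_inf_H]
    refine ⟨(mul_mem (inv_mem hv) (hS.map_Upos _ hv) : _ ∈ (R6 K).Upos), (?_ : _ ∈ (R6 K).H)⟩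
    rw [show v⁻¹ * theta σ c v = h * ((R6 K).nw l * ((R6 K).nw (l.map e6Twist.pi))⁻¹) * (theta σ c h * k)⁻¹ from
      calc v⁻¹ * theta σ c v = v⁻¹ * (theta σ c v * (theta σ c h * k) * (R6 K).nw (l.map e6Twist.pi)) *
            ((R6 K).nw (l.map e6Twist.pi))⁻¹ * (theta σ c h * k)⁻¹ := by group
        _ = _ := by rw [e1]; group]
    exact mul_mem (mul_mem hh hH) (inv_mem (mul_mem (hS.map_H _ hh) hk))
  have hvf : theta σ c v = v := (inv_mul_eq_one.1 hv1).symm
  refine ⟨v, hv, h, hh, l, u, hu, by rw [e]; group, hvf, huf, ?_, hcomm⟩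
  have h0 := hfix
  rw [e, map_mul, huf, mul_assoc v h, map_mul, hvf] at h0
  exact mul_left_cancel (mul_right_cancel h0)

/-- A fixed monomial element keeping the good positive roots positive is diagonal. -/
theorem mem_H_of_keeps (h2 : (2 : K) ≠ 0) (hc : c = true → ∀ t, σ t = t) {h : GL chevE6.Idx K}
    {l : List (Fin chevE6.rank)} (hh : h ∈ (R6 K).H)
    (hfix : theta σ c (h * (R6 K).nw l) = h * (R6 K).nw l) (hk : Keeps K c l) : (R6 K).nw l ∈ (R6 K).H := by
  have hid : (∀ q, (R6 K).ww l q = q) → (R6 K).nw l ∈ (R6 K).H := fun h1 =>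
    (R6 K).mem_H_of_simple fun i => by rw [h1]; exact (R6 K).pos_simple i
  rcases keeps_cases hk with h1 | ⟨rfl, h1⟩
  · exact hid h1
  exfalso
  have hσ1 := hc rfl
  set m := h * (R6 K).nw l with hm
  let n3 : Fin chevE6.nroots := (R6 K).simple (e6n 3)
  have hbad : bad true ((R6 K).ww [e6n 1] n3).val = true ∧ bad true ((R6 K).ww [e6n 3, e6n 1] n3).val = true ∧
      e6Twist.rho n3.val = n3.val ∧ bad true n3.val = false := by
    show bad true (wN chevE6 1 (chevE6.simple 3)) = true ∧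
      bad true (wN chevE6 3 (wN chevE6 1 (chevE6.simple 3))) = true ∧
      e6Twist.rho (chevE6.simple 3) = chevE6.simple 3 ∧ bad true (chevE6.simple 3) = false
    decide +kernel
  have hb : bad true ((R6 K).ww l n3).val = true := by
    rcases h1 with h1 | h1 <;> rw [h1]
    exacts [hbad.1, hbad.2.1]
  obtain ⟨hρn, hgood⟩ := hbad.2.2
  have hx : theta σ true (xg e6Good K n3.val 1) = xg e6Good K n3.val 1 := by
    have := (par_good σ true n3.isLt hgood (map_one σ)) hρn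
    rw [theta_xg σ true n3.isLt, hρn, this]
  obtain ⟨t, ht⟩ := (mem_rootSubgroup e6Good _).1
    ((R6 K).conj_U_mem ((R6 K).map_conj_H_nw hh l n3) (xg_mem_rootSubgroup e6Good n3.val 1))
  have h3 := congrArg (theta σ true) ht
  rw [map_mul, map_mul, map_inv, hfix, hx, ht, theta_xg σ true ((R6 K).ww l n3).isLt, (bad_cases hb).2] at h3
  have h4 := xg_inj e6Good ((R6 K).ww l n3).isLt h3
  rw [(sg_facts true ((R6 K).ww l n3)).2.2.2.1 (bad_cases hb).2, hb, hσ1] at h4
  have ht0 : t = 0 := by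
    have h5 : (2 : K) * t = 0 := by
      simp only [if_true, Int.cast_neg, Int.cast_one, neg_mul, one_mul] at h4
      linear_combination h4
    exact (mul_eq_zero.1 h5).resolve_left h2
  rw [ht0, xg_zero] at ht
  exact xg_ne_one n3.isLt one_ne_zero (conj_eq_one_iff.1 ht)

end Cfsg.Agent.ChevBalance.E6
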