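import Cfsg.Agent.Lib.ChevBalance.E6Crit
import Cfsg.Agent.Lib.ChevLang.Lang

/-!
# E₆: automorphisms moving the diagram as twisted inner-diagonal maps

* `exists_twisted` : an involution moving the diagram is `k ↦ a σ(k) a⁻¹` with `a σ(a) = 1`;
* `conj_of_twisted` : an element `b` with `b a σ(b)⁻¹ = ε` conjugates it to the standard involution;
* `lang_closure` : the Lang–Steinberg theorem for groups generated by polynomial one-parameter families.
-/

set_option autoImplicit false
set_option linter.style.haveILetI false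
set_option linter.unusedSectionVars false

namespace Cfsg.Agent.ChevBalance.E6

open Cfsg Cfsg.Lie Cfsg.Lie.ChevalleyDatum Cfsg.Agent.Chev Cfsg.Agent.ChevBN Cfsg.Agent.ChevSt Cfsg.Agent.ChevAut
open Cfsg.Agent.TwistE6D4 (e6Twist e6Twist_ok e6Root_ok)
open Cfsg.Agent.ChevFoldF4 (R6 rhoF e6n e6Good)
open Cfsg.Agent.ChevFixed

theorem chiU_false {K : Type*} [Field K] (r : ℕ) : chiU K false r = 1 := by simp [chiU]

theorem charUnit_one {D : ChevalleyDatum} {K : Type*} [Field K] :
    (charUnit D fun _ => (1 : Kˣ)) = (1 : GL D.Idx K) := by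
  refine Units.ext ?_
  show D.charDiag K (fun _ => (1 : Kˣ)) = 1
  exact charDiag_one

theorem charUnit_mul {D : ChevalleyDatum} {K : Type*} [Field K] (χ ψ : ℕ → Kˣ) :
    charUnit D χ * charUnit D ψ = (charUnit D fun r => χ r * ψ r : GL D.Idx K) := by
  refine Units.ext ?_
  show D.charDiag K χ * D.charDiag K ψ = D.charDiag K fun r => χ r * ψ r
  exact charDiag_mul χ ψ

theorem isRootCharacter_mul {D : ChevalleyDatum} {K : Type*} [Field K] {χ ψ : ℕ → Kˣ}
    (hχ : D.IsRootCharacter χ) (hψ : D.IsRootCharacter ψ) : D.IsRootCharacter fun r => χ r * ψ r :=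
  ⟨fun r hr => by simp only [hχ.1 r hr, hψ.1 r hr, mul_inv],
    fun r s k hr hs hk => by simp only [hχ.2 r s k hr hs hk, hψ.2 r s k hr hs hk]; exact mul_mul_mul_comm _ _ _ _⟩

variable {K : Type*} [Field K]

theorem theta_false (σ : K ≃+* K) (g : GL chevE6.Idx K) :
    theta σ false g = TwistE6D4.sigma e6Twist_ok (σ : K →+* K) g := by
  show charUnit chevE6 (chiU K false) * _ * (charUnit chevE6 (chiU K false))⁻¹ = _
  rw [show chiU K false = fun _ => (1 : Kˣ) from funext chiU_false, charUnit_one]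
  simp

/-- The involution on diagonal elements. -/
theorem sigma_charUnit (φ : K →+* K) {χ : ℕ → Kˣ} :
    TwistE6D4.sigma e6Twist_ok φ (charUnit chevE6 χ) =
      charUnit chevE6 fun r => Units.map (φ : K →* K) (χ (e6Twist.rho r)) := by
  show TwistE6D4.pUnit e6Twist_ok K * Matrix.GeneralLinearGroup.map φ (charUnit chevE6 χ) *
    (TwistE6D4.pUnit e6Twist_ok K)⁻¹ = _
  rw [mul_inv_eq_iff_eq_mul]
  refine Units.ext (Matrix.ext fun a b => ?_)
  rw [Units.val_mul, Units.val_mul]
  show ((TwistE6D4.pMat e6Twist_ok).map (Int.cast : ℤ → K) * (chevE6.charDiag K χ).map φ) a b =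
    ((chevE6.charDiag K fun r => Units.map (φ : K →* K) (χ (e6Twist.rho r))) *
      (TwistE6D4.pMat e6Twist_ok).map (Int.cast : ℤ → K)) a b
  rw [ChevalleyDatum.charDiag, ChevalleyDatum.charDiag, Matrix.diagonal_map (map_zero φ), Matrix.mul_diagonal,
    Matrix.diagonal_mul]
  by_cases h : a = TwistE6D4.iota e6Twist_ok b
  · subst h
    rcases b with j | q
    · simp [TwistE6D4.iota]
    · simp [TwistE6D4.iota, rho_rho q.isLt, mul_comm]
  · simp [TwistE6D4.pMat, h]

theorem rho_char (φ : K →+* K) {χ : ℕ → Kˣ} (hχ : chevE6.IsRootCharacter χ) :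
    chevE6.IsRootCharacter fun r => Units.map (φ : K →* K) (χ (e6Twist.rho r)) := by
  refine isRootCharacter_map' ⟨fun r hr => ?_, fun r s k hr hs hk => ?_⟩ _
  · rw [e6Twist_ok.rho_neg r hr, hχ.1 _ (e6Twist_ok.rho_lt r hr)]
  · have h := e6Twist_ok.pair r hr s hs
    unfold TwistE6D4.PairOK at h
    rw [hk] at h
    exact hχ.2 _ _ _ (e6Twist_ok.rho_lt r hr) (e6Twist_ok.rho_lt s hs) h.1

theorem mapG_sigma {L : Type*} [Field L] (ι : K →+* L) (φ : K →+* K) (ψ : L →+* L) (h : ψ.comp ι = ι.comp φ)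
    (g : GL chevE6.Idx K) :
    mapG chevE6 ι (TwistE6D4.sigma e6Twist_ok φ g) = TwistE6D4.sigma e6Twist_ok ψ (mapG chevE6 ι g) := by
  show mapG chevE6 ι (TwistE6D4.pUnit e6Twist_ok K * Matrix.GeneralLinearGroup.map φ g *
      (TwistE6D4.pUnit e6Twist_ok K)⁻¹) = TwistE6D4.pUnit e6Twist_ok L *
      Matrix.GeneralLinearGroup.map ψ (mapG chevE6 ι g) * (TwistE6D4.pUnit e6Twist_ok L)⁻¹
  have hp : mapG chevE6 ι (TwistE6D4.pUnit e6Twist_ok K) = TwistE6D4.pUnit e6Twist_ok L := by
    refine Units.ext ?_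
    ext a b
    show ι (((TwistE6D4.pMat e6Twist_ok).map (Int.cast : ℤ → K)) a b) = _
    simp [TwistE6D4.pUnit]
  have hm : mapG chevE6 ι (Matrix.GeneralLinearGroup.map φ g) =
      Matrix.GeneralLinearGroup.map ψ (mapG chevE6 ι g) := by
    refine Units.ext ?_
    ext a b
    exact (DFunLike.congr_fun h ((g : Matrix chevE6.Idx chevE6.Idx K) a b)).symm
  rw [map_mul, map_mul, map_inv, hp, hm]

theorem sym_nodes : ∀ L ∈ symList chevE6 chevE6.rank, L = [0, 1, 2, 3, 4, 5] ∨ L = [5, 1, 4, 3, 2, 0] := by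
  decide +kernel

variable {F : Type*} [Field F] [Fintype F]
  (hlist : chevE6 ∈ [chevG2, chevB2, chevD4, chevF4, chevE6, chevE7, chevE8])
include hlist

/-- An inner-diagonal element acting trivially is trivial. -/
theorem eq_one_of_act {x : chevE6.group F} {χ : ℕ → Fˣ} (hχ : chevE6.IsRootCharacter χ)
    (h : ∀ k ∈ chevE6.group F, (x : GL chevE6.Idx F) * charUnit chevE6 χ * k *
      ((x : GL chevE6.Idx F) * charUnit chevE6 χ)⁻¹ = k) :
    (x : GL chevE6.Idx F) * charUnit chevE6 χ = 1 := by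
  set c : Fin chevE6.rank → Fˣ := fun i => χ (chevE6.simple i.val)
  have he : charUnit chevE6 (chiOf chevE6 adjE6 3 c) = (charUnit chevE6 χ : GL chevE6.Idx F) :=
    charUnit_simple_ext rootsE6 (chiOf_isRootCharacter e6Good rootsE6 c) hχ (chiOf_simple e6Good rootsE6 c) e6Good
  have h1 : MulAut.conj x = (diagHom e6Good rootsE6 c)⁻¹ := by
    refine eq_inv_of_mul_eq_one_left (MulEquiv.ext fun k => Subtype.ext ?_)
    rw [MulAut.mul_apply, MulAut.conj_apply, Subgroup.coe_mul, Subgroup.coe_mul, InvMemClass.coe_inv,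
      coe_diagHom, he]
    show _ = (k : GL chevE6.Idx F)
    conv_rhs => rw [← h k k.2]
    group
  have h2 : Fix (MulAut.conj x) 1 := by
    rw [h1, ← map_inv]
    exact fix_diagHom e6Good rootsE6 c⁻¹
  obtain ⟨c₀, hc₀⟩ := (ChevOrder.torusHom_range (F := F) e6Good).ge
    (mem_H_of_fix e6Good rootsE6 h2).1
  have hψ := isRootCharacter_mul (chi_isRootCharacter e6Good c₀) hχ
  have hx : (x : GL chevE6.Idx F) * charUnit chevE6 χ = charUnit chevE6 fun r => ChevOrder.chi c₀ r * χ r := by
    rw [← hc₀, torusHom_eq_charUnit, charUnit_mul]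
  rw [hx, ← charUnit_one]
  refine charUnit_simple_ext rootsE6 hψ ⟨fun _ _ => inv_one.symm, fun _ _ _ _ _ _ => (mul_one _).symm⟩
    (fun i => Units.ext ?_) e6Good
  have h3 := h (xg e6Good F (chevE6.simple i.val) 1) (xg_mem_group e6Good _ _)
  rw [hx, charUnit_conj e6Good hψ (e6Good.simple_lt _ i.isLt)] at h3
  have := xg_inj e6Good (e6Good.simple_lt _ i.isLt) h3
  rwa [mul_one] at this

/-- The shape of an involution moving the diagram. -/
theorem exists_twisted {β : MulAut (chevE6.group F)} (hβ : β ^ 2 = 1)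
    (h : permHom e6Good rootsE6 hlist β ≠ 1) :
    ∃ (x : chevE6.group F) (χ : ℕ → Fˣ) (σ : F ≃+* F), chevE6.IsRootCharacter χ ∧ (∀ t, σ (σ t) = t) ∧
      (∀ k : chevE6.group F, ((β k : chevE6.group F) : GL chevE6.Idx F) =
        (x : GL chevE6.Idx F) * charUnit chevE6 χ * theta σ false k *
          ((x : GL chevE6.Idx F) * charUnit chevE6 χ)⁻¹) ∧
      (x : GL chevE6.Idx F) * charUnit chevE6 χ *
        theta σ false ((x : GL chevE6.Idx F) * charUnit chevE6 χ) = 1 := by
  obtain ⟨x, c, g, σ, π, hsym, hg, rfl⟩ := exists_parts e6Good rootsE6 hlist β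
  have hfg : Fix g π := fix_of_apply e6Good (fun i => (bijective_pow e6Good i (π i)).2)
    (fun i => (bijective_pow e6Good i (π i)).2) hg
  have hπ : π ≠ 1 := fun h1 => h (by
    rw [map_mul, map_mul, map_mul, permHom_of_fix e6Good rootsE6 hlist (fix_diagHom e6Good rootsE6 c),
      permHom_of_fix e6Good rootsE6 hlist hfg, permHom_of_fix e6Good rootsE6 hlist (fix_fieldHom e6Good rootsE6 σ),
      show permHom e6Good rootsE6 hlist (MulAut.conj x) = 1 from inn_le_ker e6Good rootsE6 hlist ⟨x, rfl⟩, h1,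
      mul_one, mul_one, mul_one])
  have hπE : π = piE := by
    have hval : ∀ (L : List ℕ), List.ofFn (fun i => (π i).val) = L → ∀ i : Fin chevE6.rank,
        (π i).val = L.getD i.val 0 := by
      intro L hL i
      rw [← hL, List.getD_eq_getElem _ _ (by simp)]
      simp
    rcases sym_nodes _ (mem_symList hsym) with e | e
    · exfalso
      refine hπ (Equiv.ext fun i => Fin.ext ?_)
      rw [hval _ e i]
      have key : ∀ i : Fin chevE6.rank, ([0, 1, 2, 3, 4, 5] : List ℕ).getD i.val 0 = i.val := by decide +kernel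
      exact key i
    · refine Equiv.ext fun i => Fin.ext ?_
      rw [hval _ e i, piE_apply]
      have key : ∀ i : Fin chevE6.rank, ([5, 1, 4, 3, 2, 0] : List ℕ).getD i.val 0 = (e6Twist.pi i).val := by
        decide +kernel
      exact key i
  subst hπE
  set χ := chiOf chevE6 adjE6 3 c
  have hχ := chiOf_isRootCharacter e6Good rootsE6 c
  -- graph times field
  have hgf : ∀ k : chevE6.group F,
      ((g (fieldHom e6Good rootsE6 σ k) : chevE6.group F) : GL chevE6.Idx F) = theta σ false k := by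
    let f : chevE6.group F →* GL chevE6.Idx F := (theta σ false).comp (chevE6.group F).subtype
    let f' : chevE6.group F →* GL chevE6.Idx F := (chevE6.group F).subtype.comp
      (g.toMonoidHom.comp (fieldHom e6Good rootsE6 σ).toMonoidHom)
    have he : ∀ i j : Fin chevE6.rank, chevE6.graphExp (ringChar F) i.val j.val = 1 := by
      have key : ∀ i : Fin chevE6.rank, chevE6.isLong (chevE6.simple i.val) = false := by decide +kernel
      intro i j
      simp [ChevalleyDatum.graphExp, key j]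
    suffices f' = f from fun k => DFunLike.congr_fun this k
    refine hom_ext_simple e6Good rootsE6 fun i hi t => ?_
    obtain ⟨h1, h2⟩ := hg ⟨i, hi⟩ (σ t)
    have hs := e6Good.simple_lt _ hi
    obtain ⟨-, hsg⟩ := sg_simple ⟨i, hi⟩
    constructor
    · show ((g (fieldHom e6Good rootsE6 σ (gx e6Good (chevE6.simple i) t)) : chevE6.group F) :
        GL chevE6.Idx F) = theta σ false (xg e6Good F (chevE6.simple i) t)
      rw [fieldHom_apply e6Good rootsE6 σ hs, h1, theta_xg σ false hs, hsg, Int.cast_one, one_mul, he, pow_one,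
        e6Root_ok.simple_pi ⟨i, hi⟩]
      rfl
    · show ((g (fieldHom e6Good rootsE6 σ (gx e6Good (chevE6.neg (chevE6.simple i)) t)) : chevE6.group F) :
        GL chevE6.Idx F) = theta σ false (xg e6Good F (chevE6.neg (chevE6.simple i)) t)
      rw [fieldHom_apply e6Good rootsE6 σ (e6Good.neg_lt _ hs), h2, theta_xg σ false (e6Good.neg_lt _ hs),
        (sg_facts false ⟨_, hs⟩).2.2.1, hsg, Int.cast_one, one_mul, he, pow_one, e6Twist_ok.rho_neg _ hs,
        e6Root_ok.simple_pi ⟨i, hi⟩]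
      rfl
  set a := (x : GL chevE6.Idx F) * charUnit chevE6 χ with ha
  have hβk : ∀ k : chevE6.group F,
      (((MulAut.conj x * diagHom e6Good rootsE6 c * g * fieldHom e6Good rootsE6 σ) k : chevE6.group F) :
        GL chevE6.Idx F) = a * theta σ false k * a⁻¹ := by
    intro k
    rw [MulAut.mul_apply, MulAut.mul_apply, MulAut.mul_apply, MulAut.conj_apply, Subgroup.coe_mul, Subgroup.coe_mul,
      InvMemClass.coe_inv, coe_diagHom, hgf, ha]
    simp only [χ]
    group
  -- the square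
  let χ' : ℕ → Fˣ := fun r => Units.map ((σ : F →+* F) : F →* F) (χ (e6Twist.rho r))
  have hχ' : chevE6.IsRootCharacter χ' := rho_char _ hχ
  let x' : chevE6.group F := x * ⟨charUnit chevE6 χ * theta σ false x * (charUnit chevE6 χ)⁻¹,
    charUnit_conj_mem e6Good hχ (theta_mem σ false x.2)⟩
  let χ'' : ℕ → Fˣ := fun r => χ r * χ' r
  have haa : a * theta σ false a = (x' : GL chevE6.Idx F) * charUnit chevE6 χ'' := by
    rw [ha, map_mul, theta_false σ (charUnit chevE6 χ), sigma_charUnit, ← charUnit_mul]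
    simp only [x', Subgroup.coe_mul]
    group
    rfl
  have hsq : ∀ k : chevE6.group F, (x' : GL chevE6.Idx F) * charUnit chevE6 χ'' * theta σ false (theta σ false k) *
      ((x' : GL chevE6.Idx F) * charUnit chevE6 χ'')⁻¹ = k := by
    intro k
    have h1 := congrArg (fun φ : MulAut (chevE6.group F) => ((φ k : chevE6.group F) : GL chevE6.Idx F)) hβ
    set b₀ : MulAut (chevE6.group F) := MulAut.conj x * diagHom e6Good rootsE6 c * g * fieldHom e6Good rootsE6 σ
    rw [sq, MulAut.mul_apply, MulAut.one_apply, hβk, hβk, map_mul, map_mul, map_inv] at h1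
    rw [← haa]
    conv_rhs => rw [← h1]
    group
  have hσ : ∀ t, σ (σ t) = t := by
    set c' : Fin chevE6.rank → Fˣ := fun i => χ'' (chevE6.simple i.val)
    have hχ'' : chevE6.IsRootCharacter χ'' := isRootCharacter_mul hχ hχ'
    have hone : diagHom e6Good rootsE6 c' * fieldHom e6Good rootsE6 (σ * σ) = MulAut.conj x'⁻¹ := by
      rw [map_inv]
      refine eq_inv_of_mul_eq_one_right (aut_ext e6Good rootsE6 fun i t => ?_)
      have hi := e6Good.simple_lt _ i.isLt
      have key : ∀ q, q < chevE6.nroots → (MulAut.conj x' *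
          (diagHom e6Good rootsE6 c' * fieldHom e6Good rootsE6 (σ * σ))) (gx e6Good q t) = gx e6Good q t := by
        intro q hq
        refine Subtype.ext ((?_ : _ = _).trans (hsq (gx e6Good q t)))
        rw [MulAut.mul_apply, MulAut.mul_apply, MulAut.conj_apply, Subgroup.coe_mul, Subgroup.coe_mul,
          InvMemClass.coe_inv, coe_diagHom, charUnit_simple_ext rootsE6 (chiOf_isRootCharacter e6Good rootsE6 c')
            hχ'' (chiOf_simple e6Good rootsE6 c') e6Good, fieldHom_apply e6Good rootsE6 _ hq]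
        have e2 : theta σ false (theta σ false (xg e6Good F q t)) = xg e6Good F q (σ (σ t)) := by
          rw [theta_xg σ false hq, theta_xg σ false (e6Twist_ok.rho_lt q hq), rho_rho hq, map_mul, map_intCast,
            ← mul_assoc, sg_rho false hq, one_mul]
        show _ = _ * theta σ false (theta σ false (xg e6Good F q t)) * _
        rw [e2]
        simp only [gx, RingAut.mul_apply]
        group
      exact ⟨key _ hi, key _ (e6Good.neg_lt _ hi)⟩
    have hσ2 := (eq_one_of_inner e6Good rootsE6 (show 0 < chevE6.rank by decide +kernel)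
      (by rw [hone]; exact ⟨x'⁻¹, rfl⟩)).1
    intro t
    have := DFunLike.congr_fun hσ2 t
    exact this
  refine ⟨x, χ, σ, hχ, hσ, hβk, ?_⟩
  rw [← ha, haa]
  refine eq_one_of_act hlist (isRootCharacter_mul hχ hχ') fun k hk => ?_
  have := hsq ⟨k, hk⟩
  rwa [theta_theta σ false hσ hk] at this

omit [Fintype F] in
/-- An element trivialising the twisting conjugates to the standard involution. -/
theorem conj_of_twisted {β : MulAut (chevE6.group F)} {σ : F ≃+* F} (hσ : ∀ t, σ (σ t) = t) {c : Bool}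
    {a : GL chevE6.Idx F} (hβ : ∀ k : chevE6.group F, ((β k : chevE6.group F) : GL chevE6.Idx F) =
      a * theta σ false k * a⁻¹)
    (x : chevE6.group F) {χ : ℕ → Fˣ} (hχ : chevE6.IsRootCharacter χ)
    (e : (x : GL chevE6.Idx F) * charUnit chevE6 χ * a *
      (theta σ false ((x : GL chevE6.Idx F) * charUnit chevE6 χ))⁻¹ = charUnit chevE6 (chiU F c)) :
    ∃ α : MulAut (chevE6.group F), α * β * α⁻¹ = thetaAut σ c hσ := by
  set b := (x : GL chevE6.Idx F) * charUnit chevE6 χ with hb
  set cc : Fin chevE6.rank → Fˣ := fun i => χ (chevE6.simple i.val)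
  have hα : ∀ k : chevE6.group F,
      (((MulAut.conj x * diagHom e6Good rootsE6 cc) k : chevE6.group F) : GL chevE6.Idx F) = b * k * b⁻¹ := by
    intro k
    rw [MulAut.mul_apply, MulAut.conj_apply, Subgroup.coe_mul, Subgroup.coe_mul, InvMemClass.coe_inv, coe_diagHom,
      charUnit_simple_ext rootsE6 (chiOf_isRootCharacter e6Good rootsE6 cc) hχ (chiOf_simple e6Good rootsE6 cc)
        e6Good, hb]
    group
  refine ⟨MulAut.conj x * diagHom e6Good rootsE6 cc,
    mul_inv_eq_iff_eq_mul.2 (MulEquiv.ext fun k => Subtype.ext ?_)⟩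
  show (((MulAut.conj x * diagHom e6Good rootsE6 cc) (β k) : chevE6.group F) : GL chevE6.Idx F) =
    ((thetaAut σ c hσ ((MulAut.conj x * diagHom e6Good rootsE6 cc) k) : chevE6.group F) : GL chevE6.Idx F)
  rw [hα, hβ, coe_thetaAut, hα]
  show _ = charUnit chevE6 (chiU F c) * TwistE6D4.sigma e6Twist_ok (σ : F →+* F) (b * k * b⁻¹) *
    (charUnit chevE6 (chiU F c))⁻¹
  rw [← theta_false, map_mul, map_mul, map_inv, ← e]
  group

omit hlist in
/-- The Lang–Steinberg theorem for a group generated by polynomial one-parameter families. -/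
theorem lang_closure {ι : Type*} [Fintype ι] [DecidableEq ι] {L : Type*} [Field L] [IsAlgClosed L] {J : Type*}
    (f : J → L → GL ι L) (P : J → Matrix ι ι (Polynomial L))
    (hP : ∀ j t, (f j t : Matrix ι ι L) = Lang.gval P j t) (h0 : ∀ j, f j 0 = 1)
    (hinv : ∀ j t, ∃ t', (f j t)⁻¹ = f j t')
    {p e q : ℕ} [Fact p.Prime] [CharP L p] (he : 1 ≤ e) (hq : q = p ^ e) (φ : L →+* L)
    (hφ : ∀ z, φ z = z ^ q)
    (hstab : ∀ j t, ∃ g ∈ Subgroup.closure {g | ∃ j t, g = f j t},
      (g : Matrix ι ι L) = (f j t : Matrix ι ι L).map φ)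
    {n : GL ι L} (hn : n ∈ Subgroup.closure {g | ∃ j t, g = f j t}) :
    ∃ g ∈ Subgroup.closure {g | ∃ j t, g = f j t},
      (g : Matrix ι ι L).map φ = (g : Matrix ι ι L) * (n : Matrix ι ι L) := by
  set Γ := Subgroup.closure {g | ∃ j t, g = f j t}
  have hmem : ∀ j t, ∃ g ∈ Γ, (g : Matrix ι ι L) = Lang.gval P j t := fun j t =>
    ⟨f j t, Subgroup.subset_closure ⟨j, t, rfl⟩, hP j t⟩
  have hone : ∀ j, Lang.gval P j 0 = 1 := fun j => by rw [← hP, h0, Units.val_one]
  have hgen : ∀ g ∈ Γ, ∃ L', (g : Matrix ι ι L) ∈ Lang.wset P L' := by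
    intro g hg
    suffices H : (∃ L', (g : Matrix ι ι L) ∈ Lang.wset P L') ∧
        (∃ L', ((g⁻¹ : GL ι L) : Matrix ι ι L) ∈ Lang.wset P L') from H.1
    induction hg using Subgroup.closure_induction with
    | mem z hz =>
      obtain ⟨j, t, rfl⟩ := hz
      obtain ⟨t', ht'⟩ := hinv j t
      exact ⟨⟨[j], t, 1, rfl, by rw [mul_one, hP]⟩, ⟨[j], t', 1, rfl, by rw [mul_one, ht', hP]⟩⟩
    | one => exact ⟨⟨[], rfl⟩, ⟨[], by rw [inv_one]; rfl⟩⟩
    | mul a b _ _ ha hb =>
      obtain ⟨⟨L₁, hL⟩, ⟨L', hL'⟩⟩ := ha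
      obtain ⟨⟨M, hM⟩, ⟨M', hM'⟩⟩ := hb
      refine ⟨⟨L₁ ++ M, by rw [Units.val_mul]; exact Lang.mul_mem_wset _ L₁ M hL hM⟩, ⟨M' ++ L', ?_⟩⟩
      rw [_root_.mul_inv_rev, Units.val_mul]
      exact Lang.mul_mem_wset _ M' L' hM' hL'
    | inv a _ ha => exact ⟨ha.2, by rw [inv_inv]; exact ha.1⟩
  let φU : GL ι L →* GL ι L := Matrix.GeneralLinearGroup.map φ
  have hcomap : Γ ≤ Γ.comap φU := (Subgroup.closure_le _).2 (by
    rintro _ ⟨j, t, rfl⟩
    obtain ⟨g, hg, eg⟩ := hstab j t
    show φU (f j t) ∈ Γ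
    rwa [show φU (f j t) = g from (Units.ext (by rw [eg]; rfl)).symm])
  exact Lang.lang P Γ hmem hone hgen φ he hq hφ (fun g hg => ⟨φU g, hcomap hg, rfl⟩) hn

end Cfsg.Agent.ChevBalance.E6
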