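import Cfsg.Agent.Lib.ChevBalance.G2Weyl
import Cfsg.Agent.Lib.ChevOrder.Final

/-!
# G₂: involutory automorphisms exchanging the two nodes

* `exists_fixed_regular` : fixed regular unipotent elements with any coordinate;
* `normal_odd_le_B` : a normal subgroup of odd order of the fixed points lies in `B`;
* `g2_crit` : the criterion.
-/

set_option autoImplicit false
set_option linter.style.haveILetI false
set_option linter.unusedSectionVars false

namespace Cfsg.Agent.ChevBalance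

open Cfsg Cfsg.Lie Cfsg.Lie.ChevalleyDatum Cfsg.Agent.Chev Cfsg.Agent.ChevBN Cfsg.Agent.ChevSt
  Cfsg.Agent.ChevAut Cfsg.Agent.ChevFixed Cfsg.Agent.LocalBalance

variable {M : List (List ℤ)} {d : ℤ} (hD : Good chevG2) (hR : Roots chevG2 M d)
  {F : Type*} [Field F] [Fintype F] {r : ℕ} [Fact r.Prime] [CharP F r]
  {π : Equiv.Perm (Fin chevG2.rank)} {θ : MulAut (chevG2.group F)}

local notation "RR" => chevRGD hD hR F

/-- The first node. -/
def nodeA : Fin chevG2.rank := ⟨0, by decide +kernel⟩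

/-- The second node. -/
def nodeB : Fin chevG2.rank := ⟨1, by decide +kernel⟩

theorem node_cases (i : Fin chevG2.rank) : i = nodeA ∨ i = nodeB := by
  have := i.isLt
  have := g2_facts.1
  rcases (show i.val = 0 ∨ i.val = 1 by omega) with h | h
  · exact .inl (Fin.ext h)
  · exact .inr (Fin.ext h)

theorem gx_zero {D : ChevalleyDatum} {K : Type*} [Field K] (hD : Good D) (q : ℕ) : gx hD q (0 : K) = 1 :=
  Subtype.ext (xg_zero hD q)

theorem swap_nodes (hπ : π ≠ 1) : π nodeA = nodeB ∧ π nodeB = nodeA :=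
  ⟨Fin.ext (fin_two_eq g2_facts.1 hπ nodeA), Fin.ext (fin_two_eq g2_facts.1 hπ nodeB)⟩

include hD hR

theorem swap_pow_two (hθ2 : θ ^ 2 = 1) (y : chevG2.group F) : θ (θ y) = y := by
  rw [← MulAut.mul_apply, ← sq, hθ2]; rfl

/-- Fixed regular unipotent elements. -/
theorem exists_fixed_regular (h2 : r ≠ 2) (hπ : π ≠ 1) (hθ : Fix θ π) (hθ2 : θ ^ 2 = 1) :
    ∃ f : F → F, Function.Surjective f ∧ ∀ t : F, ∃ u : chevG2.group F, θ u = u ∧
      (u : GL chevG2.Idx F) ∈ (RR).Upos ∧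
      ((gx hD (chevG2.simple nodeA) t)⁻¹ * u : chevG2.group F).1 ∈ (RR).Udel nodeA ∧
      ((gx hD (chevG2.simple nodeB) (f t))⁻¹ * u : chevG2.group F).1 ∈ (RR).Udel nodeB := by
  obtain ⟨hab, -⟩ := swap_nodes hπ
  obtain ⟨σ, c, hσ⟩ := exists_field_of_maps hD hR (hθ nodeA).1 (hθ nodeA).2
  rw [hab] at hσ
  refine ⟨fun t => (c : F) * σ t,
    fun s => ⟨σ.symm ((c⁻¹ : Fˣ) * s), by simp⟩, fun t => ?_⟩
  set xa := gx hD (chevG2.simple nodeA) t
  set xb := gx hD (chevG2.simple nodeB) ((c : F) * σ t)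
  have exa : θ xa = xb := (hσ t).1
  have exb : θ xb = xa := by rw [← exa, swap_pow_two hD hR hθ2]
  have haU : (xa : GL chevG2.Idx F) ∈ (RR).U ((RR).simple nodeA) := xg_mem_rootSubgroup hD _ _
  have hbU : (xb : GL chevG2.Idx F) ∈ (RR).U ((RR).simple nodeB) := xg_mem_rootSubgroup hD _ _
  have haUp := (RR).U_le_Upos ((RR).pos_simple nodeA) haU
  have hbUp := (RR).U_le_Upos ((RR).pos_simple nodeB) hbU
  have hne : ∀ i j : Fin chevG2.rank, i ≠ j → (RR).U ((RR).simple i) ≤ (RR).Udel j := fun i j hij =>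
    (RR).U_le_span ⟨(RR).pos_simple i, fun e => hij ((RR).simple_inj e)⟩
  have hab' : nodeA ≠ nodeB := by decide +kernel
  have hbDa : (xb : GL chevG2.Idx F) ∈ (RR).Udel nodeA := hne _ _ (Ne.symm hab') hbU
  have haDb : (xa : GL chevG2.Idx F) ∈ (RR).Udel nodeB := hne _ _ hab' haU
  -- the commutator
  set v := xb⁻¹ * xa⁻¹ * xb * xa
  have hva : (v : GL chevG2.Idx F) ∈ (RR).Udel nodeA := by
    have h1 := (RR).conj_Udel nodeA (inv_mem haUp) hbDa
    rw [inv_inv] at h1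
    simp only [v, Subgroup.coe_mul, InvMemClass.coe_inv]
    simpa [mul_assoc] using mul_mem (inv_mem hbDa) h1
  have hvb : (v : GL chevG2.Idx F) ∈ (RR).Udel nodeB := by
    have h1 := (RR).conj_Udel nodeB (inv_mem hbUp) (inv_mem haDb)
    rw [inv_inv] at h1
    simp only [v, Subgroup.coe_mul, InvMemClass.coe_inv]
    simpa [mul_assoc] using mul_mem h1 haDb
  have hθv : θ v = v⁻¹ := by
    simp only [v, map_mul, map_inv, exa, exb, mul_inv_rev, inv_inv]
    group
  obtain ⟨n, ⟨s, rfl⟩, hn⟩ := exists_odd_pow (odd_Upos hD hR (F := F) h2) ((RR).Udel_le_Upos _ hva)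
  have hn' : v ^ (2 * s + 1) = 1 := Subtype.ext (by rw [SubgroupClass.coe_pow]; exact hn)
  set z := v ^ (s + 1)
  have hzz : z * z = v := by
    rw [← pow_add, show s + 1 + (s + 1) = 2 * s + 1 + 1 by omega, pow_succ, hn', one_mul]
  have hθz : θ z = z⁻¹ := by rw [map_pow, hθv, inv_pow]
  have hza : (z : GL chevG2.Idx F) ∈ (RR).Udel nodeA := by
    rw [SubgroupClass.coe_pow]; exact pow_mem hva _
  have hzb : (z : GL chevG2.Idx F) ∈ (RR).Udel nodeB := by
    rw [SubgroupClass.coe_pow]; exact pow_mem hvb _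
  refine ⟨xa * xb * z, ?_, ?_, ?_, ?_⟩
  · rw [map_mul, map_mul, exa, exb, hθz, show xb * xa * z⁻¹ = xa * xb * (v * z⁻¹) by simp only [v]; group]
    rw [← hzz, mul_inv_cancel_right]
  · rw [Subgroup.coe_mul, Subgroup.coe_mul]
    exact mul_mem (mul_mem haUp hbUp) ((RR).Udel_le_Upos _ hza)
  · rw [show xa⁻¹ * (xa * xb * z) = xb * z by group, Subgroup.coe_mul]
    exact mul_mem hbDa hza
  · rw [show xb⁻¹ * (xa * xb * z) = (xb⁻¹ * xa * xb) * z by group, Subgroup.coe_mul, Subgroup.coe_mul,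
      Subgroup.coe_mul, InvMemClass.coe_inv]
    refine mul_mem ?_ hzb
    have h1 := (RR).conj_Udel nodeB (inv_mem hbUp) haDb
    rwa [inv_inv] at h1

omit [Fact r.Prime] [CharP F r] in
/-- The coordinate of an element at a node is well defined. -/
theorem coord_unique {i : Fin chevG2.rank} {s t : F} {u : chevG2.group F}
    (hs : ((gx hD (chevG2.simple i) s)⁻¹ * u : chevG2.group F).1 ∈ (RR).Udel i)
    (ht : ((gx hD (chevG2.simple i) t)⁻¹ * u : chevG2.group F).1 ∈ (RR).Udel i) : s = t := by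
  have h1 : (((gx hD (chevG2.simple i) s)⁻¹ * gx hD (chevG2.simple i) t : chevG2.group F) : GL chevG2.Idx F) ∈
      (RR).Udel i := by
    have := mul_mem hs (inv_mem ht)
    rwa [← InvMemClass.coe_inv, ← Subgroup.coe_mul,
      show (gx hD (chevG2.simple i) s)⁻¹ * u * ((gx hD (chevG2.simple i) t)⁻¹ * u)⁻¹ =
        (gx hD (chevG2.simple i) s)⁻¹ * gx hD (chevG2.simple i) t by group] at this
  have h2 : (((gx hD (chevG2.simple i) s)⁻¹ * gx hD (chevG2.simple i) t : chevG2.group F) : GL chevG2.Idx F) ∈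
      (RR).U ((RR).simple i) := by
    rw [Subgroup.coe_mul, InvMemClass.coe_inv]
    exact mul_mem (inv_mem (xg_mem_rootSubgroup hD _ _)) (xg_mem_rootSubgroup hD _ _)
  have h3 := (RR).U_inf_Udel i h2 h1
  exact gx_inj hD (hD.simple_lt _ i.isLt) (inv_mul_eq_one.1 (Subtype.ext h3))

/-- A normal subgroup of odd order of the fixed points lies in `B`. -/
theorem normal_odd_le_B (h2 : r ≠ 2) (hπ : π ≠ 1) (hθ : Fix θ π) (hθ2 : θ ^ 2 = 1)
    {N : Subgroup (chevG2.group F)} (hN : N ≤ fixK θ) (hn : ∀ g ∈ fixK θ, ∀ n ∈ N, g * n * g⁻¹ ∈ N)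
    (hodd : (Nat.card N).Coprime 2) : ∀ n ∈ N, (n : GL chevG2.Idx F) ∈ (RR).B := by
  intro g hgN
  have hG : (RR).G = chevG2.group F := chev_G hD hR
  have hS := sym_extGL hD hR hθ
  have hBG : ∀ x ∈ (RR).B, x ∈ chevG2.group F := fun x hx => hG ▸ (RR).B_le_G hx
  have hNG : ∀ x ∈ (RR).N, x ∈ chevG2.group F := fun x hx => hG ▸ (RR).N_le_G hx
  by_contra hgB
  obtain ⟨b, hb, l, u, hu, e⟩ := (RR).exists_normalForm (g := (g : GL chevG2.Idx F)) (hG.symm ▸ g.2)
  have huB : u ∈ (RR).B := (RR).Upos_le_B ((RR).Uminus_le_Upos l hu)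
  have hbG' : b ∈ (RR).G := (RR).B_le_G hb
  have hnG' : (RR).nw l ∈ (RR).G := (RR).N_le_G ((RR).nw_mem_N l)
  obtain ⟨k, hk, ek⟩ := hS.map_nw l
  have eθ : extGL θ b * (k * (RR).nw (l.map π)) * extGL θ u = b * (RR).nw l * u := by
    rw [← ek, ← hS.map_mul _ hbG' _ hnG', ← hS.map_mul _ (mul_mem hbG' hnG') _ ((RR).B_le_G huB), ← e,
      extGL_coe, mem_fixK.1 (hN hgN)]
  have hclass := (RR).mem_H_of_eq (mul_mem ((RR).H_le_N hk) ((RR).nw_mem_N _)) ((RR).nw_mem_N l)
    (hS.map_B hb) (hS.map_B huB) hb huB eθ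
  obtain ⟨k', hk', ek'⟩ : ∃ k' ∈ (RR).H, (RR).nw l = k' * (RR).nw (l.map π) :=
    ⟨k * ((RR).nw (l.map π) * ((k * (RR).nw (l.map π))⁻¹ * (RR).nw l) * ((RR).nw (l.map π))⁻¹),
      mul_mem hk ((RR).nw_conj_H _ hclass), by group⟩
  rcases g2_swap_fixed hD hR hπ l fun q => ww_congr hD hR hk' ek' q with hid | hneg
  · refine hgB ?_
    rw [e]
    refine mul_mem (mul_mem hb ((RR).H_le_B ((RR).mem_H_of_simple fun j => ?_))) huB
    rw [hid]
    exact (RR).pos_simple j
  have hUm : ∀ x ∈ (RR).Upos, x ∈ (RR).Uminus l := fun x hx =>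
    (RR).span_mono (A := {s | (RR).pos s}) (A' := {s | (RR).pos s ∧ ¬ (RR).pos ((RR).ww l s)})
      (fun q hq => ⟨hq, by rw [hneg, (RR).pos_neg]; exact not_not_intro hq⟩) hx
  -- the factors are fixed
  obtain ⟨v, hv, h, hh, rfl⟩ := (RR).exists_B hb
  have hbeq := (RR).normalForm_unique (k := 1) (l := l) (one_mem _) (one_mul _).symm
    (mul_mem (mul_mem (hS.map_B hb) ((RR).H_le_B hk)) ((RR).H_le_B (inv_mem hk'))) hb
    (hUm _ (hS.map_Upos _ ((RR).Uminus_le_Upos l hu))) hu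
    (show extGL θ (v * h) * k * k'⁻¹ * (RR).nw l * extGL θ u = v * h * (RR).nw l * u by
      rw [← eθ, ek']; group)
  have hvG : v ∈ (RR).G := (RR).B_le_G ((RR).Upos_le_B hv)
  have hhG : h ∈ (RR).G := (RR).B_le_G ((RR).H_le_B hh)
  have hθu : extGL θ u = u := hbeq.2
  have hθv : extGL θ v = v := by
    have h1 : v⁻¹ * extGL θ v = h * (extGL θ h * k * k'⁻¹)⁻¹ := by
      have h0 := hbeq.1
      rw [hS.map_mul _ hvG _ hhG] at h0
      rw [inv_mul_eq_iff_eq_mul, ← mul_assoc, eq_mul_inv_iff_mul_eq, ← h0]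
      group
    have h3 : v⁻¹ * extGL θ v = 1 := by
      rw [← Subgroup.mem_bot, ← (RR).U_inf_H]
      refine ⟨(mul_mem (inv_mem hv) (hS.map_Upos _ hv) : _ ∈ (RR).Upos), (?_ : _ ∈ (RR).H)⟩
      rw [h1]
      exact mul_mem hh (inv_mem (mul_mem (mul_mem (hS.map_H _ hh) hk) (inv_mem hk')))
    exact (inv_mul_eq_one.1 h3).symm
  let u₀ : chevG2.group F := ⟨u, hBG u huB⟩
  let v₀ : chevG2.group F := ⟨v, hG ▸ hvG⟩
  let m : chevG2.group F := ⟨h * (RR).nw l, hNG _ (mul_mem ((RR).H_le_N hh) ((RR).nw_mem_N l))⟩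
  have eg : g = v₀ * m * u₀ := Subtype.ext (by
    rw [Subgroup.coe_mul, Subgroup.coe_mul, e]
    show _ = v * (h * (RR).nw l) * u
    group)
  have hu0 : u₀ ∈ fixK θ := Subtype.ext ((extGL_coe θ u₀).symm.trans hθu)
  have hv0 : v₀ ∈ fixK θ := Subtype.ext ((extGL_coe θ v₀).symm.trans hθv)
  have hm0 : m ∈ fixK θ := by
    have h1 := hN hgN
    rw [eg, mem_fixK, map_mul, map_mul, mem_fixK.1 hu0, mem_fixK.1 hv0] at h1
    exact mul_left_cancel (mul_right_cancel h1)
  -- counting inside the fixed points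
  set W := fixK θ
  let BW : Subgroup W := ((RR).B.comap (chevG2.group F).subtype).subgroupOf W
  let T : Subgroup W := ((RR).H.comap (chevG2.group F).subtype).subgroupOf W
  let UW : Subgroup W := ((RR).Upos.comap (chevG2.group F).subtype).subgroupOf W
  have hT : ∀ w : W, w ∈ T ↔ ((w : chevG2.group F) : GL chevG2.Idx F) ∈ (RR).H := fun _ => Iff.rfl
  have hTB : T ≤ BW := fun w hw => (RR).H_le_B hw
  have hcardU : Odd (Nat.card UW) := by
    let j : W →* GL chevG2.Idx F := (chevG2.group F).subtype.comp W.subtype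
    have hj : Function.Injective j := Subtype.val_injective.comp Subtype.val_injective
    exact Odd.of_dvd_nat (odd_Upos hD hR (F := F) h2) (Subgroup.card_comap_dvd_of_injective (RR).Upos j hj)
  have hcardB : Nat.card BW = Nat.card UW * Nat.card T := by
    rw [← Nat.card_prod]
    refine (Nat.card_congr (Equiv.ofBijective (fun x : UW × T => (⟨(x.1 : W) * x.2,
      mul_mem (show (x.1 : W) ∈ BW from (RR).Upos_le_B x.1.2) (hTB x.2.2)⟩ : BW)) ⟨?_, ?_⟩)).symm
    · rintro ⟨x, s⟩ ⟨x', s'⟩ e'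
      have h1 : (x' : W)⁻¹ * x = s' * (s : W)⁻¹ := by
        have h0 : (x : W) * s = x' * s' := congrArg Subtype.val e'
        rw [inv_mul_eq_iff_eq_mul, ← mul_assoc, ← h0, mul_inv_cancel_right]
      have h4 : (x' : W)⁻¹ * x = 1 := by
        refine Subtype.ext (Subtype.ext ?_)
        rw [OneMemClass.coe_one, OneMemClass.coe_one, ← Subgroup.mem_bot, ← (RR).U_inf_H]
        refine ⟨(mul_mem (inv_mem x'.2) x.2 : (x' : W)⁻¹ * x ∈ UW), ?_⟩
        rw [h1]
        exact (mul_mem s'.2 (inv_mem s.2) : (s' : W) * (s : W)⁻¹ ∈ T)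
      rw [h4, eq_comm, mul_inv_eq_one] at h1
      rw [inv_mul_eq_one] at h4
      exact Prod.ext (Subtype.ext h4.symm) (Subtype.ext h1.symm)
    · rintro ⟨⟨w, hw⟩, hwB⟩
      obtain ⟨x, hx, s, hs, exs⟩ := (RR).exists_B (show (w : GL chevG2.Idx F) ∈ (RR).B from hwB)
      have hxG := hBG _ ((RR).Upos_le_B hx)
      have hsG := hBG _ ((RR).H_le_B hs)
      have h0 : w = ⟨x, hxG⟩ * ⟨s, hsG⟩ := Subtype.ext exs
      have hmem := mem_fixK.1 hw
      rw [h0, map_mul] at hmem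
      have h1 := congrArg (fun y : chevG2.group F => (y : GL chevG2.Idx F)) hmem
      simp only [Subgroup.coe_mul, ← extGL_coe] at h1
      have h2 : x⁻¹ * extGL θ x = s * (extGL θ s)⁻¹ := by
        rw [inv_mul_eq_iff_eq_mul, ← mul_assoc, ← h1, mul_inv_cancel_right]
      have h3 : x⁻¹ * extGL θ x = 1 := by
        rw [← Subgroup.mem_bot, ← (RR).U_inf_H]
        refine ⟨(mul_mem (inv_mem hx) (hS.map_Upos _ hx) : _ ∈ (RR).Upos), (?_ : _ ∈ (RR).H)⟩
        rw [h2]
        exact mul_mem hs (inv_mem (hS.map_H _ hs))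
      have hxW : (⟨x, hxG⟩ : chevG2.group F) ∈ W :=
        Subtype.ext ((extGL_coe θ ⟨x, hxG⟩).symm.trans (inv_mul_eq_one.1 h3).symm)
      have hsW : (⟨s, hsG⟩ : chevG2.group F) ∈ W := by
        have := mul_mem (inv_mem hxW) hw
        rwa [h0, inv_mul_cancel_left] at this
      exact ⟨(⟨⟨_, hxW⟩, hx⟩, ⟨⟨_, hsW⟩, hs⟩), Subtype.ext (Subtype.ext h0.symm)⟩
  let N₀ : Subgroup W := N.subgroupOf W
  haveI : N₀.Normal := ⟨fun n hn' w => hn w.1 w.2 _ hn'⟩
  have hN₀ : Odd (Nat.card N₀) := by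
    rw [Nat.card_congr (Subgroup.subgroupOfEquivOfLe hN).toEquiv]
    exact Nat.Coprime.odd_of_right hodd
  set P := BW ⊔ N₀
  have hP : ∃ o, Odd o ∧ Nat.card P ∣ o * Nat.card T := by
    refine ⟨Nat.card N₀ * Nat.card UW, hN₀.mul hcardU, ?_⟩
    rw [mul_assoc, ← hcardB, ← Subgroup.card_mul_index (N₀.subgroupOf P),
      Nat.card_congr (Subgroup.subgroupOfEquivOfLe (le_sup_right : N₀ ≤ P)).toEquiv]
    refine Nat.mul_dvd_mul_left _ ?_
    show N₀.relIndex P ∣ Nat.card BW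
    rw [Subgroup.relIndex_sup_right]
    exact N₀.relIndex_dvd_card BW
  -- `m` normalises `T`
  let m₁ : W := ⟨m, hm0⟩
  have hmP : m₁ ∈ P := by
    have h1 : (⟨v₀, hv0⟩ : W) * m₁ * ⟨u₀, hu0⟩ ∈ N₀ := by
      show v₀ * m * u₀ ∈ N
      exact eg ▸ hgN
    have hvB : (⟨v₀, hv0⟩ : W) ∈ BW := (RR).Upos_le_B hv
    have hu' : (⟨u₀, hu0⟩ : W) ∈ BW := huB
    have := mul_mem (mul_mem (Subgroup.mem_sup_left (S := BW) (T := N₀) (inv_mem hvB)) (Subgroup.mem_sup_right h1))
      (Subgroup.mem_sup_left (T := N₀) (inv_mem hu'))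
    simpa [mul_assoc] using this
  have hmN : ((m : chevG2.group F) : GL chevG2.Idx F) ∈ (RR).N :=
    mul_mem ((RR).H_le_N hh) ((RR).nw_mem_N l)
  have hnotT : m₁ ∉ T := fun hm => by
    have h1 : (RR).nw l ∈ (RR).H := by
      have := mul_mem (inv_mem hh) (show h * (RR).nw l ∈ (RR).H from hm)
      rwa [inv_mul_cancel_left] at this
    have h2 := ((RR).mem_H_iff l).1 h1 _ ((RR).pos_simple nodeA)
    rw [hneg, (RR).pos_neg] at h2
    exact h2 ((RR).pos_simple nodeA)
  have hsq : m₁ * m₁ ∈ T := by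
    have h1 : (RR).nw (l ++ l) ∈ (RR).H := (RR).mem_H_of_simple fun j => by
      rw [(RR).ww_append, hneg, hneg, (RR).neg_neg]
      exact (RR).pos_simple j
    rw [(RR).nw_append] at h1
    show h * (RR).nw l * (h * (RR).nw l) ∈ (RR).H
    rw [show h * (RR).nw l * (h * (RR).nw l) =
      h * ((RR).nw l * h * ((RR).nw l)⁻¹) * ((RR).nw l * (RR).nw l) by group]
    exact mul_mem (mul_mem hh ((RR).nw_conj_H l hh)) h1
  have hmnorm : m₁ ∈ Subgroup.normalizer (T : Set W) := Subgroup.mem_normalizer_fintype fun w hw =>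
    (RR).conj_H_mem hmN ((hT w).1 hw)
  set Q := T ⊔ Subgroup.zpowers m₁ with hQ
  have hQP : Q ≤ P := sup_le (le_sup_of_le_left hTB) (Subgroup.zpowers_le.2 hmP)
  have hQn : Q ≤ Subgroup.normalizer (T : Set W) := sup_le Subgroup.le_normalizer (Subgroup.zpowers_le.2 hmnorm)
  haveI := (Subgroup.normal_subgroupOf_iff_le_normalizer (le_sup_left : T ≤ Q)).2 hQn
  have hidx : 2 ∣ (T.subgroupOf Q).index := by
    rw [Subgroup.index_eq_card]
    refine dvd_trans (dvd_of_eq (orderOf_eq_prime (p := 2)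
      (x := QuotientGroup.mk' (T.subgroupOf Q) ⟨m₁, Subgroup.mem_sup_right (Subgroup.mem_zpowers m₁)⟩)
      ?_ ?_).symm) (orderOf_dvd_natCard _)
    · rw [← map_pow]
      exact (QuotientGroup.eq_one_iff _).2 (by rw [sq]; exact hsq)
    · exact fun h1 => hnotT ((QuotientGroup.eq_one_iff (N := T.subgroupOf Q)
        (⟨m₁, Subgroup.mem_sup_right (Subgroup.mem_zpowers m₁)⟩ : Q)).1 h1)
  have hQdvd : 2 * Nat.card T ∣ Nat.card Q := by
    rw [← Subgroup.card_mul_index (T.subgroupOf Q),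
      Nat.card_congr (Subgroup.subgroupOfEquivOfLe (le_sup_left : T ≤ Q)).toEquiv, mul_comm 2]
    exact Nat.mul_dvd_mul_left _ hidx
  obtain ⟨o, ho, hod⟩ := hP
  have := Nat.dvd_of_mul_dvd_mul_right Nat.card_pos (hQdvd.trans ((Subgroup.card_dvd_of_le hQP).trans hod))
  obtain ⟨o', rfl⟩ := ho
  omega

/-- Conjugation by a representative of the longest element exchanges `X_r` and `X₋ᵣ`. -/
theorem maps_long {w₀ : chevG2.group F} {l : List (Fin chevG2.rank)} (hw : (w₀ : GL chevG2.Idx F) = (RR).nw l)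
    (hl : ∀ q, (RR).ww l q = (RR).neg q) (q : Fin chevG2.nroots) :
    Maps (MulAut.conj w₀) ((RR).U q) ((RR).U ((RR).neg q)) := fun y => by
  rw [MulAut.conj_apply, Subgroup.coe_mul, Subgroup.coe_mul, InvMemClass.coe_inv, hw, ← hl q, ← (RR).map_conj_U,
    RGD.RootData.mem_map_conj]
  simp [mul_assoc]

/-- The transported involution again permutes the fundamental root subgroups. -/
theorem fix_opposite (hθ : Fix θ π) {w₀ : chevG2.group F} {l : List (Fin chevG2.rank)}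
    (hw : (w₀ : GL chevG2.Idx F) = (RR).nw l) (hl : ∀ q, (RR).ww l q = (RR).neg q) :
    Fix (MulAut.conj w₀ * θ * (MulAut.conj w₀)⁻¹) π := by
  intro i
  have hm := fun q => maps_long hD hR hw hl q
  constructor
  · have h1 := hm ((RR).neg ((RR).simple i))
    rw [(RR).neg_neg] at h1
    exact (h1.symm.trans (hθ i).2).trans (by
      have h2 := hm ((RR).neg ((RR).simple (π i)))
      rw [(RR).neg_neg] at h2
      exact h2)
  · exact ((hm ((RR).simple i)).symm.trans (hθ i).1).trans (hm ((RR).simple (π i)))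

/-- The criterion for an involution exchanging the nodes. -/
theorem g2_crit_standard (h2 : r ≠ 2) (hπ : π ≠ 1) (hθ : Fix θ π) (hθ2 : θ ^ 2 = 1) : Crit 2 θ := by
  have hG : (RR).G = chevG2.group F := chev_G hD hR
  have hlist : chevG2 ∈ [chevG2, chevB2, chevD4, chevF4, chevE6, chevE7, chevE8] := by simp
  obtain ⟨l, hl⟩ := g2_long_word hD hR (F := F)
  let w₀ : chevG2.group F := ⟨(RR).nw l, hG ▸ (RR).N_le_G ((RR).nw_mem_N l)⟩
  set θ₂ := MulAut.conj w₀ * θ * (MulAut.conj w₀)⁻¹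
  have hθ₂ : Fix θ₂ π := fix_opposite hD hR hθ (w₀ := w₀) rfl hl
  have hθ₂2 : θ₂ ^ 2 = 1 := by rw [conj_pow, hθ2, mul_one, mul_inv_cancel]
  have hfix₂ : ∀ k, k ∈ fixK θ₂ ↔ w₀⁻¹ * k * w₀ ∈ fixK θ := fun k => by
    rw [← map_fixK, Subgroup.mem_map_equiv, MulAut.conj_symm_apply]
  have hUV : ∀ y : chevG2.group F, (y : GL chevG2.Idx F) ∈ (RR).Upos ↔
      ((w₀ * y * w₀⁻¹ : chevG2.group F) : GL chevG2.Idx F) ∈ (RR).Vneg := fun y => by
    rw [Subgroup.coe_mul, Subgroup.coe_mul, InvMemClass.coe_inv, ← (RR).map_conj_long (l := l) fun q hq => by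
      rw [hl, (RR).pos_neg]; exact not_not_intro hq, RGD.RootData.mem_map_conj]
    simp [w₀, mul_assoc]
  obtain ⟨f, hf, hu⟩ := exists_fixed_regular hD hR h2 hπ hθ hθ2
  obtain ⟨u, huW, huU, hua, hub⟩ := hu 1
  have hf1 : f 0 = 0 := by
    obtain ⟨u', hu'W, hu'U, hu'a, hu'b⟩ := hu 0
    obtain ⟨-, hba⟩ := swap_nodes hπ
    have h1 := (sym_extGL hD hR hθ).map_Udel nodeA hu'a
    rw [(swap_nodes hπ).1, extGL_coe, map_mul, map_inv, gx_zero, map_one, hu'W] at h1
    refine coord_unique hD hR hu'b ?_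
    rwa [gx_zero]
  have hf0 : f 1 ≠ 0 := by
    intro h0
    have h1 := (sym_extGL hD hR hθ).map_Udel nodeB hub
    rw [(swap_nodes hπ).2, extGL_coe, map_mul, map_inv, h0, gx_zero, map_one, huW] at h1
    refine one_ne_zero (coord_unique hD hR hua ?_)
    rwa [gx_zero]
  have hreg : ∀ i, (u : GL chevG2.Idx F) ∉ (RR).Udel i := by
    intro i hi
    rcases node_cases i with rfl | rfl
    · exact one_ne_zero (coord_unique hD hR (s := (1 : F)) hua (by rwa [gx_zero, inv_one, one_mul]))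
    · exact hf0 (coord_unique hD hR hub (by rwa [gx_zero, inv_one, one_mul]))
  refine ⟨fun h => ?_, conj_injective hD hR F, fun _ N hN hn hc => ?_, fun _ y hy hk => ?_⟩
  · have h1 : u ∈ fixK θ := huW
    rw [h, Subgroup.mem_bot] at h1
    exact hreg nodeA (h1 ▸ one_mem _)
  · have hB := normal_odd_le_B hD hR h2 hπ hθ hθ2 hN hn hc
    set N₂ := N.map (MulAut.conj w₀).toMonoidHom
    have hB₂ := normal_odd_le_B hD hR h2 hπ hθ₂ hθ₂2 (N := N₂)
      (map_fixK (MulAut.conj w₀) θ ▸ Subgroup.map_mono hN)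
      (by
        intro g hg _ ⟨n, hn', e⟩
        refine ⟨(w₀⁻¹ * g * w₀) * n * (w₀⁻¹ * g * w₀)⁻¹, hn _ ((hfix₂ g).1 hg) n hn', ?_⟩
        rw [← e]
        simp [mul_assoc])
      (by rwa [Subgroup.card_map_of_injective (MulEquiv.injective _)])
    have hH : ∀ n ∈ N, (n : GL chevG2.Idx F) ∈ (RR).H := by
      intro n hn'
      obtain ⟨v, hv, h, hh, e⟩ := (RR).exists_B (hB n hn')
      have hvG : v ∈ chevG2.group F := hG ▸ (RR).B_le_G ((RR).Upos_le_B hv)
      have h1 := hB₂ _ ⟨n, hn', rfl⟩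
      simp only [MulEquiv.coe_toMonoidHom, MulAut.conj_apply, Subgroup.coe_mul, InvMemClass.coe_inv, e] at h1
      have h3 : (RR).nw l * v * ((RR).nw l)⁻¹ ∈ (RR).B := by
        have h4 := mul_mem h1 (inv_mem ((RR).H_le_B ((RR).nw_conj_H l hh)))
        rwa [show (w₀ : GL chevG2.Idx F) * (v * h) * (w₀ : GL chevG2.Idx F)⁻¹ *
          ((RR).nw l * h * ((RR).nw l)⁻¹)⁻¹ = (RR).nw l * v * ((RR).nw l)⁻¹ by simp only [w₀]; group] at h4
      have h5 : (RR).nw l * v * ((RR).nw l)⁻¹ ∈ (RR).Vneg := by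
        have := (hUV ⟨v, hvG⟩).1 hv
        simpa [w₀] using this
      rw [conj_eq_one_iff.1 ((RR).eq_one_of_B_Vneg h3 h5)] at e
      rw [e, one_mul]
      exact hh
    refine (Subgroup.eq_bot_iff_forall _).2 fun n hn' => ?_
    -- `n` commutes with the regular element
    have hnH := hH n hn'
    have hcomm : n * u * n⁻¹ = u := by
      have hz : n * u * n⁻¹ * u⁻¹ ∈ N := by
        rw [show n * u * n⁻¹ * u⁻¹ = n * (u * n⁻¹ * u⁻¹) by group]
        exact mul_mem hn' (hn u huW _ (inv_mem hn'))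
      have hzU : ((n * u * n⁻¹ * u⁻¹ : chevG2.group F) : GL chevG2.Idx F) ∈ (RR).Upos := by
        rw [Subgroup.coe_mul, Subgroup.coe_mul, Subgroup.coe_mul, InvMemClass.coe_inv, InvMemClass.coe_inv]
        exact mul_mem ((RR).H_conj_span _ hnH _ huU) (inv_mem huU)
      refine mul_inv_eq_one.1 (Subtype.ext ?_)
      rw [OneMemClass.coe_one, ← Subgroup.mem_bot, ← (RR).U_inf_H]
      exact ⟨hzU, hH _ hz⟩
    have hcomm' : n⁻¹ * u * n = u := by
      rw [mul_assoc, inv_mul_eq_iff_eq_mul, ← mul_inv_eq_iff_eq_mul.1 hcomm]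
    obtain ⟨c, hc⟩ := conj_diag_eq hD hR (x := n) hnH
    have hci : ∀ (i : Fin chevG2.rank) (t : F), t ≠ 0 →
        ((gx hD (chevG2.simple i) t)⁻¹ * u : chevG2.group F).1 ∈ (RR).Udel i → c i = 1 := by
      intro i t ht hi
      have h1 : ((gx hD (chevG2.simple i) ((c i : F) * t))⁻¹ * u : chevG2.group F).1 ∈ (RR).Udel i := by
        have h2 := (RR).H_conj_span {s | (RR).pos s ∧ s ≠ (RR).simple i} hnH _ hi
        rw [← InvMemClass.coe_inv, ← Subgroup.coe_mul, ← Subgroup.coe_mul] at h2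
        rwa [← (diagHom_simple hD hR c i t).1, ← hc, MulAut.conj_apply,
          show (n * gx hD (chevG2.simple i) t * n⁻¹)⁻¹ * u =
            n * ((gx hD (chevG2.simple i) t)⁻¹ * (n⁻¹ * u * n)) * n⁻¹ by group,
          hcomm']
      exact Units.ext (mul_right_cancel₀ ht ((coord_unique hD hR h1 hi).trans (one_mul t).symm))
    have hc1 : c = 1 := funext fun i => by
      rcases node_cases i with rfl | rfl
      · exact hci _ 1 one_ne_zero hua
      · exact hci _ _ hf0 hub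
    exact conj_injective hD hR F (hc.trans (by rw [hc1, map_one, map_one]))
  · -- rigidity
    have key : ∀ (y : MulAut (chevG2.group F)), (∀ k ∈ fixK θ, y k = k) → Fix y 1 → y = 1 := by
      intro y hk hy
      obtain ⟨c, τ, hc⟩ := apply_of_fix hD hR hlist hy
      have hc' : ∀ (i : Fin chevG2.rank) (t : F),
          y (gx hD (chevG2.simple i) t) = gx hD (chevG2.simple i) ((c i : F) * τ t) := fun i t => by
        rw [(hc i t).1, Equiv.Perm.one_apply]
        simp [ChevalleyDatum.graphExp]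
      have hS := sym_extGL hD hR hy
      have hcoord : ∀ (i : Fin chevG2.rank) (t : F), (∃ v : chevG2.group F, v ∈ fixK θ ∧
          ((gx hD (chevG2.simple i) t)⁻¹ * v : chevG2.group F).1 ∈ (RR).Udel i) → (c i : F) * τ t = t := by
        rintro i t ⟨v, hv, hvi⟩
        have h1 := hS.map_Udel i hvi
        rw [extGL_coe, map_mul, map_inv, hc', hk v hv, Equiv.Perm.one_apply] at h1
        exact coord_unique hD hR h1 hvi
      have hA : ∀ t, (c nodeA : F) * τ t = t := fun t => by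
        obtain ⟨v, hv, -, hva, -⟩ := hu t
        exact hcoord _ t ⟨v, hv, hva⟩
      have hB : ∀ t, (c nodeB : F) * τ t = t := fun t => by
        obtain ⟨t', rfl⟩ := hf t
        obtain ⟨v, hv, -, -, hvb⟩ := hu t'
        exact hcoord _ _ ⟨v, hv, hvb⟩
      have hcA : c nodeA = 1 := Units.ext (by simpa using hA 1)
      have hτ : ∀ t, τ t = t := fun t => by simpa [hcA] using hA t
      have hcB : c nodeB = 1 := Units.ext (by simpa using hB 1)
      refine aut_ext hD hR fun i t => ?_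
      obtain ⟨h1, h2'⟩ := hc i t
      have hci : c i = 1 := by rcases node_cases i with rfl | rfl <;> assumption
      rw [h1, h2', Equiv.Perm.one_apply, hci, hτ]
      simp [ChevalleyDatum.graphExp]
    -- `y` permutes the fundamental root subgroups
    have hU : Maps y (RR).Upos (RR).Upos := maps_of_regular hD hR huU hreg (hk u huW)
    have hV : Maps y (RR).Vneg (RR).Vneg := by
      obtain ⟨f₂, -, hu₂⟩ := exists_fixed_regular hD hR h2 hπ hθ₂ hθ₂2
      obtain ⟨u₂, hu₂W, hu₂U, hu₂a, hu₂b⟩ := hu₂ 1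
      have hreg₂ : ∀ i, (u₂ : GL chevG2.Idx F) ∉ (RR).Udel i := by
        intro i hi
        rcases node_cases i with rfl | rfl
        · exact one_ne_zero (coord_unique hD hR (s := (1 : F)) hu₂a (by rwa [gx_zero, inv_one, one_mul]))
        · have h1 := (sym_extGL hD hR hθ₂).map_Udel nodeB hi
          rw [(swap_nodes hπ).2, extGL_coe, hu₂W] at h1
          exact one_ne_zero (coord_unique hD hR (s := (1 : F)) hu₂a (by rwa [gx_zero, inv_one, one_mul]))
      set y₂ := MulAut.conj w₀ * y * (MulAut.conj w₀)⁻¹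
      have hU₂ : Maps y₂ (RR).Upos (RR).Upos := maps_of_regular hD hR hu₂U hreg₂ (by
        show w₀ * y (w₀⁻¹ * u₂ * w₀) * w₀⁻¹ = u₂
        rw [hk _ ((hfix₂ u₂).1 hu₂W)]
        group)
      intro x
      have hinv : ∀ z : chevG2.group F, (z : GL chevG2.Idx F) ∈ (RR).Vneg ↔
          ((w₀ * z * w₀⁻¹ : chevG2.group F) : GL chevG2.Idx F) ∈ (RR).Upos := by
        intro z
        have hsq : (RR).nw (l ++ l) ∈ (RR).H := (RR).mem_H_of_simple fun j => by
          rw [(RR).ww_append, hl, hl, (RR).neg_neg]; exact (RR).pos_simple j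
        rw [(RR).nw_append] at hsq
        have hw2 : ((w₀ * w₀ : chevG2.group F) : GL chevG2.Idx F) ∈ (RR).H := hsq
        have hN : ∀ (h : chevG2.group F) (x : chevG2.group F), (h : GL chevG2.Idx F) ∈ (RR).H →
            ((x : GL chevG2.Idx F) ∈ (RR).Vneg → ((h * x * h⁻¹ : chevG2.group F) : GL chevG2.Idx F) ∈ (RR).Vneg) :=
          fun h x hh hx => by
            rw [Subgroup.coe_mul, Subgroup.coe_mul, InvMemClass.coe_inv]
            exact (RR).H_conj_span _ hh _ hx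
        rw [hUV]
        constructor
        · intro hz
          have := hN _ z hw2 hz
          rwa [show w₀ * w₀ * z * (w₀ * w₀)⁻¹ = w₀ * (w₀ * z * w₀⁻¹) * w₀⁻¹ by group] at this
        · intro hz
          have := hN (w₀ * w₀)⁻¹ _ (by rw [InvMemClass.coe_inv]; exact inv_mem hw2) hz
          rwa [show (w₀ * w₀)⁻¹ * (w₀ * (w₀ * z * w₀⁻¹) * w₀⁻¹) * (w₀ * w₀)⁻¹⁻¹ = z by group] at this
      rw [hinv, hinv, hU₂]
      simp [y₂, mul_assoc]
    obtain ⟨ρ, hρ⟩ := fix_of_maps hD hR hlist hU hV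
    by_cases h1 : ρ = 1
    · rw [key y hk (h1 ▸ hρ), one_pow]
    · have hρπ : ρ = π := Equiv.ext fun i => Fin.ext (by
        rw [fin_two_eq g2_facts.1 h1, fin_two_eq g2_facts.1 hπ])
      have hππ : π * π = 1 := Equiv.ext fun i => by
        rw [Equiv.Perm.mul_apply, Equiv.Perm.one_apply]
        rcases node_cases i with rfl | rfl
        · rw [(swap_nodes hπ).1, (swap_nodes hπ).2]
        · rw [(swap_nodes hπ).2, (swap_nodes hπ).1]
      have h3 : y * θ = 1 := key _ (fun k hk' => by rw [MulAut.mul_apply, mem_fixK.1 hk', hk k hk']) (by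
        have := hθ.trans (hρπ ▸ hρ)
        rw [hππ] at this
        exact this)
      rw [eq_inv_of_mul_eq_one_left h3, inv_pow, hθ2, inv_one]

/-- The criterion for G₂. -/
theorem g2_crit (hlist : chevG2 ∈ [chevG2, chevB2, chevD4, chevF4, chevE6, chevE7, chevE8]) {p : ℕ} [Fact p.Prime]
    (hp : p = 2) (hpr : p ≠ r) {β : MulAut (chevG2.group F)} (hβ : β ^ p = 1)
    (h : permHom hD hR hlist β ≠ 1) : Crit p β ∧ p ∣ Nat.card (fixK β) := by
  subst hp
  obtain ⟨α, θ, hθ, hθ2, e⟩ := exists_standard_involution hD hR hlist (Ne.symm hpr) hβ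
    fun θ _ => g2_rankOneStep hD hR h _
  refine ⟨Crit.of_conj (α := α) (e ▸ g2_crit_standard hD hR (Ne.symm hpr) h hθ hθ2), fix_dvd hβ ?_⟩
  obtain ⟨f, hr, hf⟩ := FiniteField.card F r
  rw [ChevOrder.card_G2 rfl hD]
  refine dvd_mul_of_dvd_left (dvd_mul_of_dvd_right ?_ _) _
  obtain ⟨u, hu⟩ := ((hr.odd_of_ne_two (Ne.symm hpr)).pow (n := (f : ℕ))).pow (n := 2)
  rw [hf]
  omega

end Cfsg.Agent.ChevBalance
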