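import Cfsg.Agent.Lib.ChevBalance.Swap

/-!
# The Weyl group of G₂ and the exchange of the two nodes

* `ww_val` : the action of words as a computation on indices;
* `g2_swap_fixed` : a word commuting with the exchange acts trivially or as `-1`.
-/

set_option autoImplicit false
set_option linter.style.haveILetI false
set_option maxRecDepth 4000

namespace Cfsg.Agent.ChevBalance

open Cfsg Cfsg.Lie Cfsg.Lie.ChevalleyDatum Cfsg.Agent.Chev Cfsg.Agent.ChevBN Cfsg.Agent.ChevSt
  Cfsg.Agent.ChevAut Cfsg.Agent.ChevFixed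

/-- A word acting on indices of roots. -/
def wwN (D : ChevalleyDatum) (l : List ℕ) (r : ℕ) : ℕ := l.foldr (fun i q => wN D i q) r

theorem ww_val {D : ChevalleyDatum} {M : List (List ℤ)} {d : ℤ} (hD : Good D) (hR : Roots D M d) {F : Type*}
    [Field F] (l : List (Fin D.rank)) (r : Fin D.nroots) :
    ((chevRGD hD hR F).ww l r).val = wwN D (l.map Fin.val) r.val := by
  induction l with
  | nil => rfl
  | cons i l ih =>
    show wN D i.val ((chevRGD hD hR F).ww l r).val = _
    rw [ih]
    rfl

/-- The twelve elements of the Weyl group of G₂. -/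
def w12 : List (List ℕ) :=
  [[], [0], [1], [0, 1], [1, 0], [0, 1, 0], [1, 0, 1], [0, 1, 0, 1], [1, 0, 1, 0], [0, 1, 0, 1, 0],
    [1, 0, 1, 0, 1], [0, 1, 0, 1, 0, 1]]

theorem w12_closed : (w12.all fun l => (List.range 2).all fun i => w12.any fun l' =>
    (List.range chevG2.nroots).all fun r => wwN chevG2 (i :: l) r == wwN chevG2 l' r &&
      wwN chevG2 ((i :: l).map (1 - ·)) r == wwN chevG2 (l'.map (1 - ·)) r) = true := by decide +kernel

theorem w12_fixed : (w12.all fun l =>
    !((List.range chevG2.nroots).all fun r => wwN chevG2 l r == wwN chevG2 (l.map (1 - ·)) r) ||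
      (List.range chevG2.nroots).all (fun r => wwN chevG2 l r == r) ||
      (List.range chevG2.nroots).all fun r => wwN chevG2 l r == chevG2.neg r) = true := by decide +kernel

theorem g2_long : ((List.range 2).all fun i => (List.range chevG2.nroots).all fun r =>
    chevG2.isLong (wN chevG2 i r) == chevG2.isLong r && chevG2.isLong (chevG2.neg r) == chevG2.isLong r) = true := by
  decide +kernel

theorem g2_facts : chevG2.rank = 2 ∧ chevG2.isLong (chevG2.simple 0) ≠ chevG2.isLong (chevG2.simple 1) ∧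
    (List.range chevG2.nroots).all (fun r => wwN chevG2 [0, 1, 0, 1, 0, 1] r == chevG2.neg r) = true := by
  decide +kernel

theorem wwN_cons (D : ChevalleyDatum) (i : ℕ) (l : List ℕ) (r : ℕ) :
    wwN D (i :: l) r = wN D i (wwN D l r) := rfl

theorem exists_w12 (l : List ℕ) (hl : ∀ i ∈ l, i < 2) :
    ∃ l' ∈ w12, ∀ r < chevG2.nroots,
      wwN chevG2 l r = wwN chevG2 l' r ∧ wwN chevG2 (l.map (1 - ·)) r = wwN chevG2 (l'.map (1 - ·)) r := by
  induction l with
  | nil => exact ⟨[], by simp [w12], fun r _ => ⟨rfl, rfl⟩⟩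
  | cons i l ih =>
    obtain ⟨l', hl', e⟩ := ih fun j hj => hl j (List.mem_cons_of_mem _ hj)
    have h1 := List.all_eq_true.1 w12_closed l' hl'
    obtain ⟨l'', hl'', h2⟩ := List.any_eq_true.1 (List.all_eq_true.1 h1 i (List.mem_range.2 (hl i List.mem_cons_self)))
    refine ⟨l'', hl'', fun r hr => ?_⟩
    have h3 := List.all_eq_true.1 h2 r (List.mem_range.2 hr)
    simp only [Bool.and_eq_true, beq_iff_eq, List.map_cons, wwN_cons] at h3
    rw [List.map_cons, wwN_cons, wwN_cons, (e r hr).1, (e r hr).2]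
    exact h3

/-- A word commuting with the exchange of the nodes acts trivially or as `-1`. -/
theorem g2_swap_fixed {M : List (List ℤ)} {d : ℤ} (hD : Good chevG2) (hR : Roots chevG2 M d) {F : Type*} [Field F]
    {π : Equiv.Perm (Fin chevG2.rank)} (hπ : π ≠ 1) (l : List (Fin chevG2.rank))
    (h : ∀ r, (chevRGD hD hR F).ww l r = (chevRGD hD hR F).ww (l.map π) r) :
    (∀ r, (chevRGD hD hR F).ww l r = r) ∨ ∀ r, (chevRGD hD hR F).ww l r = (chevRGD hD hR F).neg r := by
  have hr2 := g2_facts.1
  have hv := fin_two_eq hr2 hπ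
  have hmap : (l.map π).map Fin.val = (l.map Fin.val).map (1 - ·) := by
    rw [List.map_map, List.map_map]
    exact List.map_congr_left fun i _ => hv i
  obtain ⟨l', hl', e⟩ := exists_w12 (l.map Fin.val) fun i hi => by
    obtain ⟨j, -, rfl⟩ := List.mem_map.1 hi
    exact hr2 ▸ j.isLt
  have h1 := List.all_eq_true.1 w12_fixed l' hl'
  simp only [Bool.or_eq_true, Bool.not_eq_true', List.all_eq_false, List.all_eq_true, List.mem_range,
    beq_iff_eq] at h1
  rcases h1 with (⟨r, hr, hne⟩ | h1) | h1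
  · exfalso
    have h2 := congrArg Fin.val (h ⟨r, hr⟩)
    rw [ww_val hD hR, ww_val hD hR, hmap, (e r hr).1, (e r hr).2] at h2
    exact hne h2
  · exact .inl fun r => Fin.ext (by rw [ww_val hD hR, (e r r.isLt).1, h1 r r.isLt])
  · exact .inr fun r => Fin.ext (by rw [ww_val hD hR, (e r r.isLt).1, h1 r r.isLt]; rfl)

theorem g2_isLong_ww {M : List (List ℤ)} {d : ℤ} (hD : Good chevG2) (hR : Roots chevG2 M d) {F : Type*} [Field F]
    (l : List (Fin chevG2.rank)) (r : Fin chevG2.nroots) :
    chevG2.isLong ((chevRGD hD hR F).ww l r).val = chevG2.isLong r.val := by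
  induction l with
  | nil => rfl
  | cons i l ih =>
    show chevG2.isLong (wN chevG2 i.val ((chevRGD hD hR F).ww l r).val) = _
    have h := List.all_eq_true.1 (List.all_eq_true.1 g2_long i.val
      (List.mem_range.2 (g2_facts.1 ▸ i.isLt))) ((chevRGD hD hR F).ww l r).val
      (List.mem_range.2 ((chevRGD hD hR F).ww l r).isLt)
    simp only [Bool.and_eq_true, beq_iff_eq] at h
    rw [h.1, ih]

/-- The rank one steps do not occur. -/
theorem g2_rankOneStep {M : List (List ℤ)} {d : ℤ} (hD : Good chevG2) (hR : Roots chevG2 M d) {F : Type*} [Field F]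
    {π : Equiv.Perm (Fin chevG2.rank)} (hπ : π ≠ 1) (θ : GL chevG2.Idx F → GL chevG2.Idx F) :
    (chevRGD hD hR F).RankOneStep θ π := by
  intro l j hw
  exfalso
  have h1 := g2_isLong_ww hD hR l ((chevRGD hD hR F).simple j) (F := F)
  rw [hw] at h1
  change chevG2.isLong (chevG2.neg (chevG2.simple (π j).val)) = chevG2.isLong (chevG2.simple j.val) at h1
  have h := List.all_eq_true.1 (List.all_eq_true.1 g2_long 0 (List.mem_range.2 (by norm_num)))
    (chevG2.simple (π j).val) (List.mem_range.2 (hD.simple_lt _ (π j).isLt))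
  simp only [Bool.and_eq_true, beq_iff_eq] at h
  rw [h.2, fin_two_eq g2_facts.1 hπ j] at h1
  obtain h0 | h0 : j.val = 0 ∨ j.val = 1 := by have := j.isLt; have := g2_facts.1; omega
  · rw [h0] at h1; exact g2_facts.2.1 h1.symm
  · rw [h0] at h1; exact g2_facts.2.1 h1

/-- The longest element. -/
theorem g2_long_word {M : List (List ℤ)} {d : ℤ} (hD : Good chevG2) (hR : Roots chevG2 M d) {F : Type*} [Field F] :
    ∃ l : List (Fin chevG2.rank), ∀ r, (chevRGD hD hR F).ww l r = (chevRGD hD hR F).neg r := by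
  have hr2 := g2_facts.1
  let a : Fin chevG2.rank := ⟨0, by omega⟩
  let b : Fin chevG2.rank := ⟨1, by omega⟩
  refine ⟨[a, b, a, b, a, b], fun r => Fin.ext ?_⟩
  rw [ww_val hD hR]
  exact beq_iff_eq.1 (List.all_eq_true.1 g2_facts.2.2 r.val (List.mem_range.2 r.isLt))

end Cfsg.Agent.ChevBalance
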