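import Cfsg.Agent.Lib.ChevBalance.Perm
import Cfsg.Agent.Lib.ChevBalance.G2
import Cfsg.Agent.Lib.ChevBalance.D4
import Cfsg.Agent.Lib.ChevBalance.E6Descent

/-!
# The criterion for the exceptional Chevalley groups and B₂, D₄

`balance_iff` : the largest `p'` normal subgroup of the centraliser of an outer automorphism of prime order,
not inner-diagonal, is nontrivial exactly for field automorphisms with fixed points of order prime to `p`.
-/

set_option autoImplicit false
set_option linter.style.haveILetI false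

namespace Cfsg.Agent.ChevBalance

open Cfsg Cfsg.Lie Cfsg.Lie.ChevalleyDatum Cfsg.Agent.Chev Cfsg.Agent.ChevBN Cfsg.Agent.ChevSt
  Cfsg.Agent.ChevAut Cfsg.Agent.ChevFixed Cfsg.Agent.LocalBalance

universe u

variable {F : Type u} [Field F] [Fintype F]

/-- Automorphisms moving the diagram satisfy the criterion and have fixed points of order divisible by `p`. -/
theorem moving_crit {D : ChevalleyDatum} {M : List (List ℤ)} {d : ℤ} (hD : Good D) (hR : Roots D M d)
    (hlist : D ∈ [chevG2, chevB2, chevD4, chevF4, chevE6, chevE7, chevE8]) {r : ℕ} [Fact r.Prime] [CharP F r]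
    {p : ℕ} [Fact p.Prime] (hpr : p ≠ r) {β : MulAut (D.group F)} (hord : orderOf β = p)
    (h : permHom hD hR hlist β ≠ 1) : Crit p β ∧ p ∣ Nat.card (fixK β) := by
  have hβ : β ^ p = 1 := hord ▸ pow_orderOf_eq_one β
  rcases moving_cases hD hR hlist hpr hβ h with ⟨rfl, hp⟩ | ⟨rfl, hp⟩ | ⟨rfl, -⟩
  · exact g2_crit hD hR hlist hp hpr hβ h
  · refine E6.e6_crit hlist hp hpr hβ fun h1 => h ?_
    obtain ⟨x, c, σ, e⟩ := exists_decomp ChevFoldF4.e6Good rootsE6 hlist h1
    exact permHom_eq_one_of_decomp hD hR hlist ((innerDiag_iff ChevFoldF4.e6Good rootsE6 _).2 ⟨x, c, rfl⟩)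
      ((entryField_iff ChevFoldF4.e6Good rootsE6 _).2 ⟨σ, rfl⟩) e
  · exact d4_crit hD hR hlist hpr hord h

/-- The criterion. -/
theorem balance_iff {D : ChevalleyDatum} (hlist : D ∈ [chevG2, chevB2, chevD4, chevF4, chevE6, chevE7, chevE8])
    {r : ℕ} [Fact r.Prime] [CharP F r] (𝒢 : Subgroup (MulAut (D.group F)))
    (hinn : ∀ k : D.group F, MulAut.conj k ∈ 𝒢) {p : ℕ} [Fact p.Prime] (hpr : p ≠ r) (β : MulAut (D.group F))
    (hord : orderOf β = p) (hnot : ¬ D.IsInnerDiagonalAutOn (D.group F) β) :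
    Cfsg.pPrimeCore p ↥(𝒢 ⊓ Subgroup.centralizer {β}) ≠ ⊥ ↔
      ((∃ γ φ : MulAut (D.group F), D.IsInnerDiagonalAutOn (D.group F) γ ∧ IsEntrywiseFieldAutOn (D.group F) φ ∧
          β = φ.trans γ) ∧ Nat.Coprime p (Nat.card (fixK β))) := by
  have hD := good_of_mem hlist
  obtain ⟨M, d, hR⟩ := exists_roots D hlist
  have hβ : β ^ p = 1 := hord ▸ pow_orderOf_eq_one β
  by_cases h : permHom hD hR hlist β = 1
  · obtain ⟨hc, hex⟩ := crit_caseA hD hR hlist hpr hβ hnot h
    exact (core_ne_bot_iff hc 𝒢 hinn).trans ⟨fun h' => ⟨hex, h'⟩, And.right⟩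
  · obtain ⟨hc, hdvd⟩ := moving_crit hD hR hlist hpr hord h
    refine (core_ne_bot_iff hc 𝒢 hinn).trans ⟨fun h' => ?_, fun ⟨⟨γ, φ, hγ, hφ, e⟩, _⟩ => ?_⟩
    · exact absurd hdvd ((Fact.out : p.Prime).coprime_iff_not_dvd.1 h')
    · exact absurd (permHom_eq_one_of_decomp hD hR hlist hγ hφ e) h

end Cfsg.Agent.ChevBalance
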