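import Cfsg.Agent.Lib.ChevBalance.Basic
import Cfsg.Agent.Lib.RGD.Regular
import Cfsg.Agent.Lib.RGD.AutFix

/-!
# Automorphisms fixing a regular unipotent element

* `fix_of_maps`, `maps_of_regular`, `maps_neg_of_conj` : an automorphism fixing a regular element of `U` and
  an element carrying `U` to `V` permutes the fundamental root subgroups;
* `apply_of_fix` : the action of such an automorphism on the fundamental root elements.
-/

set_option autoImplicit false
set_option linter.style.haveILetI false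

namespace Cfsg.Agent.ChevBalance

open Cfsg Cfsg.Lie Cfsg.Lie.ChevalleyDatum Cfsg.Agent.Chev Cfsg.Agent.ChevBN Cfsg.Agent.ChevSt
  Cfsg.Agent.ChevAut

variable {D : ChevalleyDatum} {M : List (List ℤ)} {d : ℤ} (hD : Good D) (hR : Roots D M d)
  {F : Type*} [Field F] [Finite F]

include hD hR

local notation "RR" => chevRGD hD hR F

/-- A fixed regular element forces `U` to be fixed. -/
theorem maps_of_regular {θ : MulAut (D.group F)} {u : D.group F} (hu : (u : GL D.Idx F) ∈ (RR).Upos)
    (hreg : ∀ i, (u : GL D.Idx F) ∉ (RR).Udel i) (hθ : θ u = u) : Maps θ (RR).Upos (RR).Upos := by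
  haveI := Fintype.ofFinite F
  obtain ⟨p, hp⟩ := CharP.exists F
  haveI := hp
  haveI : Fact p.Prime := ⟨CharP.char_is_prime F p⟩
  obtain ⟨g, hg, hm⟩ := exists_maps_conj hD hR (F := F) p θ
  have h1 := (hm u).1 hu
  rw [hθ, RGD.RootData.mem_map_conj] at h1
  have hB : g⁻¹ ∈ (RR).B := (RR).regular_mem_B hu hreg (by rw [chev_G hD hR]; exact inv_mem hg)
    (by rw [inv_inv]; exact h1)
  have hN := inv_mem (B_le_normalizer (RR) hB)
  rw [inv_inv] at hN
  have e : (RR).Upos.map (MulAut.conj g).toMonoidHom = (RR).Upos := by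
    ext x
    rw [RGD.RootData.mem_map_conj]
    have := Subgroup.mem_normalizer_iff.1 (inv_mem hN) x
    rw [inv_inv] at this
    exact this.symm
  rwa [e] at hm

omit [Finite F] in
/-- If also an element carrying `U` to `V` is fixed then `V` is fixed. -/
theorem maps_neg_of_conj {θ : MulAut (D.group F)} {n : D.group F}
    (hn : ∀ x, x ∈ (RR).Upos ↔ (n : GL D.Idx F) * x * (n : GL D.Idx F)⁻¹ ∈ (RR).Vneg) (hθ : θ n = n)
    (hU : Maps θ (RR).Upos (RR).Upos) : Maps θ (RR).Vneg (RR).Vneg := fun y => by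
  have key : ∀ z : D.group F, (z : GL D.Idx F) ∈ (RR).Vneg ↔
      ((n⁻¹ * z * n : D.group F) : GL D.Idx F) ∈ (RR).Upos := fun z => by
    rw [hn, Subgroup.coe_mul, Subgroup.coe_mul, InvMemClass.coe_inv]
    simp only [mul_assoc, mul_inv_cancel_left, mul_inv_cancel, mul_one]
  rw [key, key, hU]
  simp [map_mul, map_inv, hθ]

omit [Finite F] hR in
/-- Inner automorphisms by diagonal elements. -/
theorem fix_conj_diag {x : D.group F} (hx : (x : GL D.Idx F) ∈ D.diagonalSubgroup F) :
    Fix (MulAut.conj x) 1 := fun i => by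
  constructor <;>
  · intro y
    rw [MulAut.conj_apply, Subgroup.coe_mul, Subgroup.coe_mul, InvMemClass.coe_inv, Equiv.Perm.one_apply]
    refine ⟨fun h => toral_conj_rootSubgroup hD hx h, fun h => ?_⟩
    simpa [mul_assoc] using toral_conj_rootSubgroup hD (inv_mem hx) h

variable (hlist : D ∈ [chevG2, chevB2, chevD4, chevF4, chevE6, chevE7, chevE8])

include hlist in
/-- An automorphism fixing `U` and `V` permutes the fundamental root subgroups. -/
theorem fix_of_maps {θ : MulAut (D.group F)} (hU : Maps θ (RR).Upos (RR).Upos)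
    (hV : Maps θ (RR).Vneg (RR).Vneg) : ∃ π, Fix θ π := by
  obtain ⟨π, -, x, hx⟩ := exists_fix hD hR hlist θ
  obtain ⟨hU', hV'⟩ := hx.maps_pair hD hR
  obtain ⟨l, hl⟩ := exists_long hD hR (F := F)
  have hK := chev_G hD hR (F := F)
  have hxH : (x : GL D.Idx F) ∈ (RR).H := by
    refine RGD.AutFix.mem_H_of_maps (RR) hl (hK.symm ▸ x.2) (fun y hy => ?_) (fun y hy => ?_)
    · have hyK : y ∈ D.group F := Upos_le_K (RR) hl hK hy
      have h1 : ((θ.symm ⟨y, hyK⟩ : D.group F) : GL D.Idx F) ∈ (RR).Upos := hU.comap hy hyK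
      have h2 := (hU' _).1 h1
      simpa using h2
    · have hyK : y ∈ D.group F := Vneg_le_K (RR) hl hK hy
      have h1 : ((θ.symm ⟨y, hyK⟩ : D.group F) : GL D.Idx F) ∈ (RR).Vneg := hV.comap hy hyK
      have h2 := (hV' _).1 h1
      simpa using h2
  refine ⟨π, ?_⟩
  have h := hx.trans (fix_conj_diag hD (x := x⁻¹) (inv_mem (show (x : GL D.Idx F) ∈ D.diagonalSubgroup F from hxH)))
  rw [one_mul] at h
  convert h using 1
  refine MulEquiv.ext fun g => ?_
  simp [mul_assoc]

omit [Finite F] in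
/-- Conjugation by a diagonal element is a diagonal automorphism. -/
theorem conj_diag_eq {x : D.group F} (hx : (x : GL D.Idx F) ∈ D.diagonalSubgroup F) :
    ∃ c, MulAut.conj x = diagHom hD hR c := by
  obtain ⟨c₀, hc₀⟩ := (ChevOrder.torusHom_range (F := F) hD).ge hx
  refine ⟨fun i => ChevOrder.chi c₀ (D.simple i.val), MulEquiv.ext fun g => Subtype.ext ?_⟩
  rw [coe_diagHom, MulAut.conj_apply, Subgroup.coe_mul, Subgroup.coe_mul, InvMemClass.coe_inv, ← hc₀,
    torusHom_eq_charUnit, charUnit_simple_ext hR (chi_isRootCharacter hD c₀) (chiOf_isRootCharacter hD hR _)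
      (fun i => (chiOf_simple hD hR (fun i => ChevOrder.chi c₀ (D.simple i.val)) i).symm) hD]

include hlist in
/-- The action of an automorphism permuting the fundamental root subgroups. -/
theorem apply_of_fix {θ : MulAut (D.group F)} {π : Equiv.Perm (Fin D.rank)} (h : Fix θ π) :
    ∃ (c : Fin D.rank → Fˣ) (σ : F ≃+* F), ∀ (i : Fin D.rank) (t : F),
      θ (gx hD (D.simple i) t) = gx hD (D.simple (π i)) ((c (π i) : F) * σ t ^ D.graphExp (ringChar F) i (π i)) ∧
      θ (gx hD (D.neg (D.simple i)) t) =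
        gx hD (D.neg (D.simple (π i))) (((c (π i))⁻¹ : Fˣ) * σ t ^ D.graphExp (ringChar F) i (π i)) := by
  obtain ⟨x, c, g, σ, π', -, hg, e⟩ := exists_parts hD hR hlist θ
  have hfg : Fix g π' := fix_of_apply hD (fun i => (bijective_pow hD i (π' i)).2)
    (fun i => (bijective_pow hD i (π' i)).2) hg
  have hrest := ((fix_fieldHom hD hR σ).trans hfg).trans (fix_diagHom hD hR c)
  rw [one_mul, mul_one] at hrest
  have hconj : Fix (MulAut.conj x) (π * π'⁻¹) := by
    convert hrest.symm.trans h using 1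
    rw [e]
    refine MulEquiv.ext fun y => ?_
    simp
  obtain ⟨hxH, hπ⟩ := mem_H_of_fix hD hR hconj
  rw [mul_inv_eq_one] at hπ
  subst hπ
  obtain ⟨c', hc'⟩ := conj_diag_eq hD hR hxH
  rw [hc', ← map_mul] at e
  refine ⟨c' * c, σ, fun i t => ?_⟩
  have hi := hD.simple_lt _ i.isLt
  have hpi := hD.simple_lt _ (π i).isLt
  subst e
  simp only [MulAut.mul_apply, fieldHom_apply hD hR σ hi, fieldHom_apply hD hR σ (hD.neg_lt _ hi), (hg i _).1,
    (hg i _).2, (diagHom_simple hD hR _ (π i) _).1, (diagHom_simple hD hR _ (π i) _).2, and_self]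

end Cfsg.Agent.ChevBalance
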